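import Groth.Agent.IndCoh.Coh
import Groth.Agent.FPColim.Basic
import Mathlib.CategoryTheory.ObjectProperty.Ind

/-!
# Ind-coherent modules: directed families of coherent modules with coherent kernels
-/

set_option autoImplicit false
set_option backward.isDefEq.respectTransparency false
set_option backward.isDefEq.respectTransparency.types false
set_option linter.style.haveILetI false

universe u

open CategoryTheory CategoryTheory.Limits AlgebraicGeometry TopologicalSpace Opposite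

noncomputable section

namespace Groth.Agent.IndCoh

open Groth.Agent.FModLib

section general

variable {X : TopCat.{u}} {O : TopCat.Sheaf CommRingCat.{u} X} {F G : ModSite.Mod O}

theorem hom_ext_app {φ ψ : F ⟶ G}
    (h : ∀ (U : Opens X) (s : ModSite.sect F U), φ.val.app (op U) s = ψ.val.app (op U) s) : φ = ψ :=
  SheafOfModules.hom_ext (PresheafOfModules.hom_ext fun W => ModuleCat.hom_ext (LinearMap.ext (h W.unop)))

/-- A filtered cocone of monomorphisms jointly locally surjective is a colimit. -/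
theorem isColimit_of_mono {J : Type u} [SmallCategory J] [IsFiltered J] {D : J ⥤ ModSite.Mod O} (c : Cocone D)
    (hm : ∀ j, Mono (c.ι.app j)) (hs : LocSurj (fun j => c.ι.app j)) : Nonempty (IsColimit c) := by
  let d : colimit D ⟶ c.pt := colimit.desc D c
  have hd : ∀ j, colimit.ι D j ≫ d = c.ι.app j := fun j => colimit.ι_desc c j
  have hmono : Mono d := Preadditive.mono_of_cancel_zero _ fun {Z} k hk0 => hom_ext_app fun U z => by
    refine eq_of_locally (colimit D) fun x hx => ?_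
    obtain ⟨j, V, e, hxV, w, hw⟩ := exists_stage (colimit.isColimit D) (k.val.app (op U) z) x hx
    refine ⟨V, e, hxV, ?_⟩
    have h0 : (c.ι.app j).val.app (op V) w = 0 := by
      refine (app_congr (hd j) V w).symm.trans ?_
      refine (congrArg (fun r => d.val.app (op V) r) hw).trans ?_
      refine (mapp_res _ d e _).trans ?_
      exact (congrArg (mres _ e) (app_congr hk0 U z)).trans (mres_zero e)
    haveI := hm j
    have h1 : w = 0 := sect_injective_of_mono (c.ι.app j) V (h0.trans (map_zero _).symm)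
    refine hw.symm.trans ?_
    rw [h1, app_zero, mres_zero]
    exact map_zero _
  have hepi : Epi d := Preadditive.epi_of_cancel_zero _ fun {Z} k hk0 => hom_ext_app fun U s => by
    refine eq_of_locally Z fun x hx => ?_
    obtain ⟨j, V, e, hxV, t, ht⟩ := hs U s x hx
    refine ⟨V, e, hxV, ?_⟩
    have hz : c.ι.app j ≫ k = 0 := by rw [← hd j, Category.assoc, hk0, comp_zero]
    rw [← mapp_res, ← ht, app_zero, mres_zero]
    exact app_congr hz V t
  haveI : IsIso d := isIso_of_mono_of_epi d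
  haveI : IsIso ((colimit.isColimit D).desc c) := ‹IsIso d›
  exact ⟨(colimit.isColimit D).ofPointIso⟩

end general

variable {𝔛 : FSch.Sys.{u}} (h𝔛 : 𝔛.IsLocNoethFormal) {𝔉 : FSch.ModF 𝔛 h𝔛.1}

section lists

variable {α : Type u} (C : α → FSch.ModF 𝔛 h𝔛.1)

/-- Finite sums of a family. -/
def lobj : List α → FSch.ModF 𝔛 h𝔛.1
  | [] => kernel (𝟙 (FSch.unitF 𝔛 h𝔛.1))
  | a :: L => C a ⊞ lobj L

variable {C} (f : ∀ a, C a ⟶ 𝔉)

/-- The map out of a finite sum. -/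
def lmap : ∀ L, lobj h𝔛 C L ⟶ 𝔉
  | [] => 0
  | a :: L => biprod.desc (f a) (lmap L)

theorem isCohF_lobj (hC : ∀ a, FSch.IsCohF 𝔛 h𝔛.1 (C a)) : ∀ L, FSch.IsCohF 𝔛 h𝔛.1 (lobj h𝔛 C L)
  | [] => isCohF_zero h𝔛
  | a :: L => isCohF_biprod h𝔛 (hC a) (isCohF_lobj hC L)

theorem exists_mem_factor {a : α} : ∀ {L : List α}, a ∈ L → ∃ g : C a ⟶ lobj h𝔛 C L, g ≫ lmap h𝔛 f L = f a
  | b :: L, h => by
    rcases List.mem_cons.mp h with rfl | h
    · exact ⟨biprod.inl, biprod.inl_desc _ _⟩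
    · obtain ⟨g, hg⟩ := exists_mem_factor h
      exact ⟨g ≫ biprod.inr, (Category.assoc _ _ _).trans ((congrArg (g ≫ ·) (biprod.inr_desc _ _)).trans hg)⟩

theorem exists_subset_factor (L' : List α) : ∀ {L : List α}, (∀ a ∈ L, a ∈ L') →
    ∃ g : lobj h𝔛 C L ⟶ lobj h𝔛 C L', g ≫ lmap h𝔛 f L' = lmap h𝔛 f L
  | [], _ => ⟨0, zero_comp⟩
  | a :: L, h => by
    obtain ⟨g₁, hg₁⟩ := exists_mem_factor h𝔛 f (h a List.mem_cons_self)
    obtain ⟨g₂, hg₂⟩ := exists_subset_factor L' (fun b hb => h b (List.mem_cons_of_mem a hb))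
    refine ⟨biprod.desc g₁ g₂, biprod.hom_ext' _ _ ?_ ?_⟩
    · exact (biprod.inl_desc_assoc _ _ _).trans (hg₁.trans (biprod.inl_desc _ _).symm)
    · exact (biprod.inr_desc_assoc _ _ _).trans (hg₂.trans (biprod.inr_desc _ _).symm)

end lists

/-- A module generated by a directed family of coherent modules with coherent kernels. -/
def Gd (𝔉 : FSch.ModF 𝔛 h𝔛.1) : Prop :=
  ∃ (α : Type u) (_ : Nonempty α) (C : α → FSch.ModF 𝔛 h𝔛.1) (f : ∀ a, C a ⟶ 𝔉),
    (∀ a, FSch.IsCohF 𝔛 h𝔛.1 (C a)) ∧ (∀ a, FSch.IsCohF 𝔛 h𝔛.1 (kernel (f a))) ∧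
    (∀ a b, ∃ c, (∃ g : C a ⟶ C c, g ≫ f c = f a) ∧ ∃ g : C b ⟶ C c, g ≫ f c = f b) ∧
    LocSurj (O := 𝔛.Osh h𝔛.1) f

theorem Gd.of_lists {α : Type u} {C : α → FSch.ModF 𝔛 h𝔛.1} (f : ∀ a, C a ⟶ 𝔉)
    (hC : ∀ a, FSch.IsCohF 𝔛 h𝔛.1 (C a)) (hs : LocSurj (O := 𝔛.Osh h𝔛.1) fun L => lmap h𝔛 f L)
    (hk : ∀ L, FSch.IsCohF 𝔛 h𝔛.1 (kernel (lmap h𝔛 f L))) : Gd h𝔛 𝔉 :=
  ⟨List α, ⟨[]⟩, lobj h𝔛 C, lmap h𝔛 f, isCohF_lobj h𝔛 hC, hk, fun L L' =>
    ⟨L ++ L', exists_subset_factor h𝔛 f _ (fun _ h => List.mem_append_left _ h),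
      exists_subset_factor h𝔛 f _ (fun _ h => List.mem_append_right _ h)⟩, hs⟩

theorem locSurj_lists {α : Type u} {C : α → FSch.ModF 𝔛 h𝔛.1} (f : ∀ a, C a ⟶ 𝔉)
    (hs : LocSurj (O := 𝔛.Osh h𝔛.1) f) : LocSurj (O := 𝔛.Osh h𝔛.1) fun L => lmap h𝔛 f L := by
  intro U s x hx
  obtain ⟨a, V, e, hxV, t, ht⟩ := hs U s x hx
  obtain ⟨g, hg⟩ := exists_mem_factor h𝔛 f (L := [a]) List.mem_cons_self
  exact ⟨[a], V, e, hxV, g.val.app (op V) t, (app_congr hg V t).trans ht⟩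

/-- Coherent modules are good. -/
theorem Gd.of_coh (h : FSch.IsCohF 𝔛 h𝔛.1 𝔉) : Gd h𝔛 𝔉 :=
  ⟨PUnit, ⟨⟨⟩⟩, fun _ => 𝔉, fun _ => 𝟙 𝔉, fun _ => h, fun _ => isCohF_kernel h𝔛 _ h h,
    fun _ _ => ⟨⟨⟩, ⟨𝟙 _, Category.id_comp _⟩, ⟨𝟙 _, Category.id_comp _⟩⟩,
    fun U s x hx => ⟨⟨⟩, U, le_rfl, hx, s, (mres_rfl _ s).symm⟩⟩

theorem Gd.of_iso {𝔊 : FSch.ModF 𝔛 h𝔛.1} (e : 𝔉 ≅ 𝔊) (h : Gd h𝔛 𝔉) : Gd h𝔛 𝔊 := by
  obtain ⟨α, hne, C, f, hC, hk, hd, hs⟩ := h
  refine ⟨α, hne, C, fun a => f a ≫ e.hom, hC,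
    fun a => isCohF_of_iso h𝔛 (kernelCompMono (f a) e.hom).symm (hk a), fun a b => ?_, fun U s x hx => ?_⟩
  · obtain ⟨c, ⟨g, hg⟩, ⟨g', hg'⟩⟩ := hd a b
    exact ⟨c, ⟨g, by rw [← Category.assoc, hg]⟩, ⟨g', by rw [← Category.assoc, hg']⟩⟩
  · obtain ⟨a, V, ee, hxV, t, ht⟩ := hs U (e.inv.val.app (op U) s) x hx
    refine ⟨a, V, ee, hxV, t, ?_⟩
    rw [comp_app, ht, mapp_res]
    exact congrArg (mres 𝔊 ee) (app_congr e.inv_hom_id U s)

/-- Kernels of maps from coherent modules to good modules are coherent. -/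
theorem Gd.kernel (h𝔉 : Gd h𝔛 𝔉) {ℭ : FSch.ModF 𝔛 h𝔛.1} (hℭ : FSch.IsCohF 𝔛 h𝔛.1 ℭ) (θ : ℭ ⟶ 𝔉) :
    FSch.IsCohF 𝔛 h𝔛.1 (Limits.kernel θ) := by
  obtain ⟨α, _, C, f, hC, hk, hd, hs⟩ := h𝔉
  refine isCohF_kernel_of_local h𝔛 hℭ θ fun x => ?_
  obtain ⟨U, hU, hxU, -⟩ := exists_affine_le (𝔛 := 𝔛) (W := ⊤) (x := x) trivial
  obtain ⟨n, m, t, g, hP⟩ := affPres h𝔛 hℭ hU
  have key : ∀ F : Finset (ULift.{u} (Fin n)), ∃ (a : α) (V : (𝔛.X 0).Opens) (e : V ≤ U), x ∈ V ∧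
      ∀ l ∈ F, ∃ b : FSect h𝔛 (C a) V, (f a).val.app (op V) b = mres 𝔉 e (θ.val.app (op U) (t l)) := by
    intro F
    classical
    induction F using Finset.induction with
    | empty => exact ⟨Classical.arbitrary α, U, le_rfl, hxU, fun l hl => absurd hl (Finset.notMem_empty l)⟩
    | insert i F _ ih =>
      obtain ⟨a, V, e, hxV, h⟩ := ih
      obtain ⟨a', V', e', hxV', b', hb'⟩ := hs V (mres 𝔉 e (θ.val.app (op U) (t i))) x hxV
      obtain ⟨c, ⟨g₁, hg₁⟩, ⟨g₂, hg₂⟩⟩ := hd a a'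
      refine ⟨c, V', e'.trans e, hxV', fun l hl => ?_⟩
      rcases Finset.mem_insert.mp hl with rfl | hl
      · exact ⟨g₂.val.app (op V') b', (app_congr hg₂ V' b').trans (hb'.trans (mres_mres _ _ _ _))⟩
      · obtain ⟨b, hb⟩ := h l hl
        refine ⟨mres _ e' (g₁.val.app (op V) b), ?_⟩
        refine (mapp_res _ (f c) e' _).trans ?_
        rw [← comp_app, app_congr hg₁, hb, mres_mres]
  obtain ⟨a, V, e, hxV, hb⟩ := key Finset.univ
  obtain ⟨U', hU', hxU', e'⟩ := exists_affine_le (𝔛 := 𝔛) hxV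
  refine ⟨U', hU', n, m, _, _, hxU', hP.mono (e'.trans e), _, Abelian.factorThruCoimage (f a),
    isCohF_coimage h𝔛 (hC a) (f a) (hk a), inferInstance, fun l => ?_⟩
  obtain ⟨b, hb⟩ := hb l (Finset.mem_univ l)
  refine ⟨(Abelian.coimage.π (f a)).val.app (op U') (mres _ e' b), ?_⟩
  rw [← comp_app, app_congr (Abelian.coimage.fac (f a)), mapp_res, hb, mres_mres, mapp_res]

set_option maxHeartbeats 1000000 in
/-- Good modules are filtered colimits of coherent submodules. -/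
theorem Gd.exists_presentation (h𝔉 : Gd h𝔛 𝔉) :
    ∃ (J : Type u) (_ : SmallCategory J) (_ : IsFiltered J) (pres : ColimitPresentation J 𝔉),
      (∀ j : J, FSch.IsCohF 𝔛 h𝔛.1 (pres.diag.obj j)) ∧ ∀ j : J, Mono (pres.ι.app j) := by
  obtain ⟨α, hne, C, f, hC, hk, hd, hs⟩ := h𝔉
  letI : Preorder α :=
    { le := fun a b => ∃ g : Abelian.coimage (f a) ⟶ Abelian.coimage (f b),
        g ≫ Abelian.factorThruCoimage (f b) = Abelian.factorThruCoimage (f a)
      le_refl := fun a => ⟨𝟙 _, Category.id_comp _⟩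
      le_trans := fun a b c ⟨g, hg⟩ ⟨g', hg'⟩ => ⟨g ≫ g', by rw [Category.assoc, hg', hg]⟩ }
  have hle : ∀ a b, (∃ g : C a ⟶ C b, g ≫ f b = f a) → a ≤ b := by
    rintro a b ⟨g, hg⟩
    have hz : kernel.ι (f a) ≫ g ≫ Abelian.coimage.π (f b) = 0 := by
      rw [← cancel_mono (Abelian.factorThruCoimage (f b)), Category.assoc, Category.assoc,
        Abelian.coimage.fac, hg, kernel.condition, zero_comp]
    refine ⟨cokernel.desc _ _ hz, ?_⟩
    rw [← cancel_epi (Abelian.coimage.π (f a))]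
    erw [cokernel.π_desc_assoc]
    rw [Category.assoc, Abelian.coimage.fac, hg, Abelian.coimage.fac]
  haveI : IsDirectedOrder α := ⟨fun a b => by
    obtain ⟨c, h₁, h₂⟩ := hd a b
    exact ⟨c, hle a c h₁, hle b c h₂⟩⟩
  choose tr htr using fun (a b : α) (h : a ≤ b) => (show ∃ g : Abelian.coimage (f a) ⟶ Abelian.coimage (f b),
    g ≫ Abelian.factorThruCoimage (f b) = Abelian.factorThruCoimage (f a) from h)
  let D : α ⥤ FSch.ModF 𝔛 h𝔛.1 :=
    { obj := fun a => Abelian.coimage (f a)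
      map := fun {a b} h => tr a b (leOfHom h)
      map_id := fun a => by
        rw [← cancel_mono (Abelian.factorThruCoimage (f a)), htr, Category.id_comp]
      map_comp := fun {a b c} h h' => by
        rw [← cancel_mono (Abelian.factorThruCoimage (f c)), htr, Category.assoc, htr, htr] }
  let c : Cocone D :=
    { pt := 𝔉
      ι := { app := fun a => Abelian.factorThruCoimage (f a)
             naturality := fun a b h => (htr a b (leOfHom h)).trans (Category.comp_id _).symm } }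
  obtain ⟨hcol⟩ := isColimit_of_mono (O := 𝔛.Osh h𝔛.1) c
    (fun a => inferInstanceAs (Mono (Abelian.factorThruCoimage (f a))))
    (fun U s x hx => by
      obtain ⟨a, V, e, hxV, t, ht⟩ := hs U s x hx
      exact ⟨a, V, e, hxV, (Abelian.coimage.π (f a)).val.app (op V) t,
        (app_congr (Abelian.coimage.fac (f a)) V t).trans ht⟩)
  exact ⟨α, inferInstance, inferInstance, { diag := D, ι := c.ι, isColimit := hcol },
    fun a => isCohF_coimage h𝔛 (hC a) (f a) (hk a),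
    fun a => inferInstanceAs (Mono (Abelian.factorThruCoimage (f a)))⟩

theorem Gd.ind (h𝔉 : Gd h𝔛 𝔉) :
    (ObjectProperty.ind.{u} fun 𝔊 : FSch.ModF 𝔛 h𝔛.1 => FSch.IsCohF 𝔛 h𝔛.1 𝔊) 𝔉 := by
  obtain ⟨J, _, _, p, hp, -⟩ := h𝔉.exists_presentation
  exact ⟨J, inferInstance, inferInstance, p, hp⟩

end Groth.Agent.IndCoh
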