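import Groth.Agent.FModLib.HFLim
import Groth.Agent.QcqsColim.FTSub
import Groth.Agent.QCoh.Ab.MV
import Groth.Agent.IndCoh.Gd

/-!
# Vanishing of cohomology of ind-coherent modules on an affine formal scheme
-/

set_option autoImplicit false
set_option backward.isDefEq.respectTransparency false
set_option backward.isDefEq.respectTransparency.types false
set_option linter.style.haveILetI false

universe u

open CategoryTheory CategoryTheory.Limits AlgebraicGeometry TopologicalSpace Opposite Topology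

noncomputable section

namespace Groth.Agent.IndCoh

open Groth.Agent.FModLib

variable {𝔛 : FSch.Sys.{u}} (h𝔛 : 𝔛.IsLocNoethFormal)

set_option maxHeartbeats 1000000 in
/-- Positive cohomology of a coherent module on an affine formal scheme vanishes. -/
theorem subsingleton_hF_coh (htop : IsAffineOpen (⊤ : (𝔛.X 0).Opens)) {𝔉 : FSch.ModF 𝔛 h𝔛.1}
    (h𝔉 : FSch.IsCohF 𝔛 h𝔛.1 𝔉) (p : ℕ) : Subsingleton (FSch.HF 𝔛 h𝔛.1 𝔉 (p + 1)) := by
  letI : HasDerivedCategory.{u} (CohTop.Ab (𝔛.X 0).toPresheafedSpace.carrier) :=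
    Groth.Agent.H9Misc.BrownGroth.smallDerived _ fun K => by
      obtain ⟨I, s, hI, hs, -, -⟩ := Groth.Agent.TriCat.exists_kInjective_resolution'.{u} K
      exact ⟨I, s, hI, hs⟩
  obtain ⟨E, -⟩ := exists_iso_limit h𝔛 𝔉 h𝔉
  have hz : ∀ k q, Subsingleton (Sheaf.H (levAb h𝔛 𝔉 k) (q + 1)) := fun k q =>
    QCoh.Ab.subsingleton_H_of_HU_top _ _ (subsingleton_HU_levAb h𝔛 𝔉 h𝔉 htop q k)
  have hML : ∀ q : ℕ, CohCx.LimOneIsZero (fun k => Sheaf.H (levAb h𝔛 𝔉 k) q)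
      (fun k => Sheaf.H.map (levAbTrans h𝔛 𝔉 k) q) := by
    intro q b
    rcases q with _ | q
    · obtain ⟨w, hw⟩ := DLim.limOne_of_eventually_surjective 0 (fun k => Sheaf.H (levAb h𝔛 𝔉 k) 0)
        (fun k => Sheaf.H.map (levAbTrans h𝔛 𝔉 k) 0) (fun k _ => fun y => by
          obtain ⟨x, hx⟩ := surjective_levAb h𝔛 𝔉 h𝔉 htop k (Sheaf.H.equiv₀ _ isTerminalTop y)
          refine ⟨(Sheaf.H.equiv₀ _ isTerminalTop).symm x, (Sheaf.H.equiv₀ _ isTerminalTop).injective ?_⟩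
          rw [← Sheaf.H.equiv₀_naturality, AddEquiv.apply_symm_apply]
          exact hx) b
      exact ⟨w, funext hw⟩
    · exact ⟨fun _ => 0, funext fun k => @Subsingleton.elim _ (hz k q) _ _⟩
  obtain ⟨φ, hφ, -⟩ := exists_H_lim (levAb h𝔛 𝔉) (levAbTrans h𝔛 𝔉) {U | IsAffineOpen U}
    (𝔛.X 0).isBasis_affineOpens (fun U hU q k => subsingleton_HU_levAb h𝔛 𝔉 h𝔉 hU q k)
    (fun U hU b => by
      obtain ⟨w, hw⟩ := DLim.limOne_of_eventually_surjective 0 (fun k => (levAb h𝔛 𝔉 k).obj.obj (op U))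
        (fun k => ((levAbTrans h𝔛 𝔉 k).hom.app (op U)).hom) (fun k _ => surjective_levAb h𝔛 𝔉 h𝔉 hU k) b
      exact ⟨w, funext hw⟩) (p + 1) (fun q _ => hML q)
  refine ⟨fun x y => ?_⟩
  have h : Sheaf.H.map E.hom (p + 1) x = Sheaf.H.map E.hom (p + 1) y :=
    hφ (funext fun k => @Subsingleton.elim _ (hz k p) _ _)
  have h' := congrArg (Sheaf.H.map E.inv (p + 1)) h
  rwa [← Sheaf.H.map_comp_apply, ← Sheaf.H.map_comp_apply, E.hom_inv_id, Sheaf.H.map_id_apply,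
    Sheaf.H.map_id_apply] at h'

set_option maxHeartbeats 1000000 in
/-- Positive cohomology of an ind-coherent module on an affine formal scheme vanishes. -/
theorem subsingleton_hF_ind (htop : IsAffineOpen (⊤ : (𝔛.X 0).Opens)) {𝔉 : FSch.ModF 𝔛 h𝔛.1}
    (h𝔉 : (ObjectProperty.ind.{u} fun 𝔊 : FSch.ModF 𝔛 h𝔛.1 => FSch.IsCohF 𝔛 h𝔛.1 𝔊) 𝔉) (p : ℕ) :
    Subsingleton (FSch.HF 𝔛 h𝔛.1 𝔉 (p + 1)) := by
  obtain ⟨J, _, _, P, hP⟩ := h𝔉
  let T := SheafOfModules.toSheaf.{u} (ModSite.ringSh (𝔛.Osh h𝔛.1))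
  haveI := SiteBase.preservesColimitsOfSize_toSheaf (ModSite.ringSh (𝔛.Osh h𝔛.1))
  let hT : IsColimit (T.mapCocone (Cocone.mk 𝔉 P.ι)) := isColimitOfPreserves T P.isColimit
  let D := P.diag ⋙ T
  let e : colimit D ≅ T.obj 𝔉 := (colimit.isColimit D).coconePointUniqueUpToIso hT
  haveI : CompactSpace (𝔛.X 0) := ⟨htop.isCompact⟩
  haveI : QuasiSeparatedSpace (𝔛.X 0) :=
    (isQuasiSeparated_univ_iff).1 htop.isQuasiSeparated
  refine ⟨fun x y => ?_⟩
  have key : ∀ z : FSch.HF 𝔛 h𝔛.1 𝔉 (p + 1), z = 0 := fun z => by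
    obtain ⟨i, w, hw⟩ := QcqsColim.exists_stage (T := (𝔛.X 0).toPresheafedSpace.carrier) D (p + 1)
      (Sheaf.H.map e.inv (p + 1) z)
    have hw0 : w = 0 := @Subsingleton.elim _ (subsingleton_hF_coh h𝔛 htop (hP i) p) _ _
    rw [hw0] at hw
    have h := congrArg (Sheaf.H.map e.hom (p + 1)) hw.symm
    rw [← Sheaf.H.map_comp_apply, e.inv_hom_id, Sheaf.H.map_id_apply] at h
    refine h.trans ((congrArg (Sheaf.H.map e.hom (p + 1)) (Abelian.Ext.zero_comp _ _ _ _ _)).trans ?_)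
    exact map_zero _
  rw [key x, key y]

end Groth.Agent.IndCoh
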