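import Groth.Agent.IndCoh.Closed

/-!
# Maps from coherent modules to directed unions; ind-coherent modules are closed under kernels
-/

set_option autoImplicit false
set_option backward.isDefEq.respectTransparency false
set_option backward.isDefEq.respectTransparency.types false

open CategoryTheory CategoryTheory.Limits TopologicalSpace Opposite AlgebraicGeometry

universe u

noncomputable section

namespace Groth.Agent.IndCoh

open Groth.Agent.FModLib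

variable {𝔛 : FSch.Sys.{u}} (h𝔛 : 𝔛.IsLocNoethFormal)

set_option maxHeartbeats 1000000 in
/-- A map from a coherent module to a directed union of submodules lands in a member. -/
theorem exists_factor_stage [CompactSpace (𝔛.X 0)] {J : Type u} [SmallCategory J] [IsFiltered J]
    {D : J ⥤ FSch.ModF 𝔛 h𝔛.1} (c : Cocone D) (hm : ∀ j, Mono (c.ι.app j))
    (hs : LocSurj (O := 𝔛.Osh h𝔛.1) fun j => c.ι.app j) {B : FSch.ModF 𝔛 h𝔛.1}
    (hB : FSch.IsCohF 𝔛 h𝔛.1 B) (θ : B ⟶ c.pt) : ∃ (j : J) (g : B ⟶ D.obj j), g ≫ c.ι.app j = θ := by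
  classical
  let π : ∀ j, c.pt ⟶ cokernel (c.ι.app j) := fun j => cokernel.π (c.ι.app j)
  have hup : ∀ {j k : J} (_ : j ⟶ k) {W : (𝔛.X 0).Opens} (s : FSect h𝔛 c.pt W),
      (π j).val.app (op W) s = 0 → (π k).val.app (op W) s = 0 := by
    intro j k f W s h
    have h0 : c.ι.app j ≫ π k = 0 := by rw [← c.w f, Category.assoc, cokernel.condition, comp_zero]
    refine (app_congr (cokernel.π_desc (c.ι.app j) (π k) h0) W s).symm.trans ?_
    exact (congrArg (fun z => (cokernel.desc (c.ι.app j) (π k) h0).val.app (op W) z) h).trans (map_zero _)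
  have hloc : ∀ x : 𝔛.X 0, ∃ (j : J) (V : (𝔛.X 0).Opens), x ∈ V ∧
      ∀ (W : (𝔛.X 0).Opens), W ≤ V → ∀ s : FSect h𝔛 B W, (θ ≫ π j).val.app (op W) s = 0 := by
    intro x
    obtain ⟨U, hU, hxU, -⟩ := exists_affine_le (𝔛 := 𝔛) (W := ⊤) (x := x) trivial
    obtain ⟨n, m, t, g, hP⟩ := affPres h𝔛 hB hU
    have key : ∀ F : Finset (ULift.{u} (Fin n)), ∃ (j : J) (V : (𝔛.X 0).Opens) (e : V ≤ U), x ∈ V ∧
        ∀ l ∈ F, (π j).val.app (op V) (mres c.pt e (θ.val.app (op U) (t l))) = 0 := by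
      intro F
      induction F using Finset.induction with
      | empty => exact ⟨IsFiltered.nonempty.some, U, le_rfl, hxU, fun l hl => absurd hl (Finset.notMem_empty l)⟩
      | insert i F _ ih =>
        obtain ⟨j, V, e, hxV, h⟩ := ih
        obtain ⟨j', V', e', hxV', b, hb⟩ := hs V (mres c.pt e (θ.val.app (op U) (t i))) x hxV
        refine ⟨IsFiltered.max j j', V', e'.trans e, hxV', fun l hl => ?_⟩
        rcases Finset.mem_insert.mp hl with rfl | hl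
        · refine hup (IsFiltered.rightToMax j j') _ ?_
          refine (congrArg (fun z => (π j').val.app (op V') z) ((mres_mres c.pt e e' _).symm.trans hb.symm)).trans ?_
          exact app_congr (cokernel.condition (c.ι.app j')) V' b
        · refine hup (IsFiltered.leftToMax j j') _ ?_
          refine (congrArg (fun z => (π j).val.app (op V') z) (mres_mres c.pt e e' _).symm).trans ?_
          exact (mapp_res _ (π j) e' _).trans ((congrArg (mres _ e') (h l hl)).trans (mres_zero e'))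
    obtain ⟨j, V, e, hxV, h⟩ := key Finset.univ
    refine ⟨j, V, hxV, fun W hW s => ?_⟩
    refine eq_of_locally (O := 𝔛.Osh h𝔛.1) (cokernel (c.ι.app j)) fun y hy => ?_
    obtain ⟨V', e', hyV', a, ha⟩ := hP.gen W (hW.trans e) s y hy
    refine ⟨V', e', hyV', ?_⟩
    have h2 : (θ ≫ π j).val.app (op V') (mres B e' s) = 0 := by
      rw [← ha, mapp_sum_smul]
      refine Finset.sum_eq_zero fun l _ => ?_
      refine (congrArg (a l • ·) ?_).trans (smul_zero _)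
      refine (congrArg (fun z => (π j).val.app (op V') z) ((mapp_res _ θ _ _).trans
        (mres_mres c.pt e (e'.trans hW) _).symm)).trans ?_
      exact (mapp_res _ (π j) _ _).trans ((congrArg (mres _ _) (h l (Finset.mem_univ l))).trans (mres_zero _))
    rw [mres_zero, ← mapp_res]
    exact h2
  choose j V hxV hj using hloc
  obtain ⟨F, hF⟩ := isCompact_univ.elim_finite_subcover (fun x => (V x : Set (𝔛.X 0)))
    (fun x => (V x).2) (fun x _ => Set.mem_iUnion.mpr ⟨x, hxV x⟩)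
  obtain ⟨k, hk⟩ := IsFiltered.sup_objs_exists (F.image j)
  have hθ : θ ≫ π k = 0 := hom_ext_app fun U s => by
    refine eq_of_locally (O := 𝔛.Osh h𝔛.1) (cokernel (c.ι.app k)) fun y hy => ?_
    obtain ⟨x, hxF, hyx⟩ := Set.mem_iUnion₂.mp (hF (Set.mem_univ y))
    refine ⟨U ⊓ V x, inf_le_left, ⟨hy, hyx⟩, ?_⟩
    rw [app_zero, mres_zero, ← mapp_res, comp_app]
    refine hup (hk (Finset.mem_image_of_mem j hxF)).some _ ?_
    exact hj x (U ⊓ V x) inf_le_right _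
  haveI := hm k
  exact ⟨k, Abelian.monoLift (c.ι.app k) θ hθ, Abelian.monoLift_comp _ _ _⟩

/-- A colimit cocone is jointly surjective on sections, locally. -/
theorem locSurj_of_isColimit {J : Type u} [SmallCategory J] [IsFiltered J]
    {D : J ⥤ FSch.ModF 𝔛 h𝔛.1} (c : Cocone D) (hc : IsColimit c) :
    LocSurj (O := 𝔛.Osh h𝔛.1) fun j => c.ι.app j :=
  fun U s x hx => exists_stage (O := 𝔛.Osh h𝔛.1) hc s x hx

variable {J : Type u} [SmallCategory J] {D : J ⥤ FSch.ModF 𝔛 h𝔛.1}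

/-- The kernels of the members. -/
def kerDiag (c : Cocone D) {N : FSch.ModF 𝔛 h𝔛.1} (u : c.pt ⟶ N) : J ⥤ FSch.ModF 𝔛 h𝔛.1 where
  obj j := Limits.kernel (c.ι.app j ≫ u)
  map {j k} f := kernel.map _ _ (D.map f) (𝟙 N) (by rw [Category.comp_id, c.w_assoc])
  map_id j := equalizer.hom_ext (by simp)
  map_comp f g := equalizer.hom_ext (by simp)

/-- The kernels of the members sit in the kernel. -/
def kerCocone (c : Cocone D) {N : FSch.ModF 𝔛 h𝔛.1} (u : c.pt ⟶ N) : Cocone (kerDiag h𝔛 c u) where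
  pt := Limits.kernel u
  ι :=
    { app := fun j => kernel.map _ _ (c.ι.app j) (𝟙 N) (by rw [Category.comp_id])
      naturality := fun j k f => equalizer.hom_ext (by simp [kerDiag]) }

theorem kerCocone_ι (c : Cocone D) {N : FSch.ModF 𝔛 h𝔛.1} (u : c.pt ⟶ N) (j : J) :
    (kerCocone h𝔛 c u).ι.app j ≫ kernel.ι u = kernel.ι (c.ι.app j ≫ u) ≫ c.ι.app j :=
  kernel.lift_ι _ _ _

theorem mono_kerCocone (c : Cocone D) (hm : ∀ j, Mono (c.ι.app j)) {N : FSch.ModF 𝔛 h𝔛.1} (u : c.pt ⟶ N)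
    (j : J) : Mono ((kerCocone h𝔛 c u).ι.app j) := by
  haveI := hm j
  haveI : Mono ((kerCocone h𝔛 c u).ι.app j ≫ kernel.ι u) := by
    rw [kerCocone_ι]
    exact mono_comp _ _
  exact mono_of_mono _ (kernel.ι u)

theorem locSurj_kerCocone (c : Cocone D) (hs : LocSurj (O := 𝔛.Osh h𝔛.1) fun j => c.ι.app j)
    {N : FSch.ModF 𝔛 h𝔛.1} (u : c.pt ⟶ N) :
    LocSurj (O := 𝔛.Osh h𝔛.1) fun j => (kerCocone h𝔛 c u).ι.app j := by
  intro U s x hx
  obtain ⟨j, V, e, hxV, t, ht⟩ := hs U ((kernel.ι u).val.app (op U) s) x hx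
  obtain ⟨k, hk⟩ := exists_kernel_lift (O := 𝔛.Osh h𝔛.1) (c.ι.app j ≫ u) V t (by
    refine (congrArg (fun z => u.val.app (op V) z) ht).trans ?_
    refine (mapp_res _ u e _).trans ?_
    exact (congrArg (mres N e) (app_congr (kernel.condition u) U s)).trans (mres_zero e))
  refine ⟨j, V, e, hxV, k, sect_injective_of_mono (O := 𝔛.Osh h𝔛.1) (kernel.ι u) V ?_⟩
  refine (app_congr (kerCocone_ι h𝔛 c u j) V k).trans ?_
  refine (congrArg (fun z => (c.ι.app j).val.app (op V) z) hk).trans (ht.trans ?_)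
  exact (mapp_res _ (kernel.ι u) e s).symm

/-- Kernels of maps of good modules are good. -/
theorem Gd.kernelGd {M N : FSch.ModF 𝔛 h𝔛.1} (hM : Gd h𝔛 M) (hN : Gd h𝔛 N) (u : M ⟶ N) :
    Gd h𝔛 (Limits.kernel u) := by
  obtain ⟨J, _, _, p, hp, hmono⟩ := hM.exists_presentation h𝔛
  obtain ⟨hc⟩ := isColimit_of_mono (O := 𝔛.Osh h𝔛.1) (kerCocone h𝔛 p.cocone u)
    (mono_kerCocone h𝔛 p.cocone hmono u)
    (locSurj_kerCocone h𝔛 p.cocone (locSurj_of_isColimit h𝔛 p.cocone p.isColimit) u)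
  exact Gd.of_filtered h𝔛 (kerCocone h𝔛 p.cocone u) hc fun j => Gd.of_coh h𝔛 (hN.kernel h𝔛 (hp j) _)

/-- Binary sums of good modules are good. -/
theorem Gd.biprod {F G : FSch.ModF 𝔛 h𝔛.1} (hF : Gd h𝔛 F) (hG : Gd h𝔛 G) : Gd h𝔛 (F ⊞ G) := by
  let P : ULift.{u} WalkingPair → FSch.ModF 𝔛 h𝔛.1 := fun i => match i.down with | .left => F | .right => G
  have hP : ∀ i, Gd h𝔛 (P i) := by rintro ⟨_ | _⟩; exacts [hF, hG]
  let d : (∐ P) ⟶ F ⊞ G := Sigma.desc fun i => match i with | ⟨.left⟩ => biprod.inl | ⟨.right⟩ => biprod.inr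
  let e : (∐ P) ≅ F ⊞ G :=
    { hom := d
      inv := biprod.desc (Sigma.ι P ⟨.left⟩) (Sigma.ι P ⟨.right⟩)
      hom_inv_id := Sigma.hom_ext _ _ fun i => by rcases i with ⟨_ | _⟩ <;> simp [d, P]
      inv_hom_id := biprod.hom_ext' _ _ (by simp [d, P]) (by simp [d, P]) }
  exact Gd.of_iso h𝔛 e (Gd.sigma h𝔛 P hP)

/-- The closure properties of ind-coherent modules. -/
theorem ind_closure :
    ObjectProperty.ContainsZero (ObjectProperty.ind.{u} fun 𝔊 : FSch.ModF 𝔛 h𝔛.1 => FSch.IsCohF 𝔛 h𝔛.1 𝔊) ∧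
    ObjectProperty.IsClosedUnderKernels (ObjectProperty.ind.{u} fun 𝔊 : FSch.ModF 𝔛 h𝔛.1 => FSch.IsCohF 𝔛 h𝔛.1 𝔊) ∧
    ObjectProperty.IsClosedUnderCokernels (ObjectProperty.ind.{u} fun 𝔊 : FSch.ModF 𝔛 h𝔛.1 => FSch.IsCohF 𝔛 h𝔛.1 𝔊) ∧
    ObjectProperty.IsClosedUnderFiniteProducts (ObjectProperty.ind.{u} fun 𝔊 : FSch.ModF 𝔛 h𝔛.1 => FSch.IsCohF 𝔛 h𝔛.1 𝔊) := by
  let Q : ObjectProperty (FSch.ModF 𝔛 h𝔛.1) :=
    ObjectProperty.ind.{u} fun 𝔊 : FSch.ModF 𝔛 h𝔛.1 => FSch.IsCohF 𝔛 h𝔛.1 𝔊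
  have hz : IsZero (Limits.kernel (𝟙 (FSch.unitF 𝔛 h𝔛.1))) := isZero_kernel_of_mono _
  have hq : Q (Limits.kernel (𝟙 (FSch.unitF 𝔛 h𝔛.1))) := (Gd.of_coh h𝔛 (isCohF_zero h𝔛)).ind h𝔛
  refine ⟨⟨⟨_, hz, hq⟩⟩, ⟨?_⟩, ⟨?_⟩, ?_⟩
  · rintro _ ⟨f, k, hk, hf⟩
    exact (Gd.of_iso h𝔛 ((kernelIsKernel f).conePointUniqueUpToIso hk)
      ((Gd.of_ind h𝔛 hf.1).kernelGd h𝔛 (Gd.of_ind h𝔛 hf.2) f)).ind h𝔛
  · rintro _ ⟨f, k, hk, hf⟩
    exact (Gd.of_iso h𝔛 ((cokernelIsCokernel f).coconePointUniqueUpToIso hk)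
      (Gd.cokernel h𝔛 f (Gd.of_ind h𝔛 hf.1) (Gd.of_ind h𝔛 hf.2))).ind h𝔛
  · haveI : ObjectProperty.IsClosedUnderLimitsOfShape Q (Discrete.{0} PEmpty) := by
      constructor
      rintro X ⟨p⟩
      have hX : IsZero X := (IsZero.iff_id_eq_zero X).mpr (p.isLimit.hom_ext fun j => isEmptyElim j.as)
      exact (Gd.of_iso h𝔛 (hz.iso hX) (Gd.of_coh h𝔛 (isCohF_zero h𝔛))).ind h𝔛
    haveI : ObjectProperty.IsClosedUnderBinaryProducts Q := by
      constructor
      rintro X ⟨p⟩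
      let e : p.diag.obj ⟨.left⟩ ⊞ p.diag.obj ⟨.right⟩ ≅ X :=
        (biprod.isoProd _ _) ≪≫ (HasLimit.isoOfNatIso (diagramIsoPair p.diag).symm) ≪≫
          (limit.isLimit _).conePointUniqueUpToIso p.isLimit
      exact (Gd.of_iso h𝔛 e ((Gd.of_ind h𝔛 (p.prop_diag_obj _)).biprod h𝔛 (Gd.of_ind h𝔛 (p.prop_diag_obj _)))).ind h𝔛
    exact ObjectProperty.IsClosedUnderFiniteProducts.mk' (P := Q)

end Groth.Agent.IndCoh
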