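import Groth.Agent.IndCoh.Algebraic
import Groth.Agent.IndCoh.Stage

/-!
# Maps of quasi-coherent modules and of their completions
-/

set_option autoImplicit false
set_option backward.isDefEq.respectTransparency false
set_option backward.isDefEq.respectTransparency.types false
set_option linter.style.haveILetI false

open CategoryTheory CategoryTheory.Limits TopologicalSpace Opposite AlgebraicGeometry

universe u

noncomputable section

namespace Groth.Agent.IndCoh.Alg

open Groth.Agent

variable {A : Type u} [CommRing A] [IsNoetherianRing A] {J : Ideal A} [IsAdicComplete J A] {X : Scheme.{u}}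
  [X.Over (Spec (CommRingCat.of A))] [IsProper (X ↘ Spec (CommRingCat.of A))]
  {𝔛 : FSch.Sys.{u}} (h𝔛 : 𝔛.IsLocNoethFormal) (p : ∀ n, 𝔛.X n ⟶ X) (hp : ∀ n, 𝔛.ι n ≫ p (n + 1) = p n)
  [∀ n, IsClosedImmersion (p n)] (hk : ∀ n, (p n).ker = Algz7.baseIdeal (J ^ (n + 1)))

omit [IsNoetherianRing A] [IsProper (X ↘ Spec (CommRingCat.of A))] [X.Over (Spec (CommRingCat.of A))] [∀ n, IsClosedImmersion (p n)] in
/-- A map killed by completion is killed on every level. -/
theorem pullback_map_eq_zero {M N : X.Modules} (φ : M ⟶ N) (h0 : (FModLib.toY h𝔛.1 p hp).pull.map φ = 0) (k : ℕ) :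
    (Scheme.Modules.pullback (p k)).map φ = 0 := by
  let T := FModLib.toY h𝔛.1 p hp
  haveI : T.push.IsRightAdjoint := T.adj.isRightAdjoint
  haveI := (FSch.levelMor 𝔛 h𝔛.1 k).adj.isRightAdjoint
  let L := (FSch.levelMor 𝔛 h𝔛.1 k)
  have h1 : FModLib.psi h𝔛.1 p hp M k ≫ L.push.map ((Scheme.Modules.pullback (p k)).map φ) = 0 := by
    refine (T.adj.homEquiv_naturality_right_symm _ _).symm.trans ?_
    refine (congrArg (T.adj.homEquiv _ _).symm (FModLib.unit_compare_nat h𝔛.1 p hp φ k)).trans ?_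
    refine (T.adj.homEquiv_naturality_left_symm _ _).trans ?_
    exact (congrArg (· ≫ _) h0).trans zero_comp
  have h2 := congrArg (L.adj.homEquiv _ _).symm h1
  rw [Adjunction.homEquiv_naturality_right_symm] at h2
  have h3 : (L.adj.homEquiv _ _).symm (0 : (T.pull.obj M) ⟶ L.push.obj ((Scheme.Modules.pullback (p k)).obj N)) = 0 := by
    simp [Adjunction.homEquiv_counit]
  rw [h3] at h2
  haveI := FModLib.isIso_adjunct_psi h𝔛.1 p hp M k
  exact (cancel_epi ((L.adj.homEquiv _ _).symm (FModLib.psi h𝔛.1 p hp M k))).mp (h2.trans comp_zero.symm)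

include hk in
/-- Completion is faithful on coherent modules. -/
theorem eq_zero_of_pull_map {M N : X.Modules} (hM : Coh.IsCoh M) (hN : Coh.IsCoh N) (φ : M ⟶ N)
    (h0 : (FModLib.toY h𝔛.1 p hp).pull.map φ = 0) : φ = 0 := by
  haveI := LocallyOfFiniteType.isLocallyNoetherian (X ↘ Spec (CommRingCat.of A))
  obtain ⟨eN, hN'⟩ := FModLib.exists_completion_iso p hp hk hN.1
  have key : ∀ n, φ ≫ Formal.modPowπ J (n + 1) N = 0 := fun n => by
    refine (cancel_mono (eN.hom.app (op n))).mp ?_
    rw [Category.assoc, hN', zero_comp]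
    refine ((Scheme.Modules.pullbackPushforwardAdjunction (p n)).unit.naturality φ).trans ?_
    show _ ≫ (Scheme.Modules.pushforward (p n)).map ((Scheme.Modules.pullback (p n)).map φ) = 0
    rw [pullback_map_eq_zero h𝔛 p hp φ h0 n, Functor.map_zero, comp_zero]
  refine (SheafHomX.existsUnique_of_proper J hM hN
    (isProperOver_of_isClosed (QCoh.isClosed_support_of_isFT hM.1 hM.2)) Set.inter_subset_left 0).unique
    (fun n => ?_) (fun n => ?_)
  · exact comp_zero.trans (key n).symm
  · exact comp_zero.trans zero_comp.symm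

variable [PreservesFiniteLimits (FModLib.toY h𝔛.1 p hp).pull]

include hk in
/-- Completion is faithful on maps out of coherent modules. -/
theorem eq_zero_of_pull_map_of_coh {M H : X.Modules} (hM : Coh.IsCoh M) (hH : Coh.IsQCoh H) (φ : M ⟶ H)
    (h0 : (FModLib.toY h𝔛.1 p hp).pull.map φ = 0) : φ = 0 := by
  let T := FModLib.toY h𝔛.1 p hp
  haveI : T.pull.IsLeftAdjoint := T.adj.isLeftAdjoint
  haveI : PreservesColimitsOfSize.{0, 0} T.pull := T.adj.leftAdjoint_preservesColimits
  haveI : T.pull.Additive := Functor.additive_of_preserves_binary_products _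
  have hI : Coh.IsCoh (Abelian.coimage φ) := QCoh.isCoh_cokernel (QCoh.isQCoh_kernel hM.1 hH φ) hM _
  have h1 : T.pull.map (Abelian.coimage.π φ) = 0 := by
    haveI : Mono (T.pull.map (Abelian.factorThruCoimage φ)) := inferInstance
    refine (cancel_mono (T.pull.map (Abelian.factorThruCoimage φ))).mp ?_
    rw [zero_comp, ← Functor.map_comp, Abelian.coimage.fac]
    exact h0
  haveI : Epi (T.pull.map (Abelian.coimage.π φ)) := inferInstance
  have h2 : T.pull.map (𝟙 (Abelian.coimage φ)) = 0 := by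
    refine (cancel_epi (T.pull.map (Abelian.coimage.π φ))).mp ?_
    rw [comp_zero, ← Functor.map_comp, Category.comp_id]
    exact h1
  have h3 := eq_zero_of_pull_map h𝔛 p hp hk hI hI _ h2
  rw [← Abelian.coimage.fac φ, ← Category.id_comp (Abelian.factorThruCoimage φ), h3, zero_comp, comp_zero]

omit [IsProper (X ↘ Spec (CommRingCat.of A))] [X.Over (Spec (CommRingCat.of A))] [IsNoetherianRing A]
  [∀ n, IsClosedImmersion (p n)] in
/-- A quasi-coherent module is the filtered colimit of its coherent submodules. -/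
theorem exists_coh_submodules [CompactSpace X] [QuasiSeparatedSpace X] {H : X.Modules} (hH : Coh.IsQCoh H) :
    ∃ (D : QcqsColim.FTIndex H ⥤ X.Modules) (c : D ⟶ (Functor.const _).obj H),
      (∀ N, Coh.IsCoh (D.obj N)) ∧ (∀ N, Mono (c.app N)) ∧ Nonempty (IsColimit (Cocone.mk H c)) := by
  let D : QcqsColim.FTIndex H ⥤ X.Modules :=
    { obj := fun N => N.1.toModules
      map := fun {a b} h => QcqsColim.incl (leOfHom h)
      map_id := fun a => (cancel_mono a.1.ι).mp ((QcqsColim.incl_ι _).trans (Category.id_comp _).symm)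
      map_comp := fun {a b c} h h' => rfl }
  let c : D ⟶ (Functor.const _).obj H :=
    { app := fun N => N.1.ι
      naturality := fun a b h => (QcqsColim.incl_ι (leOfHom h)).trans (Category.comp_id _).symm }
  refine ⟨D, c, fun N => ⟨QCoh.isQCoh_of_ftOn hH N.2, QCoh.isFT_of_ftOn hH N.2⟩,
    fun N => inferInstanceAs (Mono N.1.ι), ?_⟩
  refine IndCoh.isColimit_of_mono (O := X.sheaf) (Cocone.mk H c) (fun N => inferInstanceAs (Mono N.1.ι))
    fun U s x hx => ?_
  obtain ⟨W, hW, hxW, hWU⟩ := exists_isAffineOpen_mem_and_subset (X := X) (x := x) hx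
  obtain ⟨N, hN, hmem⟩ := QCoh.exists_ftOn_contains hH hW (QCoh.extStep_qcqs hW.isCompact)
    {H.presheaf.map (homOfLE hWU).op s} (Set.finite_singleton _)
  obtain ⟨t, ht⟩ := N.exists_app_eq (hmem rfl)
  exact ⟨⟨N, hN⟩, W, hWU, hxW, t, ht⟩

set_option maxHeartbeats 1000000 in
include hk in
/-- Completion is fully faithful on quasi-coherent modules. -/
theorem bijective_pull_map {G H : X.Modules} (hG : Coh.IsQCoh G) (hH : Coh.IsQCoh H) :
    Function.Bijective (fun φ : G ⟶ H => (FModLib.toY h𝔛.1 p hp).pull.map φ) := by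
  haveI := LocallyOfFiniteType.isLocallyNoetherian (X ↘ Spec (CommRingCat.of A))
  haveI : CompactSpace X := QuasiCompact.compactSpace_of_compactSpace (X ↘ Spec (CommRingCat.of A))
  haveI : CompactSpace (𝔛.X 0) := QuasiCompact.compactSpace_of_compactSpace (p 0)
  let T := FModLib.toY h𝔛.1 p hp
  haveI : T.pull.IsLeftAdjoint := T.adj.isLeftAdjoint
  haveI : PreservesColimitsOfSize.{0, 0} T.pull := T.adj.leftAdjoint_preservesColimits
  haveI : PreservesColimitsOfSize.{u, u} T.pull := T.adj.leftAdjoint_preservesColimits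
  haveI : T.pull.Additive := Functor.additive_of_preserves_binary_products _
  obtain ⟨α, β, B, C, r, hB, hC, ⟨e⟩⟩ := exists_coh_presentation hG
  let g : ∀ b, C b ⟶ G := fun b => Sigma.ι C b ≫ cokernel.π r ≫ e.hom
  have hext : ∀ {Z : X.Modules} (a a' : G ⟶ Z), (∀ b, g b ≫ a = g b ≫ a') → a = a' := fun {Z} a a' h => by
    refine (cancel_epi e.hom).mp (coequalizer.hom_ext (Sigma.hom_ext _ _ fun b => ?_))
    simpa only [g, Category.assoc] using h b
  have hextT : ∀ {Z : FSch.ModF 𝔛 h𝔛.1} (a a' : T.pull.obj G ⟶ Z),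
      (∀ b, T.pull.map (g b) ≫ a = T.pull.map (g b) ≫ a') → a = a' := fun {Z} a a' h => by
    apply (T.adj.homEquiv _ _).injective
    refine hext _ _ fun b => ?_
    rw [← Adjunction.homEquiv_naturality_left, ← Adjunction.homEquiv_naturality_left]
    exact congrArg (T.adj.homEquiv _ _) (h b)
  have hinj : ∀ {M : X.Modules} (ψ : M ⟶ H) (γ : Type u) (K : γ → X.Modules) (k : ∀ c, K c ⟶ M),
      (∀ {Z : X.Modules} (a a' : M ⟶ Z), (∀ c, k c ≫ a = k c ≫ a') → a = a') → (∀ c, Coh.IsCoh (K c)) →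
      T.pull.map ψ = 0 → ψ = 0 := fun {M} ψ γ K k hk' hK h => by
    refine hk' ψ 0 fun c => ?_
    rw [comp_zero]
    refine eq_zero_of_pull_map_of_coh h𝔛 p hp hk (hK c) hH _ ?_
    rw [Functor.map_comp]
    exact (congrArg (T.pull.map (k c) ≫ ·) h).trans comp_zero
  refine ⟨fun φ φ' h => sub_eq_zero.mp (hinj (φ - φ') β C g (fun a a' => hext a a') hC ?_), fun v => ?_⟩
  · rw [Functor.map_sub]
    exact sub_eq_zero.mpr h
  obtain ⟨D, c, hD, hm, ⟨hc⟩⟩ := exists_coh_submodules hH
  let cT := T.pull.mapCocone (Cocone.mk H c)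
  have hsT := IndCoh.locSurj_of_isColimit h𝔛 cT (isColimitOfPreserves T.pull hc)
  have hmT : ∀ N, Mono (cT.ι.app N) := fun N => by
    haveI := hm N
    exact inferInstanceAs (Mono (T.pull.map (c.app N)))
  have hlift : ∀ b, ∃ φ : C b ⟶ H, T.pull.map φ = T.pull.map (g b) ≫ v := fun b => by
    obtain ⟨N, w, hw⟩ := IndCoh.exists_factor_stage h𝔛 cT hmT hsT
      (FModLib.isCohF_pull h𝔛.1 p hp _ (hC b)) (T.pull.map (g b) ≫ v)
    obtain ⟨φ, hφ⟩ := FModLib.exists_pull_map h𝔛 p hp hk (hC b) (hD N)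
      (isProperOver_of_isClosed (QCoh.isClosed_support_of_isFT (hC b).1 (hC b).2)) w
    refine ⟨φ ≫ c.app N, ?_⟩
    rw [Functor.map_comp]
    exact (congrArg (· ≫ _) hφ).trans hw
  choose φ hφ using hlift
  have hr : r ≫ Sigma.desc φ = 0 := by
    refine hinj (r ≫ Sigma.desc φ) α B (fun a => Sigma.ι B a) (fun a a' h => Sigma.hom_ext _ _ h) hB ?_
    have hd : T.pull.map (Sigma.desc φ) = T.pull.map (cokernel.π r ≫ e.hom) ≫ v := by
      apply (T.adj.homEquiv _ _).injective
      refine Sigma.hom_ext _ _ fun b => ?_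
      rw [← Adjunction.homEquiv_naturality_left, ← Adjunction.homEquiv_naturality_left, ← Functor.map_comp,
        Sigma.ι_desc, hφ, ← Category.assoc, ← Functor.map_comp]
    rw [Functor.map_comp, hd, ← Category.assoc, ← Functor.map_comp, ← Category.assoc, cokernel.condition,
      zero_comp, Functor.map_zero, zero_comp]
  refine ⟨e.inv ≫ cokernel.desc r (Sigma.desc φ) hr, hextT _ _ fun b => ?_⟩
  show T.pull.map (g b) ≫ T.pull.map _ = _
  rw [← Functor.map_comp, ← hφ b]
  refine congrArg T.pull.map ?_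
  simp only [g, Category.assoc, Iso.hom_inv_id_assoc, cokernel.π_desc, Sigma.ι_desc]

end Groth.Agent.IndCoh.Alg
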