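import Groth.Agent.IndCoh.Closed
import Groth.Agent.FModLib.Algz
import Groth.Agent.FComplFlat.Lift
import Groth.Agent.QcqsColim.FTSub

/-!
# Ind-coherent modules on a properly algebraic formal scheme
-/

set_option autoImplicit false
set_option backward.isDefEq.respectTransparency false
set_option backward.isDefEq.respectTransparency.types false
set_option linter.style.haveILetI false

open CategoryTheory CategoryTheory.Limits TopologicalSpace Opposite AlgebraicGeometry

universe u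

noncomputable section

namespace Groth.Agent.IndCoh.Alg

open Groth.Agent

variable {X : Scheme.{u}}

/-- A quasi-coherent module receives an epimorphism from a sum of coherent modules. -/
theorem exists_epi_sigma_coh [CompactSpace X] [QuasiSeparatedSpace X] {G : X.Modules} (hG : Coh.IsQCoh G) :
    ∃ (α : Type u) (C : α → X.Modules) (π : (∐ C) ⟶ G), (∀ a, Coh.IsCoh (C a)) ∧ Epi π := by
  refine ⟨QcqsColim.FTIndex G, fun N => N.1.toModules, Sigma.desc fun N => N.1.ι,
    fun N => ⟨QCoh.isQCoh_of_ftOn hG N.2, QCoh.isFT_of_ftOn hG N.2⟩, ?_⟩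
  refine Preadditive.epi_of_cancel_zero _ fun {Z} q hq => IndCoh.hom_ext_app (O := X.sheaf) fun U s => ?_
  refine FModLib.eq_of_locally (O := X.sheaf) Z fun x hx => ?_
  obtain ⟨W, hW, hxW, hWU⟩ := exists_isAffineOpen_mem_and_subset (X := X) (x := x) hx
  obtain ⟨N, hN, hmem⟩ := QCoh.exists_ftOn_contains hG hW (QCoh.extStep_qcqs hW.isCompact)
    {G.presheaf.map (homOfLE hWU).op s} (Set.finite_singleton _)
  obtain ⟨t, ht⟩ := N.exists_app_eq (hmem rfl)
  have h0 : (N.ι ≫ q) = 0 := by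
    rw [← Sigma.ι_desc (fun M : QcqsColim.FTIndex G => M.1.ι) ⟨N, hN⟩, Category.assoc, hq, comp_zero]
  refine ⟨W, hWU, hxW, ?_⟩
  refine (FModLib.mapp_res (O := X.sheaf) G q hWU s).symm.trans ?_
  refine (congrArg (fun z => q.val.app (op W) z) ht.symm).trans ?_
  exact (IndCoh.app_congr (O := X.sheaf) h0 W t).trans (FModLib.mres_zero (O := X.sheaf) hWU).symm

theorem isQCoh_sigma {α : Type u} (C : α → X.Modules) (hC : ∀ a, Coh.IsQCoh (C a)) : Coh.IsQCoh (∐ C) :=
  QCoh.isQCoh_colimit (Discrete.functor C) fun a => hC a.as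

/-- A quasi-coherent module is a cokernel of sums of coherent modules. -/
theorem exists_coh_presentation [CompactSpace X] [QuasiSeparatedSpace X] {G : X.Modules} (hG : Coh.IsQCoh G) :
    ∃ (α β : Type u) (B : α → X.Modules) (C : β → X.Modules) (r : (∐ B) ⟶ ∐ C),
      (∀ a, Coh.IsCoh (B a)) ∧ (∀ b, Coh.IsCoh (C b)) ∧ Nonempty (cokernel r ≅ G) := by
  obtain ⟨β, C, π, hC, _⟩ := exists_epi_sigma_coh hG
  have hK : Coh.IsQCoh (kernel π) := QCoh.isQCoh_kernel (isQCoh_sigma C fun b => (hC b).1) hG π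
  obtain ⟨α, B, ρ, hB, _⟩ := exists_epi_sigma_coh hK
  exact ⟨α, β, B, C, ρ ≫ kernel.ι π, hB, hC, ⟨cokernelEpiComp ρ (kernel.ι π) ≪≫
    (cokernelIsCokernel (kernel.ι π)).coconePointUniqueUpToIso
      (Abelian.epiIsCokernelOfKernel _ (limit.isLimit _))⟩⟩

variable {𝔛 : FSch.Sys.{u}} (h𝔛 : 𝔛.IsLocNoethFormal) (p : ∀ n, 𝔛.X n ⟶ X) (hp : ∀ n, 𝔛.ι n ≫ p (n + 1) = p n)

/-- Inverse images of quasi-coherent modules are ind-coherent. -/
theorem gd_pull [IsLocallyNoetherian X] [CompactSpace X] {G : X.Modules} (hG : Coh.IsQCoh G) :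
    Gd h𝔛 ((FModLib.toY h𝔛.1 p hp).pull.obj G) := by
  obtain ⟨α, β, B, C, r, hB, hC, ⟨e⟩⟩ := exists_coh_presentation hG
  let T := FModLib.toY h𝔛.1 p hp
  haveI : PreservesColimitsOfSize.{u, u} T.pull := T.adj.leftAdjoint_preservesColimits
  haveI : PreservesColimitsOfSize.{0, 0} T.pull := T.adj.leftAdjoint_preservesColimits
  haveI : T.pull.IsLeftAdjoint := T.adj.isLeftAdjoint
  haveI : T.pull.PreservesZeroMorphisms := inferInstance
  have hs : ∀ {γ : Type u} (D : γ → X.Modules), (∀ c, Coh.IsCoh (D c)) → Gd h𝔛 (T.pull.obj (∐ D)) :=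
    fun D hD => Gd.colimit h𝔛 _ (isColimitOfPreserves T.pull (colimit.isColimit (Discrete.functor D)))
      fun c => Gd.of_coh h𝔛 (FModLib.isCohF_pull h𝔛.1 p hp _ (hD c.as))
  exact Gd.of_iso h𝔛 ((PreservesCokernel.iso T.pull r).symm ≪≫ T.pull.mapIso e)
    (Gd.cokernel h𝔛 (T.pull.map r) (hs B hB) (hs C hC))

set_option maxHeartbeats 1000000 in
/-- A colimit of algebraic modules with algebraic maps is algebraic. -/
theorem exists_iso_pull_of_colimit {J : Type u} [SmallCategory J] {D : J ⥤ FSch.ModF 𝔛 h𝔛.1} (c : Cocone D)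
    (hc : IsColimit c) (G : J → X.Modules) (hG : ∀ j, Coh.IsQCoh (G j))
    (e : ∀ j, D.obj j ≅ (FModLib.toY h𝔛.1 p hp).pull.obj (G j))
    (hmap : ∀ {i j : J} (t : i ⟶ j), ∃ φ : G i ⟶ G j,
      (FModLib.toY h𝔛.1 p hp).pull.map φ = (e i).inv ≫ D.map t ≫ (e j).hom) :
    ∃ G' : X.Modules, Coh.IsQCoh G' ∧ Nonempty ((FModLib.toY h𝔛.1 p hp).pull.obj G' ≅ c.pt) := by
  let T := FModLib.toY h𝔛.1 p hp
  haveI : T.pull.IsLeftAdjoint := T.adj.isLeftAdjoint
  choose φ hφ using @hmap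
  let r : (∐ fun t : Σ (i j : J), (i ⟶ j) => G t.1) ⟶ ∐ G :=
    Sigma.desc fun t => φ t.2.2 ≫ Sigma.ι G t.2.1 - Sigma.ι G t.1
  let P := cokernel r
  let g : ∀ j, G j ⟶ P := fun j => Sigma.ι G j ≫ cokernel.π r
  have hg : ∀ {i j : J} (t : i ⟶ j), φ t ≫ g j = g i := fun {i j} t => by
    have h := congrArg (Sigma.ι (fun t : Σ (i j : J), (i ⟶ j) => G t.1) ⟨i, j, t⟩ ≫ ·) (cokernel.condition r)
    simp only [r, Sigma.ι_desc_assoc, comp_zero, Preadditive.sub_comp, Category.assoc] at h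
    exact sub_eq_zero.mp h
  let c' : Cocone D :=
    { pt := T.pull.obj P
      ι :=
        { app := fun j => (e j).hom ≫ T.pull.map (g j)
          naturality := fun i j t => by
            have h := congrArg T.pull.map (hg t)
            rw [Functor.map_comp, hφ] at h
            simp only [Functor.const_obj_map, Category.comp_id]
            refine Eq.trans ?_ (congrArg ((e i).hom ≫ ·) h)
            simp only [Category.assoc, Iso.hom_inv_id_assoc] } }
  have hext : ∀ {Z : FSch.ModF 𝔛 h𝔛.1} (a b : T.pull.obj P ⟶ Z),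
      (∀ j, c'.ι.app j ≫ a = c'.ι.app j ≫ b) → a = b := fun {Z} a b h => by
    apply (T.adj.homEquiv _ _).injective
    refine coequalizer.hom_ext (Sigma.hom_ext _ _ fun j => ?_)
    have hj : T.pull.map (g j) ≫ a = T.pull.map (g j) ≫ b := (cancel_epi (e j).hom).mp (by
      simpa only [c', Category.assoc] using h j)
    have h2 := congrArg (T.adj.homEquiv _ _) hj
    rw [Adjunction.homEquiv_naturality_left, Adjunction.homEquiv_naturality_left] at h2
    simp only [g, Category.assoc] at h2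
    exact h2
  have hdesc : ∀ s : Cocone D, ∃ l : c'.pt ⟶ s.pt, ∀ j, c'.ι.app j ≫ l = s.ι.app j := fun s => by
    let ψ : ∀ j, G j ⟶ T.push.obj s.pt := fun j => T.adj.homEquiv _ _ ((e j).inv ≫ s.ι.app j)
    have hψ : ∀ {i j : J} (t : i ⟶ j), φ t ≫ ψ j = ψ i := fun {i j} t => by
      refine (T.adj.homEquiv_naturality_left (φ t) ((e j).inv ≫ s.ι.app j)).symm.trans ?_
      refine congrArg (T.adj.homEquiv _ _) ?_
      rw [hφ, Category.assoc, Category.assoc, Iso.hom_inv_id_assoc, s.w]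
    let d : P ⟶ T.push.obj s.pt := cokernel.desc r (Sigma.desc ψ) (Sigma.hom_ext _ _ fun t => by
      simp only [r, Sigma.ι_desc_assoc, comp_zero, Preadditive.sub_comp, Category.assoc, Sigma.ι_desc, hψ, sub_self])
    refine ⟨(T.adj.homEquiv _ _).symm d, fun j => ?_⟩
    show ((e j).hom ≫ T.pull.map (g j)) ≫ _ = _
    rw [Category.assoc, ← Adjunction.homEquiv_naturality_left_symm]
    have hd : g j ≫ d = ψ j := by simp only [g, d, Category.assoc, cokernel.π_desc, Sigma.ι_desc]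
    rw [hd, Equiv.symm_apply_apply, Iso.hom_inv_id_assoc]
  choose l hl using hdesc
  have hc' : IsColimit c' :=
    { desc := l
      fac := hl
      uniq := fun s m hm => hext _ _ fun j => (hm j).trans (hl s j).symm }
  refine ⟨P, QCoh.isQCoh_cokernel (isQCoh_sigma _ fun t : Σ (i j : J), (i ⟶ j) => hG t.1) (isQCoh_sigma G hG) r,
    ⟨hc'.coconePointUniqueUpToIso hc⟩⟩

variable {A : Type u} [CommRing A] [IsNoetherianRing A] {J : Ideal A} [IsAdicComplete J A]
  [X.Over (Spec (CommRingCat.of A))] [IsProper (X ↘ Spec (CommRingCat.of A))] [∀ n, IsClosedImmersion (p n)]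

/-- Everything closed is proper over the base of a proper scheme. -/
theorem isProperOver_of_isClosed {Z : Set X} (hZ : IsClosed Z) :
    ClSub.IsProperOver (X ↘ Spec (CommRingCat.of A)) Z :=
  ⟨hZ, inferInstance⟩

/-- On a properly algebraic formal scheme, ind-coherent modules are inverse images of quasi-coherent ones. -/
theorem exists_iso_pull_of_gd (hk : ∀ n, (p n).ker = Algz7.baseIdeal (J ^ (n + 1)))
    {𝔉 : FSch.ModF 𝔛 h𝔛.1} (h𝔉 : Gd h𝔛 𝔉) :
    ∃ G : X.Modules, Coh.IsQCoh G ∧ Nonempty ((FModLib.toY h𝔛.1 p hp).pull.obj G ≅ 𝔉) := by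
  haveI := LocallyOfFiniteType.isLocallyNoetherian (X ↘ Spec (CommRingCat.of A))
  obtain ⟨K, _, _, P, hP, -⟩ := h𝔉.exists_presentation h𝔛
  have halg : ∀ k, FModLib.IsAlg A h𝔛 p hp (P.diag.obj k) := fun k => by
    haveI := FModLib.isIso_toReal h𝔛 (P.diag.obj k) (hP k)
    let 𝔐 := FModLib.levSys h𝔛.1 (P.diag.obj k)
    have h𝔐 : 𝔐.IsCoh := FModLib.isCoh_levSys h𝔛 (P.diag.obj k) (hP k)
    haveI := h𝔛.2.2 0
    have hcoh : Coh.IsCoh ((Scheme.Modules.pushforward (p 0)).obj (𝔐.F 0)) :=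
      QCoh.isCoh_pushforward_finite (p 0) (h𝔐 0)
    obtain ⟨M, hM1, hM2, ⟨c⟩⟩ := FModLib.isAlg_of_sys h𝔛 p hp hk 𝔐 h𝔐
      (isProperOver_of_isClosed (QCoh.isClosed_support_of_isFT hcoh.1 hcoh.2))
    exact ⟨M, hM1, hM2, ⟨asIso (FModLib.toReal h𝔛.1 (P.diag.obj k)) ≪≫ c⟩⟩
  choose G hG hGs e using halg
  obtain ⟨G', hG', hiso⟩ := exists_iso_pull_of_colimit h𝔛 p hp P.cocone P.isColimit G (fun k => (hG k).1)
    (fun k => (e k).some) fun {i j} t =>
      FModLib.exists_pull_map h𝔛 p hp hk (hG i) (hG j) (hGs i) _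
  exact ⟨G', hG', hiso⟩

end Groth.Agent.IndCoh.Alg
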