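import Groth.Agent.IndCoh.Gd

/-!
# Colimits of ind-coherent modules
-/

set_option autoImplicit false
set_option backward.isDefEq.respectTransparency false
set_option backward.isDefEq.respectTransparency.types false
set_option linter.style.haveILetI false

universe u

open CategoryTheory CategoryTheory.Limits AlgebraicGeometry TopologicalSpace Opposite

noncomputable section

namespace Groth.Agent.IndCoh

open Groth.Agent.FModLib

section abstract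

variable {Cat : Type*} [Category Cat] [Abelian Cat]

theorem desc_comp_π {A E ℌ 𝔊 : Cat} (u : ℌ ⟶ 𝔊) (i : A ⟶ 𝔊) (v : E ⟶ ℌ) :
    biprod.desc i (v ≫ u) ≫ cokernel.π u = biprod.fst ≫ i ≫ cokernel.π u := by
  refine biprod.hom_ext' _ _ ?_ ?_
  · rw [biprod.inl_desc_assoc, biprod.inl_fst_assoc]
  · rw [biprod.inr_desc_assoc, biprod.inr_fst_assoc, Category.assoc, cokernel.condition, comp_zero, zero_comp]

/-- The part of the kernel coming from one member. -/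
def toKer {A E ℌ 𝔊 : Cat} (u : ℌ ⟶ 𝔊) (i : A ⟶ 𝔊) (v : E ⟶ ℌ) :
    Limits.kernel (biprod.desc i (v ≫ u)) ⟶ Limits.kernel (i ≫ cokernel.π u) :=
  kernel.lift _ (kernel.ι (biprod.desc i (v ≫ u)) ≫ biprod.fst) (by
    rw [Category.assoc, ← desc_comp_π u i v, kernel.condition_assoc, zero_comp])

theorem toKer_ι {A E ℌ 𝔊 : Cat} (u : ℌ ⟶ 𝔊) (i : A ⟶ 𝔊) (v : E ⟶ ℌ) :
    toKer u i v ≫ kernel.ι (i ≫ cokernel.π u) = kernel.ι (biprod.desc i (v ≫ u)) ≫ biprod.fst :=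
  kernel.lift_ι _ _ _

theorem toKer_dir {A E E' ℌ 𝔊 : Cat} (u : ℌ ⟶ 𝔊) (i : A ⟶ 𝔊) (v : E ⟶ ℌ) (v' : E' ⟶ ℌ)
    (g : E ⟶ E') (hg : g ≫ v' = v) :
    ∃ G : Limits.kernel (biprod.desc i (v ≫ u)) ⟶ Limits.kernel (biprod.desc i (v' ≫ u)),
      G ≫ toKer u i v' = toKer u i v := by
  have h : biprod.map (𝟙 A) g ≫ biprod.desc i (v' ≫ u) = biprod.desc i (v ≫ u) :=
    biprod.hom_ext' _ _ (by simp) (by simp [reassoc_of% hg])
  refine ⟨kernel.lift _ (kernel.ι _ ≫ biprod.map (𝟙 _) g) (by rw [Category.assoc, h, kernel.condition]), ?_⟩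
  rw [← cancel_mono (kernel.ι (i ≫ cokernel.π u)), Category.assoc, toKer_ι, toKer_ι, kernel.lift_ι_assoc,
    Category.assoc, biprod.map_fst, Category.comp_id]

end abstract

variable {𝔛 : FSch.Sys.{u}} (h𝔛 : 𝔛.IsLocNoethFormal)

theorem kernel_union_surj {J : Type u} [SmallCategory J] [IsFiltered J]
    {D : J ⥤ FSch.ModF 𝔛 h𝔛.1} (c : Cocone D) (hc : IsColimit c) {k : J} {B : FSch.ModF 𝔛 h𝔛.1} (h : B ⟶ D.obj k)
    (U : (𝔛.X 0).Opens) (s : FSect h𝔛 (Limits.kernel (h ≫ c.ι.app k)) U) (x : 𝔛.X 0) (hx : x ∈ U) :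
    ∃ (g : Under k) (V : (𝔛.X 0).Opens) (e : V ≤ U), x ∈ V ∧
      ∃ t : FSect h𝔛 (Limits.kernel (h ≫ D.map g.hom)) V,
        (kernel.ι (h ≫ D.map g.hom)).val.app (op V) t =
          mres B e ((kernel.ι (h ≫ c.ι.app k)).val.app (op U) s) := by
  have h0 : (c.ι.app k).val.app (op U) (h.val.app (op U) ((kernel.ι (h ≫ c.ι.app k)).val.app (op U) s)) = 0 :=
    app_congr (kernel.condition (h ≫ c.ι.app k)) U s
  obtain ⟨k', f, V, e, hxV, hz⟩ := exists_kill (O := 𝔛.Osh h𝔛.1) hc _ h0 x hx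
  obtain ⟨t, ht⟩ := exists_kernel_lift (O := 𝔛.Osh h𝔛.1) (h ≫ D.map f) V
    (mres B e ((kernel.ι (h ≫ c.ι.app k)).val.app (op U) s))
    ((congrArg ((D.map f).val.app (op V)) (mapp_res B h e _)).trans hz)
  exact ⟨Under.mk f, V, e, hxV, t, ht⟩

set_option maxHeartbeats 800000 in
/-- Filtered colimits of good modules: kernels. -/
theorem isCohF_kernel_stage {J : Type u} [SmallCategory J] [IsFiltered J] {D : J ⥤ FSch.ModF 𝔛 h𝔛.1}
    (c : Cocone D) (hc : IsColimit c) (hD : ∀ j, Gd h𝔛 (D.obj j)) {k : J} {B : FSch.ModF 𝔛 h𝔛.1}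
    (hB : FSch.IsCohF 𝔛 h𝔛.1 B) (h : B ⟶ D.obj k) : FSch.IsCohF 𝔛 h𝔛.1 (Limits.kernel (h ≫ c.ι.app k)) := by
  let K : Under k → FSch.ModF 𝔛 h𝔛.1 := fun g => Limits.kernel (h ≫ D.map g.hom)
  let ψ : ∀ g, K g ⟶ Limits.kernel (h ≫ c.ι.app k) := fun g => kernel.lift _ (kernel.ι (h ≫ D.map g.hom)) (by
    rw [← c.w g.hom, ← Category.assoc h, ← Category.assoc, kernel.condition, zero_comp])
  haveI : Nonempty (Under k) := ⟨Under.mk (𝟙 k)⟩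
  refine isCohF_union h𝔛 hB (kernel.ι (h ≫ c.ι.app k)) ψ (fun g => (hD _).kernel h𝔛 hB _) (fun g₁ g₂ => ?_) ?_
  · obtain ⟨l, f₁, f₂, hf⟩ := IsFiltered.span g₁.hom g₂.hom
    refine ⟨Under.mk (g₁.hom ≫ f₁), ⟨kernel.lift _ (kernel.ι _) ?_, ?_⟩, ⟨kernel.lift _ (kernel.ι _) ?_, ?_⟩⟩
    · show _ ≫ h ≫ D.map (g₁.hom ≫ f₁) = 0
      rw [D.map_comp, ← Category.assoc h, ← Category.assoc, kernel.condition, zero_comp]
    · rw [← cancel_mono (kernel.ι (h ≫ c.ι.app k))]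
      simp only [ψ, Category.assoc, kernel.lift_ι]
    · show _ ≫ h ≫ D.map (g₁.hom ≫ f₁) = 0
      rw [hf, D.map_comp, ← Category.assoc h, ← Category.assoc, kernel.condition, zero_comp]
    · rw [← cancel_mono (kernel.ι (h ≫ c.ι.app k))]
      simp only [ψ, Category.assoc, kernel.lift_ι]
  · intro U s x hx
    obtain ⟨g, V, e, hxV, t, ht⟩ := kernel_union_surj h𝔛 c hc h U s x hx
    refine ⟨g, V, e, hxV, t, sect_injective_of_mono (O := 𝔛.Osh h𝔛.1) (kernel.ι (h ≫ c.ι.app k)) V ?_⟩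
    refine (app_congr (kernel.lift_ι _ _ _) V t).trans (ht.trans ?_)
    exact (mapp_res _ (kernel.ι (h ≫ c.ι.app k)) e s).symm

theorem exists_lmap_factor {J : Type u} [SmallCategory J] [IsFiltered J] {D : J ⥤ FSch.ModF 𝔛 h𝔛.1}
    (c : Cocone D) {α : J → Type u} {C : ∀ j, α j → FSch.ModF 𝔛 h𝔛.1} (f : ∀ j a, C j a ⟶ D.obj j) :
    ∀ L : List (Σ j, α j), ∃ (k : J) (h : lobj h𝔛 (fun p : Σ j, α j => C p.1 p.2) L ⟶ D.obj k),
      h ≫ c.ι.app k = lmap h𝔛 (fun p : Σ j, α j => f p.1 p.2 ≫ c.ι.app p.1) L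
  | [] => ⟨Classical.choice IsFiltered.nonempty, 0, zero_comp⟩
  | p :: L => by
    obtain ⟨k, h, hh⟩ := exists_lmap_factor c f L
    refine ⟨IsFiltered.max p.1 k, biprod.desc (f p.1 p.2 ≫ D.map (IsFiltered.leftToMax _ _))
      (h ≫ D.map (IsFiltered.rightToMax _ _)), biprod.hom_ext' _ _ ?_ ?_⟩
    · simp only [lmap, biprod.inl_desc, biprod.inl_desc_assoc, Category.assoc, c.w]
    · simp only [lmap, biprod.inr_desc, biprod.inr_desc_assoc, Category.assoc, c.w, hh]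

/-- Filtered colimits of good modules are good. -/
theorem Gd.of_filtered {J : Type u} [SmallCategory J] [IsFiltered J] {D : J ⥤ FSch.ModF 𝔛 h𝔛.1}
    (c : Cocone D) (hc : IsColimit c) (hD : ∀ j, Gd h𝔛 (D.obj j)) : Gd h𝔛 c.pt := by
  choose α _ C f hC hk hd hs using hD
  refine Gd.of_lists h𝔛 (fun p : Σ j, α j => f p.1 p.2 ≫ c.ι.app p.1) (fun p => hC p.1 p.2)
    (locSurj_lists h𝔛 _ fun U s x hx => ?_) (fun L => ?_)
  · obtain ⟨j, V, e, hxV, t, ht⟩ := exists_stage (O := 𝔛.Osh h𝔛.1) hc s x hx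
    obtain ⟨a, V', e', hxV', w, hw⟩ := hs j V t x hxV
    refine ⟨⟨j, a⟩, V', e'.trans e, hxV', w, ?_⟩
    refine (congrArg ((c.ι.app j).val.app (op V')) hw).trans ?_
    rw [mapp_res, ht]
    exact mres_mres _ _ _ _
  · obtain ⟨k, h, hh⟩ := exists_lmap_factor h𝔛 c f L
    rw [← hh]
    exact isCohF_kernel_stage h𝔛 c hc (fun j => ⟨α j, ‹∀ j, Nonempty (α j)› j, C j, f j, hC j, hk j, hd j, hs j⟩)
      (isCohF_lobj h𝔛 (fun p : Σ j, α j => hC p.1 p.2) L) h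

theorem Gd.of_ind {𝔉 : FSch.ModF 𝔛 h𝔛.1}
    (h : (ObjectProperty.ind.{u} fun 𝔊 : FSch.ModF 𝔛 h𝔛.1 => FSch.IsCohF 𝔛 h𝔛.1 𝔊) 𝔉) : Gd h𝔛 𝔉 := by
  obtain ⟨J, _, _, p, hp⟩ := h
  exact Gd.of_filtered h𝔛 _ p.isColimit fun j => Gd.of_coh h𝔛 (hp j)

set_option maxHeartbeats 2000000 in
theorem toKer_surj {A ℌ 𝔊 : FSch.ModF 𝔛 h𝔛.1} (u : ℌ ⟶ 𝔊) (i : A ⟶ 𝔊) {β : Type u} {E : β → FSch.ModF 𝔛 h𝔛.1}
    (v : ∀ b, E b ⟶ ℌ) (hsE : LocSurj (O := 𝔛.Osh h𝔛.1) v) :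
    LocSurj (O := 𝔛.Osh h𝔛.1) fun b => toKer u i (v b) := by
  intro U s x hx
  let z := (kernel.ι (i ≫ cokernel.π u)).val.app (op U) s
  obtain ⟨V, e, hxV, w, hw⟩ := exists_local_lift h𝔛 u (i.val.app (op U) z)
    (app_congr (kernel.condition (i ≫ cokernel.π u)) U s) x hx
  obtain ⟨b, V', e', hxV', t, ht⟩ := hsE V w x hxV
  obtain ⟨k, hk⟩ := exists_kernel_lift (O := 𝔛.Osh h𝔛.1) (biprod.desc i (v b ≫ u)) V'
    ((biprod.inl : A ⟶ A ⊞ E b).val.app (op V') (mres A (e'.trans e) z) -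
      (biprod.inr : E b ⟶ A ⊞ E b).val.app (op V') t) (by
    refine (map_sub _ _ _).trans (sub_eq_zero.mpr ?_)
    refine (app_congr (biprod.inl_desc _ _) V' _).trans (Eq.trans ?_ (app_congr (biprod.inr_desc _ _) V' t).symm)
    rw [comp_app, ht, mapp_res, mapp_res, hw, mres_mres])
  refine ⟨b, V', e'.trans e, hxV', k,
    sect_injective_of_mono (O := 𝔛.Osh h𝔛.1) (kernel.ι (i ≫ cokernel.π u)) V' ?_⟩
  refine (app_congr (toKer_ι u i (v b)) V' k).trans ?_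
  rw [comp_app, hk]
  refine (map_sub _ _ _).trans ?_
  refine (congrArg₂ (· - ·) (app_congr biprod.inl_fst V' _) (app_congr biprod.inr_fst V' t)).trans ?_
  exact (sub_zero _).trans (mapp_res _ _ _ _).symm

/-- Cokernels of maps of good modules are good. -/
theorem Gd.cokernel {ℌ 𝔊 : FSch.ModF 𝔛 h𝔛.1} (u : ℌ ⟶ 𝔊) (hℌ : Gd h𝔛 ℌ) (h𝔊 : Gd h𝔛 𝔊) :
    Gd h𝔛 (Limits.cokernel u) := by
  have hG := h𝔊
  obtain ⟨α, hne, C, f, hC, -, hd, hs⟩ := h𝔊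
  obtain ⟨β, hneβ, E, v, hE, -, hdE, hsE⟩ := hℌ
  refine ⟨α, hne, C, fun a => f a ≫ cokernel.π u, hC, fun a => ?_, fun a b => ?_, fun U s x hx => ?_⟩
  · refine isCohF_union h𝔛 (hC a) (kernel.ι (f a ≫ cokernel.π u)) (fun b => toKer u (f a) (v b))
      (fun b => hG.kernel h𝔛 (isCohF_biprod h𝔛 (hC a) (hE b)) _) (fun b b' => ?_)
      (toKer_surj h𝔛 u (f a) v hsE)
    obtain ⟨c, ⟨g, hg⟩, ⟨g', hg'⟩⟩ := hdE b b'
    exact ⟨c, toKer_dir u _ _ _ g hg, toKer_dir u _ _ _ g' hg'⟩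
  · obtain ⟨c, ⟨g, hg⟩, ⟨g', hg'⟩⟩ := hd a b
    exact ⟨c, ⟨g, by rw [← Category.assoc, hg]⟩, ⟨g', by rw [← Category.assoc, hg']⟩⟩
  · obtain ⟨S, hS, h⟩ := SuppCore.exists_cover_lift (cokernel.π u) s
    obtain ⟨V, e, he, hxV⟩ := hS x hx
    obtain ⟨b, hb⟩ := h e he
    obtain ⟨a, V', e', hxV', t, ht⟩ := hs V b x hxV
    refine ⟨a, V', e'.trans e.le, hxV', t, ?_⟩
    refine (congrArg ((cokernel.π u).val.app (op V')) ht).trans ?_
    rw [mapp_res]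
    exact (congrArg (mres _ e') hb).trans (mres_mres _ e.le e' s)

end Groth.Agent.IndCoh
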