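import Groth.Agent.IndCoh.HUVanish
import Groth.Agent.FModLib.Present
import Groth.Agent.SitePullUnit.DerivedClass
import Groth.Agent.SiteBase.HKRep
import Groth.Agent.SiteBase.ModKill

/-!
# Higher direct images of ind-coherent modules along affine morphisms of formal schemes
-/

set_option autoImplicit false
set_option backward.isDefEq.respectTransparency false
set_option backward.isDefEq.respectTransparency.types false
set_option linter.style.haveILetI false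

universe u

open CategoryTheory CategoryTheory.Limits AlgebraicGeometry TopologicalSpace Opposite Topology Abelian

noncomputable section

namespace Groth.Agent.IndCoh

open Groth.Agent.FModLib

variable {𝔛 : FSch.Sys.{u}} (h𝔛 : 𝔛.IsLocNoethFormal)

/-- Positive cohomology of a coherent module over an affine open vanishes. -/
theorem subsingleton_HU_coh {W : (𝔛.X 0).Opens} (hW : IsAffineOpen W) {𝔉 : FSch.ModF 𝔛 h𝔛.1}
    (h𝔉 : FSch.IsCohF 𝔛 h𝔛.1 𝔉) (p : ℕ) :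
    Subsingleton (CohTop.HU ((SheafOfModules.toSheaf _).obj 𝔉 : CohTop.Ab (𝔛.X 0).toPresheafedSpace.carrier) (p + 1) W) := by
  letI : HasDerivedCategory.{u} (CohTop.Ab (𝔛.X 0).toPresheafedSpace.carrier) :=
    Groth.Agent.H9Misc.BrownGroth.smallDerived _ fun K => by
      obtain ⟨I, s, hI, hs, -, -⟩ := Groth.Agent.TriCat.exists_kInjective_resolution'.{u} K
      exact ⟨I, s, hI, hs⟩
  obtain ⟨E, -⟩ := exists_iso_limit h𝔛 𝔉 h𝔉
  haveI := subsingleton_HU_lim (levAb h𝔛 𝔉) (levAbTrans h𝔛 𝔉) {U | IsAffineOpen U}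
    (𝔛.X 0).isBasis_affineOpens (fun U hU q k => subsingleton_HU_levAb h𝔛 𝔉 h𝔉 hU q k)
    (fun U hU b => by
      obtain ⟨w, hw⟩ := DLim.limOne_of_eventually_surjective 0 (fun k => (levAb h𝔛 𝔉 k).obj.obj (op U))
        (fun k => ((levAbTrans h𝔛 𝔉 k).hom.app (op U)).hom) (fun k _ => surjective_levAb h𝔛 𝔉 h𝔉 hU k) b
      exact ⟨w, funext hw⟩) hW p
  exact ((((Sheaf.cohomologyPresheafFunctor (Opens.grothendieckTopology _) (p + 1)).mapIso E).app
    (op W)).addCommGroupIsoToAddEquiv).toEquiv.subsingleton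

/-- The good opens of a scheme form a basis. -/
theorem isBasis_goodOpen (X : Scheme.{u}) :
    Opens.IsBasis {U : Opens X.toPresheafedSpace.carrier | QcqsColim.GoodOpen U} :=
  Opens.isBasis_iff_nbhd.2 fun {U x} hx => by
    obtain ⟨W, hW, hxW, hWU⟩ := exists_isAffineOpen_mem_and_subset (X := X) (x := x) hx
    exact ⟨W, ⟨hW.isCompact, hW.isQuasiSeparated⟩, hxW, hWU⟩

/-- Positive cohomology of an ind-coherent module over an affine open vanishes. -/
theorem subsingleton_HU_ind {W : (𝔛.X 0).Opens} (hW : IsAffineOpen W) {𝔉 : FSch.ModF 𝔛 h𝔛.1}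
    (h𝔉 : (ObjectProperty.ind.{u} fun 𝔊 : FSch.ModF 𝔛 h𝔛.1 => FSch.IsCohF 𝔛 h𝔛.1 𝔊) 𝔉) (p : ℕ) :
    Subsingleton (CohTop.HU ((SheafOfModules.toSheaf _).obj 𝔉 : CohTop.Ab (𝔛.X 0).toPresheafedSpace.carrier) (p + 1) W) := by
  obtain ⟨J, _, _, P, hP⟩ := h𝔉
  let T := SheafOfModules.toSheaf.{u} (ModSite.ringSh (𝔛.Osh h𝔛.1))
  haveI := SiteBase.preservesColimitsOfSize_toSheaf (ModSite.ringSh (𝔛.Osh h𝔛.1))
  let G := (Sheaf.cohomologyPresheafFunctor.{u} (Opens.grothendieckTopology (𝔛.X 0).toPresheafedSpace.carrier)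
    (p + 1)).flip.obj (op W)
  haveI : PreservesColimitsOfShape J G := QcqsColim.preservesColimitsOfShape_cohomologyPresheaf
    (isBasis_goodOpen (𝔛.X 0)) ⟨hW.isCompact, hW.isQuasiSeparated⟩ J (p + 1)
  let hT : IsColimit (T.mapCocone (Cocone.mk 𝔉 P.ι)) := isColimitOfPreserves T P.isColimit
  let hG := isColimitOfPreserves G hT
  refine ⟨fun x y => ?_⟩
  have key : ∀ z : G.obj (T.obj 𝔉), z = 0 := fun z => by
    obtain ⟨j, w, rfl⟩ := Concrete.isColimit_exists_rep _ hG z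
    rw [@Subsingleton.elim _ (subsingleton_HU_coh h𝔛 hW (hP j) p) w 0]
    exact map_zero _
  exact (key x).trans (key y).symm

/-- Higher direct images of ind-coherent modules along a morphism affine on the smallest level vanish. -/
theorem isZero_rpushF_of_ind {𝔜 : FSch.Sys.{u}} (h𝔜 : 𝔜.IsFormal) (g : 𝔛 ⟶ 𝔜)
    [IsAffineHom ((g : FSch.Hom 𝔛 𝔜).app 0)] [HasInjectiveResolutions (FSch.ModF 𝔛 h𝔛.1)]
    (𝔐 : FSch.ModF 𝔛 h𝔛.1)
    (h𝔐 : (ObjectProperty.ind.{u} fun 𝔊 : FSch.ModF 𝔛 h𝔛.1 => FSch.IsCohF 𝔛 h𝔛.1 𝔊) 𝔐) (q : ℕ) :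
    IsZero ((FSch.RpushF g h𝔛.1 h𝔜 (q + 1)).obj 𝔐) := by
  let T := SheafOfModules.toSheaf.{u} (ModSite.ringSh (𝔛.Osh h𝔛.1))
  haveI := SiteBase.preservesColimitsOfSize_toSheaf (ModSite.ringSh (𝔛.Osh h𝔛.1))
  haveI := SiteBase.preservesLimitsOfSize_toSheaf (R := ModSite.ringSh (𝔛.Osh h𝔛.1))
  haveI : PreservesLimitsOfSize.{0, 0} T := preservesLimitsOfSize_shrink.{0, u, 0, u} _
  haveI : PreservesColimitsOfSize.{0, 0} T := preservesColimitsOfSize_shrink.{0, u, 0, u} _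
  haveI : PreservesFiniteLimits T := ⟨fun _ => inferInstance⟩
  haveI : PreservesFiniteColimits T := ⟨fun _ => inferInstance⟩
  haveI : PreservesFiniteLimits (FSch.homMor g h𝔛.1 h𝔜).push := by
    haveI := (FSch.homMor g h𝔛.1 h𝔜).adj.isRightAdjoint
    exact inferInstance
  let g₀ := (g : FSch.Hom 𝔛 𝔜).app 0
  refine SitePullUnit.isZero_rightDerived_of_class (FSch.homMor g h𝔛.1 h𝔜).push
    (fun M => ∀ V : (𝔜.X 0).Opens, IsAffineOpen V → ∀ n,
      Subsingleton (CohTop.HU (T.obj M : CohTop.Ab (𝔛.X 0).toPresheafedSpace.carrier) (n + 1) (g₀ ⁻¹ᵁ V)))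
    ?_ ?_ (fun V hV n => subsingleton_HU_ind h𝔛 (hV.preimage g₀) h𝔐 n) q
  · intro S hS h1 hI V hV n
    refine subsingleton_HU_X₃ (hS.map_of_exact T) _ n (h1 V hV (n + 1)) ?_
    exact SiteBase.subsingleton_HU_of_totallyAcyclic
      (@SiteBase.isTotallyAcyclic_toSheaf_injective _ _ _ (ModSite.ringSh (𝔛.Osh h𝔛.1)) S.X₂ hI) _ n
  · intro S hS h1 _
    refine FModLib.epi_of_locally _ fun W s =>
      ⟨Sieve.ofArrows (fun V : {V : (𝔜.X 0).Opens // IsAffineOpen V ∧ V ≤ W} => V.1) (fun V => homOfLE V.2.2),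
        ?_, ?_⟩
    · intro x hx
      obtain ⟨V, hV, hxV, hVW⟩ := exists_isAffineOpen_mem_and_subset (X := 𝔜.X 0) (x := x) hx
      exact ⟨V, homOfLE hVW, ⟨V, 𝟙 _, _, Presieve.ofArrows.mk (⟨V, hV, hVW⟩ : {V : (𝔜.X 0).Opens // IsAffineOpen V ∧ V ≤ W}),
        Category.id_comp _⟩, hxV⟩
    · rintro W' f ⟨_, k, _, ⟨⟨V, hV, hVW⟩⟩, rfl⟩
      let s' := ((FSch.homMor g h𝔛.1 h𝔜).push.obj S.X₃).val.map (homOfLE hVW).op s
      obtain ⟨t, ht⟩ := surjective_of_subsingleton_HU (hS.map_of_exact T) (g₀ ⁻¹ᵁ V) (h1 V hV 0) s'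
      refine ⟨((FSch.homMor g h𝔛.1 h𝔜).push.obj S.X₂).val.map k.op t, ?_⟩
      rw [PresheafOfModules.naturality_apply, op_comp, PresheafOfModules.map_comp_apply]
      exact congrArg (((FSch.homMor g h𝔛.1 h𝔜).push.obj S.X₃).val.map k.op) ht

end Groth.Agent.IndCoh
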