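import Groth.Agent.IndCoh.WayOut
import Groth.Agent.IndCoh.HUInd
import Groth.Agent.IndCoh.Colim

/-!
# Derived direct images along affine morphisms of formal schemes
-/

set_option autoImplicit false
set_option backward.isDefEq.respectTransparency false
set_option backward.isDefEq.respectTransparency.types false
set_option linter.style.haveILetI false

universe u

open CategoryTheory CategoryTheory.Limits AlgebraicGeometry TopologicalSpace Opposite

attribute [local instance] HasDerivedCategory.standard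

noncomputable section

namespace Groth.Agent.IndCoh

open Groth.Agent.SiteCmpLib

variable {𝔛 : FSch.Sys.{u}}

/-- Affine opens cover. -/
theorem covers_affine (X : Scheme.{u}) :
    LocClass.Covers (Opens.grothendieckTopology X.toPresheafedSpace.carrier) {U : X.Opens | IsAffineOpen U} :=
  fun U => ⟨{V : X.Opens // IsAffineOpen V ∧ V ≤ U}, fun V => V.1, fun V => homOfLE V.2.2, fun x hx => by
    obtain ⟨V, hV, hxV, hVU⟩ := exists_isAffineOpen_mem_and_subset (X := X) (x := x) hx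
    exact ⟨V, homOfLE hVU, ⟨V, 𝟙 _, _, Presieve.ofArrows.mk (⟨V, hV, hVU⟩ : {V : X.Opens // IsAffineOpen V ∧ V ≤ U}),
      Category.id_comp _⟩, hxV⟩, fun V => V.2.1⟩

/-- Affine opens contained in the members of a covering form a refinement. -/
theorem exists_affine_refinement (X : Scheme.{u}) (V : X.Opens)
    (T : Sieve V) (hT : T ∈ Opens.grothendieckTopology X.toPresheafedSpace.carrier V) :
    ∃ (ι : Type u) (Y : ι → X.Opens) (g : ∀ i, Y i ⟶ V), (∀ i, T.arrows (g i)) ∧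
      Sieve.ofArrows Y g ∈ Opens.grothendieckTopology X.toPresheafedSpace.carrier V ∧ ∀ i, IsAffineOpen (Y i) := by
  refine ⟨{W : X.Opens // IsAffineOpen W ∧ ∃ h : W ≤ V, T.arrows (homOfLE h)}, fun W => W.1,
    fun W => homOfLE W.2.2.choose, fun W => W.2.2.choose_spec, fun x hx => ?_, fun W => W.2.1⟩
  obtain ⟨W', g, hg, hxW'⟩ := hT x hx
  obtain ⟨W, hW, hxW, hWW'⟩ := exists_isAffineOpen_mem_and_subset (X := X) (x := x) hxW'
  have hmem : T.arrows (homOfLE (le_trans hWW' g.le)) := T.downward_closed hg (homOfLE hWW')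
  exact ⟨W, homOfLE (le_trans hWW' g.le), ⟨W, 𝟙 _, _,
    Presieve.ofArrows.mk (⟨W, hW, _, hmem⟩ : {W : X.Opens // IsAffineOpen W ∧ ∃ h : W ≤ V, T.arrows (homOfLE h)}),
    Subsingleton.elim _ _⟩, hxW⟩

/-- Cohomology sheaves of the derived direct image along an affine morphism vanish above those of the object. -/
theorem isZero_hMod_rpushD_of_ind (h𝔛 : 𝔛.IsLocNoethFormal) {𝔜 : FSch.Sys.{u}} (h𝔜 : 𝔜.IsFormal) (g : 𝔛 ⟶ 𝔜)
    [IsAffineHom ((g : FSch.Hom 𝔛 𝔜).app 0)] [SiteCmp.HasRpushD (FSch.homMor g h𝔛.1 h𝔜)]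
    (G : DerivedCategory (FSch.ModF 𝔛 h𝔛.1))
    (hG : ∀ i : ℤ, (ObjectProperty.ind.{u} fun 𝔊 : FSch.ModF 𝔛 h𝔛.1 => FSch.IsCohF 𝔛 h𝔛.1 𝔊) (SiteCmp.HMod G i))
    (e : ℤ) (he : ∀ i : ℤ, e < i → IsZero (SiteCmp.HMod G i)) (i : ℤ) (hi : e < i) :
    IsZero (SiteCmp.HMod ((SiteCmp.RpushD (FSch.homMor g h𝔛.1 h𝔜)).obj G) i) := by
  let A : ObjectProperty (FSch.ModF 𝔛 h𝔛.1) := fun M => Gd h𝔛 M
  haveI : A.IsClosedUnderIsomorphisms := ⟨fun e h => Gd.of_iso h𝔛 e h⟩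
  haveI : A.ContainsZero := ⟨kernel (𝟙 (FSch.unitF 𝔛 h𝔛.1)), isZero_kernel_of_mono _,
    Gd.of_coh h𝔛 (isCohF_zero h𝔛)⟩
  haveI : EnoughInjectives (FSch.ModF 𝔛 h𝔛.1) := IsGrothendieckAbelian.enoughInjectives.{u}
  let f := FSch.homMor g h𝔛.1 h𝔜
  let g₀ := (g : FSch.Hom 𝔛 𝔜).app 0
  have hG' : WSerre.cohIn A G := fun j => Gd.of_ind h𝔛 (hG j)
  have h : ((SiteCmp.RpushD f).obj G).IsLE (e + 0) := WayOut.isLE_rpushD f A (covers_affine (𝔛.X 0))
    (fun V hV => ⟨0, fun T hT => by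
      obtain ⟨ι, Y, y, hy, hcov, hY⟩ := exists_affine_refinement (𝔛.X 0) V T hT
      refine ⟨ι, Y, y, hy, hcov, fun j F hF k hk => ?_⟩
      obtain ⟨q, rfl⟩ := Nat.exists_eq_succ_of_ne_zero hk.ne'
      exact subsingleton_HU_ind h𝔛 (hY j) (Gd.ind h𝔛 hF) q⟩) 0
    (fun M hM => ModBounded.isLE_single_of_rpush f 0 M fun p hp => by
      obtain ⟨q, rfl⟩ := Nat.exists_eq_succ_of_ne_zero (show p ≠ 0 by omega)
      exact isZero_rpushF_of_ind h𝔛 h𝔜 g M (Gd.ind h𝔛 hM) q)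
    (covers_affine (𝔜.X 0))
    (fun V hV => ⟨0, fun T hT => by
      obtain ⟨ι, Y, y, hy, hcov, hY⟩ := exists_affine_refinement (𝔜.X 0) V T hT
      refine ⟨ι, Y, y, hy, hcov, fun j F hF k hk => ?_⟩
      obtain ⟨q, rfl⟩ := Nat.exists_eq_succ_of_ne_zero hk.ne'
      exact subsingleton_HU_ind h𝔛 ((hY j).preimage g₀) (Gd.ind h𝔛 hF) q⟩)
    G e hG' ((DerivedCategory.isLE_iff G e).2 he)
  exact DerivedCategory.isZero_of_isLE _ (e + 0) i (by omega)

end Groth.Agent.IndCoh
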