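import Groth.Agent.QCoh.Bound
import Groth.Agent.IndCoh.WayOutAffine
import Groth.Agent.QCoh.RpushGod

/-!
# Bounds for the cohomological dimension of ind-coherent modules on formal schemes
-/

set_option autoImplicit false
set_option backward.isDefEq.respectTransparency false
set_option backward.isDefEq.respectTransparency.types false
set_option linter.style.haveILetI false

universe u

open CategoryTheory CategoryTheory.Limits AlgebraicGeometry TopologicalSpace Opposite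

attribute [local instance] HasDerivedCategory.standard

noncomputable section

namespace Groth.Agent.IndCoh

open Groth.Agent.SiteCmpLib

section Generic

variable {X : Scheme.{u}}

/-- Abelian sheaves without higher cohomology over affine opens. -/
def AffAcyclic (M : CohTop.Ab X.toPresheafedSpace.carrier) : Prop :=
  ∀ V : X.Opens, IsAffineOpen V → ∀ n, Subsingleton (CohTop.HU M (n + 1) V)

/-- Vanishing on a union of `t` members of a family of affines stable under intersection. -/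
theorem subsingleton_HU_iSup {M : CohTop.Ab X.toPresheafedSpace.carrier} (hM : AffAcyclic M) (Q : X.Opens → Prop)
    (hQa : ∀ V, Q V → IsAffineOpen V) (hQi : ∀ V W, Q V → Q W → Q (V ⊓ W)) :
    ∀ (t : ℕ) (U : Fin t → X.Opens), (∀ i, Q (U i)) → ∀ n : ℕ, t ≤ n →
      Subsingleton (CohTop.HU (X := X.toPresheafedSpace.carrier) M n (⨆ i, U i)) := by
  intro t
  induction t with
  | zero =>
    intro U _ n _
    rw [show (⨆ i, U i) = ⊥ by simp]
    match n with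
    | 0 => exact QCoh.Ab.subsingleton_HU_zero_bot _
    | n + 1 => exact hM _ (isAffineOpen_bot X) n
  | succ t ih =>
    intro U hU n hn
    obtain ⟨m, rfl⟩ := Nat.exists_eq_add_of_le (show 1 ≤ n by omega)
    rw [Nat.add_comm, show (⨆ i, U i) = U 0 ⊔ ⨆ i : Fin t, U i.succ from
      le_antisymm (iSup_le fun i => Fin.cases le_sup_left
        (fun j => le_sup_of_le_right (le_iSup (fun i : Fin t => U i.succ) j)) i)
        (sup_le (le_iSup _ _) (iSup_le fun i => le_iSup _ _))]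
    refine QCoh.Ab.subsingleton_HU_sup _ _ _ m (hM _ (hQa _ (hU 0)) m)
      (ih _ (fun i => hU i.succ) (m + 1) (by omega)) ?_
    rw [inf_iSup_eq]
    exact ih _ (fun i => hQi _ _ (hU 0) (hU i.succ)) m (by omega)

/-- A quasi-compact quasi-separated open has cohomological dimension bounded uniformly on its
basic opens. -/
theorem exists_bound (T : X.Opens) (hT : IsCompact (T : Set X))
    (hT' : IsQuasiSeparated (T : Set X)) :
    ∃ d : ℕ, ∀ g : Γ(X, T), ∀ M : CohTop.Ab X.toPresheafedSpace.carrier, AffAcyclic M → ∀ p, d ≤ p →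
      Subsingleton (CohTop.HU (X := X.toPresheafedSpace.carrier) M p (X.basicOpen g)) := by
  obtain ⟨s, hs, hsT⟩ := isCompact_iff_finite_and_eq_biUnion_affineOpens.mp hT
  have hle : ∀ U ∈ s, (U : X.affineOpens).1 ≤ T := fun U hU => by
    rw [hsT]; exact le_iSup₂ (f := fun (i : X.affineOpens) (_ : i ∈ s) => (i : X.Opens)) U hU
  suffices h : ∀ s' : Set X.affineOpens, s'.Finite → s' ⊆ s → ∃ d : ℕ, ∀ g : Γ(X, T),
      ∀ M : CohTop.Ab X.toPresheafedSpace.carrier, AffAcyclic M → ∀ p, d ≤ p →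
      Subsingleton (CohTop.HU (X := X.toPresheafedSpace.carrier) M p
        ((⨆ U ∈ s', (U : X.Opens)) ⊓ X.basicOpen g)) by
    obtain ⟨d, hd⟩ := h s hs subset_rfl
    refine ⟨d, fun g M hM p hp => ?_⟩
    have := hd g M hM p hp
    rwa [← hsT, inf_eq_right.2 (X.basicOpen_le g)] at this
  intro s' hs'
  induction s', hs' using Set.Finite.induction_on with
  | empty =>
    refine fun _ => ⟨0, fun g M hM p _ => ?_⟩
    have h := subsingleton_HU_iSup hM (fun _ => False) (fun _ h => h.elim)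
      (fun _ _ h _ => h.elim) 0 Fin.elim0 (fun i => i.elim0) p (Nat.zero_le p)
    rw [iSup_of_empty] at h
    simpa using h
  | @insert U₀ s' _ hs' ih =>
    intro hsub
    obtain ⟨d, hd⟩ := ih ((Set.subset_insert _ _).trans hsub)
    obtain ⟨U, hU⟩ := U₀
    have hUT : U ≤ T := hle ⟨U, hU⟩ (hsub (Set.mem_insert _ _))
    let S : X.Opens := ⨆ V ∈ s', (V : X.Opens)
    have hST : S ≤ T := iSup₂_le fun V hV => hle V (hsub (Set.mem_insert_of_mem _ hV))
    have hS : IsCompact (S : Set X) :=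
      isCompact_iff_finite_and_eq_biUnion_affineOpens.mpr ⟨s', hs', rfl⟩
    let K : X.Opens := S ⊓ U
    choose f hf hxf using fun x : (K : Set X) => hU.exists_basicOpen_le (V := K) ⟨x.1, x.2⟩ x.2.2
    obtain ⟨t, ht⟩ := (hT' _ _ hST S.isOpen hS hUT U.isOpen hU.isCompact :
        IsCompact (K : Set X)).elim_finite_subcover
      (fun x => (X.basicOpen (f x) : Set X)) (fun x => (X.basicOpen (f x)).isOpen)
      (fun x hx => Set.mem_iUnion.2 ⟨⟨x, hx⟩, hxf ⟨x, hx⟩⟩)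
    refine ⟨max (d + 1) (t.card + 1), fun g M hM p hp => ?_⟩
    let gU : Γ(X, U) := X.presheaf.map (homOfLE hUT).op g
    have hgU : X.basicOpen gU = U ⊓ X.basicOpen g := Scheme.basicOpen_res _ _ _
    let V : Fin t.card → X.Opens := fun i => X.basicOpen (f (t.equivFin.symm i).1 * gU)
    have hK : K ⊓ X.basicOpen g = ⨆ i, V i := by
      refine le_antisymm (fun x hx => ?_) (iSup_le fun i => ?_)
      · obtain ⟨y, hy, hxy⟩ := Set.mem_iUnion₂.1 (ht hx.1)
        refine (le_iSup V (t.equivFin ⟨y, hy⟩)) ?_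
        simp only [V, Equiv.symm_apply_apply, Scheme.basicOpen_mul, hgU]
        exact ⟨hxy, hx.1.2, hx.2⟩
      · simp only [V, Scheme.basicOpen_mul, hgU]
        exact inf_le_inf (hf _) inf_le_right
    obtain ⟨m, rfl⟩ := Nat.exists_eq_add_of_le (show 1 ≤ p by omega)
    rw [Nat.add_comm, iSup_insert, inf_sup_right]
    refine QCoh.Ab.subsingleton_HU_sup _ _ _ m ?_ (hd g M hM _ (by omega)) ?_
    · rw [← hgU]
      exact hM _ (hU.basicOpen gU) m
    · rw [show (U ⊓ X.basicOpen g) ⊓ (S ⊓ X.basicOpen g) = ⨆ i, V i from by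
        rw [← hK]
        exact le_antisymm (le_inf (le_inf (inf_le_right.trans inf_le_left)
          (inf_le_left.trans inf_le_left)) (inf_le_left.trans inf_le_right))
          (le_inf (inf_le_inf_right _ inf_le_right) (inf_le_inf_right _ inf_le_left))]
      refine subsingleton_HU_iSup hM (fun W => ∃ g : Γ(X, U), W = X.basicOpen g) ?_ ?_ _ V
        (fun i => ⟨_, rfl⟩) m (by omega)
      · rintro _ ⟨g, rfl⟩; exact hU.basicOpen g
      · rintro _ _ ⟨g, rfl⟩ ⟨g', rfl⟩; exact ⟨g * g', (X.basicOpen_mul g g').symm⟩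

end Generic

variable {𝔛 : FSch.Sys.{u}}

set_option maxHeartbeats 1000000 in
/-- Higher direct images vanish in degrees beyond a bound for the cohomology of inverse images of a basis. -/
theorem isZero_rpushF_of_class (h𝔛 : 𝔛.IsFormal) {𝔜 : FSch.Sys.{u}} (h𝔜 : 𝔜.IsFormal) (g : 𝔛 ⟶ 𝔜)
    [HasInjectiveResolutions (FSch.ModF 𝔛 h𝔛)] (B : Set (𝔜.X 0).Opens) (hB : Opens.IsBasis B) :
    ∀ (m : ℕ) (M : FSch.ModF 𝔛 h𝔛),
      (∀ V ∈ B, ∀ n, m ≤ n → Subsingleton (CohTop.HU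
        ((SheafOfModules.toSheaf _).obj M : CohTop.Ab (𝔛.X 0).toPresheafedSpace.carrier) (n + 1)
        (((g : FSch.Hom 𝔛 𝔜).app 0) ⁻¹ᵁ V))) →
      ∀ q, m ≤ q → IsZero ((FSch.RpushF g h𝔛 h𝔜 (q + 1)).obj M) := by
  let T := SheafOfModules.toSheaf.{u} (ModSite.ringSh (𝔛.Osh h𝔛))
  haveI := SiteBase.preservesColimitsOfSize_toSheaf (ModSite.ringSh (𝔛.Osh h𝔛))
  haveI := SiteBase.preservesLimitsOfSize_toSheaf (R := ModSite.ringSh (𝔛.Osh h𝔛))
  haveI : PreservesLimitsOfSize.{0, 0} T := preservesLimitsOfSize_shrink.{0, u, 0, u} _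
  haveI : PreservesColimitsOfSize.{0, 0} T := preservesColimitsOfSize_shrink.{0, u, 0, u} _
  haveI : PreservesFiniteLimits T := ⟨fun _ => inferInstance⟩
  haveI : PreservesFiniteColimits T := ⟨fun _ => inferInstance⟩
  haveI : PreservesFiniteLimits (FSch.homMor g h𝔛 h𝔜).push := by
    haveI := (FSch.homMor g h𝔛 h𝔜).adj.isRightAdjoint
    exact inferInstance
  haveI : EnoughInjectives (FSch.ModF 𝔛 h𝔛) := IsGrothendieckAbelian.enoughInjectives.{u}
  let g₀ := (g : FSch.Hom 𝔛 𝔜).app 0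
  -- the cokernel of a map into an injective loses one degree
  have shift : ∀ (m : ℕ) (S : ShortComplex (FSch.ModF 𝔛 h𝔛)), S.ShortExact → Injective S.X₂ → ∀ W n,
      m ≤ n → Subsingleton (CohTop.HU (T.obj S.X₁ : CohTop.Ab (𝔛.X 0).toPresheafedSpace.carrier) (n + 1 + 1) W) →
        Subsingleton (CohTop.HU (T.obj S.X₃ : CohTop.Ab (𝔛.X 0).toPresheafedSpace.carrier) (n + 1) W) := by
    intro m S hS hI W n _ h1
    exact subsingleton_HU_X₃ (hS.map_of_exact T) _ n h1 (SiteBase.subsingleton_HU_of_totallyAcyclic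
      (@SiteBase.isTotallyAcyclic_toSheaf_injective _ _ _ (ModSite.ringSh (𝔛.Osh h𝔛)) S.X₂ hI) _ n)
  intro m
  induction m with
  | zero =>
    intro M hM q _
    refine SitePullUnit.isZero_rightDerived_of_class (FSch.homMor g h𝔛 h𝔜).push
      (fun M => ∀ V ∈ B, ∀ n,
        Subsingleton (CohTop.HU (T.obj M : CohTop.Ab (𝔛.X 0).toPresheafedSpace.carrier) (n + 1) (g₀ ⁻¹ᵁ V)))
      (fun S hS h1 hI V hV n => shift 0 S hS hI _ n (Nat.zero_le n) (h1 V hV (n + 1))) ?_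
      (fun V hV n => hM V hV n (Nat.zero_le n)) q
    intro S hS h1 _
    refine FModLib.epi_of_locally _ fun W s =>
      ⟨Sieve.ofArrows (fun V : {V : (𝔜.X 0).Opens // V ∈ B ∧ V ≤ W} => V.1) (fun V => homOfLE V.2.2), ?_, ?_⟩
    · intro x hx
      obtain ⟨V, hV, hxV, hVW⟩ := Opens.isBasis_iff_nbhd.1 hB hx
      exact ⟨V, homOfLE hVW, ⟨V, 𝟙 _, _, Presieve.ofArrows.mk (⟨V, hV, hVW⟩ : {V : (𝔜.X 0).Opens // V ∈ B ∧ V ≤ W}),
        Category.id_comp _⟩, hxV⟩
    · rintro W' f ⟨_, k, _, ⟨⟨V, hV, hVW⟩⟩, rfl⟩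
      let s' := ((FSch.homMor g h𝔛 h𝔜).push.obj S.X₃).val.map (homOfLE hVW).op s
      obtain ⟨t, ht⟩ := surjective_of_subsingleton_HU (hS.map_of_exact T) (g₀ ⁻¹ᵁ V) (h1 V hV 0) s'
      refine ⟨((FSch.homMor g h𝔛 h𝔜).push.obj S.X₂).val.map k.op t, ?_⟩
      rw [PresheafOfModules.naturality_apply, op_comp, PresheafOfModules.map_comp_apply]
      exact congrArg (((FSch.homMor g h𝔛 h𝔜).push.obj S.X₃).val.map k.op) ht
  | succ m ih =>
    intro M hM q hq
    obtain ⟨q, rfl⟩ := Nat.exists_eq_add_of_le (show 1 ≤ q by omega)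
    rw [show 1 + q + 1 = q + 2 by omega]
    let S := ShortComplex.mk (Injective.ι M) (cokernel.π (Injective.ι M)) (cokernel.condition _)
    have hS : S.ShortExact := { exact := ShortComplex.exact_of_g_is_cokernel _ (cokernelIsCokernel _) }
    obtain ⟨e⟩ := QCoh.nonempty_shift_iso (FSch.homMor g h𝔛 h𝔜).push hS q
      ((FSch.homMor g h𝔛 h𝔜).push.isZero_rightDerived_obj_injective_succ q _)
      ((FSch.homMor g h𝔛 h𝔜).push.isZero_rightDerived_obj_injective_succ (q + 1) _)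
    exact (ih _ (fun V hV n hn => shift m S hS inferInstance _ n hn (hM V hV (n + 1) (by omega))) q
      (by omega)).of_iso e.symm

/-- The derived direct image of a morphism of quasi-compact formal schemes is bounded on ind-coherent cohomology. -/
theorem exists_bound_rpushD (h𝔛 : 𝔛.IsLocNoethFormal) [CompactSpace (𝔛.X 0)] {𝔜 : FSch.Sys.{u}} (h𝔜 : 𝔜.IsFormal)
    [CompactSpace (𝔜.X 0)] (g : 𝔛 ⟶ 𝔜) [SiteCmp.HasRpushD (FSch.homMor g h𝔛.1 h𝔜)] :
    ∃ e : ℕ, ∀ (G : DerivedCategory (FSch.ModF 𝔛 h𝔛.1)),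
      (∀ i : ℤ, (ObjectProperty.ind.{u} fun 𝔊 : FSch.ModF 𝔛 h𝔛.1 => FSch.IsCohF 𝔛 h𝔛.1 𝔊) (SiteCmp.HMod G i)) →
      ∀ i₀ : ℤ, (∀ i : ℤ, i₀ ≤ i → IsZero (SiteCmp.HMod G i)) →
        ∀ i : ℤ, i₀ + e ≤ i → IsZero (SiteCmp.HMod ((SiteCmp.RpushD (FSch.homMor g h𝔛.1 h𝔜)).obj G) i) := by
  haveI := h𝔛.2.2 0
  haveI : IsNoetherian (𝔛.X 0) := {}
  let g₀ := (g : FSch.Hom 𝔛 𝔜).app 0
  have hc : ∀ U : (𝔛.X 0).Opens, IsCompact (U : Set (𝔛.X 0)) := fun U =>
    TopologicalSpace.NoetherianSpace.isCompact _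
  obtain ⟨s, hs, hsT⟩ := isCompact_iff_finite_and_eq_biUnion_affineOpens.mp
    (show IsCompact ((⊤ : (𝔜.X 0).Opens) : Set (𝔜.X 0)) by simpa using isCompact_univ)
  choose d hd using fun W : (𝔜.X 0).affineOpens => exists_bound (g₀ ⁻¹ᵁ W.1) (hc _)
    (fun U V _ hU _ _ hV _ => TopologicalSpace.NoetherianSpace.isCompact _)
  let N := hs.toFinset.sup d
  let A : ObjectProperty (FSch.ModF 𝔛 h𝔛.1) := fun M => Gd h𝔛 M
  haveI : A.IsClosedUnderIsomorphisms := ⟨fun e h => Gd.of_iso h𝔛 e h⟩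
  haveI : A.ContainsZero := ⟨kernel (𝟙 (FSch.unitF 𝔛 h𝔛.1)), isZero_kernel_of_mono _,
    Gd.of_coh h𝔛 (isCohF_zero h𝔛)⟩
  haveI : EnoughInjectives (FSch.ModF 𝔛 h𝔛.1) := IsGrothendieckAbelian.enoughInjectives.{u}
  let f := FSch.homMor g h𝔛.1 h𝔜
  let B : Set (𝔜.X 0).Opens := {W | ∃ U ∈ s, ∃ h : Γ(𝔜.X 0, (U : (𝔜.X 0).affineOpens).1), W = (𝔜.X 0).basicOpen h}
  have hB : Opens.IsBasis B := Opens.isBasis_iff_nbhd.2 fun {U y} hy => by
    have hy' : y ∈ (⊤ : (𝔜.X 0).Opens) := trivial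
    rw [hsT] at hy'
    obtain ⟨V, hVs, hyV⟩ : ∃ V ∈ s, y ∈ (V : (𝔜.X 0).affineOpens).1 := by simpa using hy'
    obtain ⟨h, hh, hyh⟩ := V.2.exists_basicOpen_le (V := U) ⟨y, hy⟩ hyV
    exact ⟨(𝔜.X 0).basicOpen h, ⟨V, hVs, h, rfl⟩, hyh, hh⟩
  have hBN : ∀ V ∈ B, ∀ (M : FSch.ModF 𝔛 h𝔛.1), Gd h𝔛 M → ∀ p, N ≤ p → Subsingleton (CohTop.HU
      ((SheafOfModules.toSheaf _).obj M : CohTop.Ab (𝔛.X 0).toPresheafedSpace.carrier) p (g₀ ⁻¹ᵁ V)) := by
    rintro _ ⟨U, hU, h, rfl⟩ M hM p hp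
    have hp' := hd U (g₀.app U.1 h) _ (fun V hV n => subsingleton_HU_ind h𝔛 hV (Gd.ind h𝔛 hM) n) p
      (le_trans (Finset.le_sup (hs.mem_toFinset.2 hU)) hp)
    rwa [← Scheme.preimage_basicOpen] at hp'
  refine ⟨N, fun G hG i₀ hi₀ i hi => ?_⟩
  have hG' : WSerre.cohIn A G := fun j => Gd.of_ind h𝔛 (hG j)
  have h : ((SiteCmp.RpushD f).obj G).IsLE (i₀ - 1 + (N : ℤ)) := WayOut.isLE_rpushD f A (covers_affine (𝔛.X 0))
    (fun V hV => ⟨0, fun T hT => by
      obtain ⟨ι, Y, y, hy, hcov, hY⟩ := exists_affine_refinement (𝔛.X 0) V T hT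
      refine ⟨ι, Y, y, hy, hcov, fun j F hF k hk => ?_⟩
      obtain ⟨q, rfl⟩ := Nat.exists_eq_succ_of_ne_zero hk.ne'
      exact subsingleton_HU_ind h𝔛 (hY j) (Gd.ind h𝔛 hF) q⟩) N
    (fun M hM => ModBounded.isLE_single_of_rpush f N M fun p hp => by
      obtain ⟨q, rfl⟩ := Nat.exists_eq_succ_of_ne_zero (show p ≠ 0 by omega)
      exact isZero_rpushF_of_class h𝔛.1 h𝔜 g B hB N M (fun V hV n hn => hBN V hV M hM (n + 1) (by omega)) q
        (by omega))
    (B' := B)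
    (fun U => ⟨{V : (𝔜.X 0).Opens // V ∈ B ∧ V ≤ U}, fun V => V.1, fun V => homOfLE V.2.2, fun x hx => by
      obtain ⟨V, hV, hxV, hVU⟩ := Opens.isBasis_iff_nbhd.1 hB hx
      exact ⟨V, homOfLE hVU, ⟨V, 𝟙 _, _, Presieve.ofArrows.mk (⟨V, hV, hVU⟩ : {V : (𝔜.X 0).Opens // V ∈ B ∧ V ≤ U}),
        Category.id_comp _⟩, hxV⟩, fun V => V.2.1⟩)
    (fun V hV => ⟨N, fun T hT => by
      refine ⟨{W : (𝔜.X 0).Opens // W ∈ B ∧ ∃ h : W ≤ V, T.arrows (homOfLE h)}, fun W => W.1,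
        fun W => homOfLE W.2.2.choose, fun W => W.2.2.choose_spec, fun x hx => ?_,
        fun j F hF k hk => hBN _ j.2.1 F hF k hk.le⟩
      obtain ⟨W', w, hw, hxW'⟩ := hT x hx
      obtain ⟨W, hW, hxW, hWW'⟩ := Opens.isBasis_iff_nbhd.1 hB hxW'
      have hmem : T.arrows (homOfLE (le_trans hWW' w.le)) := T.downward_closed hw (homOfLE hWW')
      exact ⟨W, homOfLE (le_trans hWW' w.le), ⟨W, 𝟙 _, _,
        Presieve.ofArrows.mk (⟨W, hW, _, hmem⟩ : {W : (𝔜.X 0).Opens // W ∈ B ∧ ∃ h : W ≤ V, T.arrows (homOfLE h)}),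
        Subsingleton.elim _ _⟩, hxW⟩⟩)
    G (i₀ - 1) hG' ((DerivedCategory.isLE_iff G (i₀ - 1)).2 fun j hj => hi₀ j (by omega))
  exact DerivedCategory.isZero_of_isLE _ (i₀ - 1 + (N : ℤ)) i (by omega)

end Groth.Agent.IndCoh
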