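import Groth.Agent.IndCoh.Colim

/-!
# Arbitrary colimits of ind-coherent modules
-/

set_option autoImplicit false
set_option backward.isDefEq.respectTransparency false
set_option backward.isDefEq.respectTransparency.types false
set_option linter.style.haveILetI false

universe u

open CategoryTheory CategoryTheory.Limits AlgebraicGeometry TopologicalSpace Opposite

noncomputable section

namespace Groth.Agent.IndCoh

open Groth.Agent.FModLib

variable {𝔛 : FSch.Sys.{u}} (h𝔛 : 𝔛.IsLocNoethFormal)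

/-- Finitely many conditions with values in good modules cut out a coherent submodule. -/
theorem exists_joint_kernel {κ : Type u} {P : κ → FSch.ModF 𝔛 h𝔛.1} (hP : ∀ i, Gd h𝔛 (P i))
    {B : FSch.ModF 𝔛 h𝔛.1} (hB : FSch.IsCohF 𝔛 h𝔛.1 B) (g : ∀ i, B ⟶ P i) (t : Finset κ) :
    ∃ (K : FSch.ModF 𝔛 h𝔛.1) (k : K ⟶ B), FSch.IsCohF 𝔛 h𝔛.1 K ∧ Mono k ∧ (∀ i ∈ t, k ≫ g i = 0) ∧
      ∀ (Z : FSch.ModF 𝔛 h𝔛.1) (z : Z ⟶ B), (∀ i ∈ t, z ≫ g i = 0) → ∃ l : Z ⟶ K, l ≫ k = z := by
  classical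
  induction t using Finset.induction with
  | empty => exact ⟨B, 𝟙 B, hB, inferInstance, fun i hi => absurd hi (Finset.notMem_empty i),
      fun Z z _ => ⟨z, Category.comp_id z⟩⟩
  | insert j t _ ih =>
    obtain ⟨K, k, hK, _, hk, hu⟩ := ih
    refine ⟨Limits.kernel (k ≫ g j), kernel.ι (k ≫ g j) ≫ k, (hP j).kernel h𝔛 hK _, mono_comp _ _, fun i hi => ?_,
      fun Z z hz => ?_⟩
    · rcases Finset.mem_insert.mp hi with rfl | hi
      · rw [Category.assoc, kernel.condition]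
      · rw [Category.assoc, hk i hi, comp_zero]
    · obtain ⟨l, hl⟩ := hu Z z (fun i hi => hz i (Finset.mem_insert_of_mem hi))
      refine ⟨kernel.lift _ l ?_, ?_⟩
      · rw [← Category.assoc, hl, hz j (Finset.mem_insert_self j t)]
      · rw [← Category.assoc, kernel.lift_ι, hl]

theorem sum_proj_ι {A : Type*} [Category.{u} A] [Abelian A] [HasColimitsOfSize.{u, u} A] {κ : Type u} [Fintype κ]
    (P : κ → A) : ∑ i, FPColim.proj P i ≫ Sigma.ι P i = 𝟙 (∐ P) := by
  classical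
  refine Sigma.hom_ext _ _ fun j => ?_
  rw [Category.comp_id, Preadditive.comp_sum, Finset.sum_eq_single j (fun i _ hi => by
    rw [← Category.assoc, FPColim.ι_proj_ne P (fun e => hi e.symm), zero_comp])
    (fun h => (h (Finset.mem_univ j)).elim), ← Category.assoc, FPColim.ι_proj, Category.id_comp]

set_option maxHeartbeats 1000000 in
/-- Finite sums of good modules are good. -/
theorem Gd.sigma {κ : Type u} [Fintype κ] (P : κ → FSch.ModF 𝔛 h𝔛.1) (hP : ∀ i, Gd h𝔛 (P i)) :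
    Gd h𝔛 (∐ P) := by
  classical
  choose α hne C f hC hk hd hs using hP
  have hP' : ∀ i, Gd h𝔛 (P i) := fun i => ⟨α i, hne i, C i, f i, hC i, hk i, hd i, hs i⟩
  let F : ∀ p : Σ i, α i, C p.1 p.2 ⟶ ∐ P := fun p => f p.1 p.2 ≫ Sigma.ι P p.1
  refine Gd.of_lists h𝔛 F (fun p => hC p.1 p.2) (fun U s x hx => ?_) (fun L => ?_)
  · have key : ∀ t : Finset κ, ∃ (L : List (Σ i, α i)) (V : (𝔛.X 0).Opens) (e : V ≤ U), x ∈ V ∧
        ∃ b : FSect h𝔛 (lobj h𝔛 (fun p : Σ i, α i => C p.1 p.2) L) V, (lmap h𝔛 F L).val.app (op V) b =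
          mres _ e (∑ i ∈ t, (Sigma.ι P i).val.app (op U) ((FPColim.proj P i).val.app (op U) s)) := by
      intro t
      induction t using Finset.induction with
      | empty =>
        refine ⟨[], U, le_rfl, hx, 0, ?_⟩
        rw [Finset.sum_empty, mres_zero]
        exact map_zero _
      | insert i t hi ih =>
        obtain ⟨L, V, e, hxV, b, hb⟩ := ih
        obtain ⟨a, V', e', hxV', w, hw⟩ := hs i V (mres _ e ((FPColim.proj P i).val.app (op U) s)) x hxV
        refine ⟨⟨i, a⟩ :: L, V', e'.trans e, hxV',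
          (biprod.inl : C i a ⟶ C i a ⊞ lobj h𝔛 (fun p : Σ i, α i => C p.1 p.2) L).val.app (op V') w +
            (biprod.inr : lobj h𝔛 (fun p : Σ i, α i => C p.1 p.2) L ⟶
              C i a ⊞ lobj h𝔛 (fun p : Σ i, α i => C p.1 p.2) L).val.app (op V') (mres _ e' b), ?_⟩
        refine (map_add ((lmap h𝔛 F (⟨i, a⟩ :: L)).val.app (op V')).hom _ _).trans ?_
        rw [Finset.sum_insert hi, mres_add]
        refine congrArg₂ (· + ·) ?_ ?_
        · refine (app_congr (biprod.inl_desc _ _) V' w).trans ?_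
          refine (congrArg ((Sigma.ι P i).val.app (op V')) hw).trans ?_
          rw [mres_mres, mapp_res]
        · refine (app_congr (biprod.inr_desc _ _) V' _).trans ?_
          rw [mapp_res, hb, mres_mres]
    obtain ⟨L, V, e, hxV, b, hb⟩ := key Finset.univ
    refine ⟨L, V, e, hxV, b, hb.trans (congrArg (mres _ e) ?_)⟩
    refine Eq.trans ?_ (app_congr (sum_proj_ι P) U s)
    exact (map_sum (AddMonoidHom.mk' (fun φ : (∐ P) ⟶ ∐ P => φ.val.app (op U) s) fun _ _ => rfl)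
      (fun i => FPColim.proj P i ≫ Sigma.ι P i) Finset.univ).symm
  · let θ := lmap h𝔛 F L
    obtain ⟨K, k, hK, _, hk0, hu⟩ := exists_joint_kernel h𝔛 hP' (isCohF_lobj h𝔛 (fun p : Σ i, α i => hC p.1 p.2) L)
      (fun i => θ ≫ FPColim.proj P i) Finset.univ
    have hkθ : k ≫ θ = 0 := by
      rw [← Category.comp_id θ, ← sum_proj_ι P, Preadditive.comp_sum, Preadditive.comp_sum]
      refine Finset.sum_eq_zero fun i hi => ?_
      rw [← Category.assoc θ, ← Category.assoc k, hk0 i hi, zero_comp]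
    obtain ⟨l, hl⟩ := hu _ (kernel.ι θ) (fun i _ => by rw [kernel.condition_assoc, zero_comp])
    let e : K ≅ Limits.kernel θ :=
      { hom := kernel.lift θ k hkθ
        inv := l
        hom_inv_id := by rw [← cancel_mono k, Category.assoc, hl, kernel.lift_ι, Category.id_comp]
        inv_hom_id := by rw [← cancel_mono (kernel.ι θ), Category.assoc, kernel.lift_ι, hl, Category.id_comp] }
    exact isCohF_of_iso h𝔛 e hK

theorem nonempty_isColimit_coker {A : Type*} [Category.{u} A] [Abelian A] [HasColimitsOfSize.{u, u} A]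
    {J : Type u} [SmallCategory J] {D : J ⥤ A} (c : Cocone D) (hc : IsColimit c)
    (r : ∀ k : (Σ a : J, Σ b : J, (a ⟶ b)), D.obj k.1 ⟶ ∐ D.obj)
    (hr : ∀ k, r k = Sigma.ι D.obj k.1 - D.map k.2.2 ≫ Sigma.ι D.obj k.2.1) :
    ∃ w : Sigma.desc r ≫ Sigma.desc (fun j => c.ι.app j) = 0,
      Nonempty (IsColimit (CokernelCofork.ofπ (Sigma.desc fun j => c.ι.app j) w)) := by
  have w : Sigma.desc r ≫ Sigma.desc (fun j => c.ι.app j) = 0 := by
    refine Sigma.hom_ext _ _ fun k => ?_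
    rw [Sigma.ι_desc_assoc, hr, comp_zero, Preadditive.sub_comp, Category.assoc, Sigma.ι_desc, Sigma.ι_desc,
      c.w, sub_self]
  have nat : ∀ (Z : A) (g : (∐ D.obj) ⟶ Z), Sigma.desc r ≫ g = 0 → ∀ (a b : J) (f : a ⟶ b),
      D.map f ≫ Sigma.ι D.obj b ≫ g = Sigma.ι D.obj a ≫ g := fun Z g hg a b f => by
    have := congrArg (Sigma.ι (fun k : (Σ a : J, Σ b : J, (a ⟶ b)) => D.obj k.1) ⟨a, b, f⟩ ≫ ·) hg
    rw [Sigma.ι_desc_assoc, hr, comp_zero, Preadditive.sub_comp, Category.assoc, sub_eq_zero] at this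
    exact this.symm
  let c' : ∀ (Z : A) (g : (∐ D.obj) ⟶ Z), Sigma.desc r ≫ g = 0 → Cocone D := fun Z g hg =>
    Cocone.mk Z { app := fun j => Sigma.ι D.obj j ≫ g
                  naturality := fun a b f => (nat Z g hg a b f).trans (Category.comp_id _).symm }
  haveI : Epi (Sigma.desc fun j => c.ι.app j) := ⟨fun {Z} g g' h => hc.hom_ext fun j => by
    simpa using congrArg (Sigma.ι D.obj j ≫ ·) h⟩
  exact ⟨w, ⟨CokernelCofork.IsColimit.ofπ' _ w fun {Z} g hg => ⟨hc.desc (c' Z g hg),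
    Sigma.hom_ext _ _ fun j => (Sigma.ι_desc_assoc _ _ _).trans (hc.fac (c' Z g hg) j)⟩⟩⟩

set_option maxHeartbeats 1000000 in
/-- Colimits of good modules are good. -/
theorem Gd.colimit {J : Type u} [SmallCategory J] {D : J ⥤ FSch.ModF 𝔛 h𝔛.1} (c : Cocone D) (hc : IsColimit c)
    (hD : ∀ j, Gd h𝔛 (D.obj j)) : Gd h𝔛 c.pt := by
  classical
  let r : ∀ k : (Σ a : J, Σ b : J, (a ⟶ b)), D.obj k.1 ⟶ ∐ D.obj :=
    fun k => Sigma.ι D.obj k.1 - D.map k.2.2 ≫ Sigma.ι D.obj k.2.1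
  let supp : (Σ a : J, Σ b : J, (a ⟶ b)) → Finset J := fun k => {k.1, k.2.1}
  have hsupp : ∀ k, r k = ∑ i ∈ supp k, r k ≫ FPColim.proj D.obj i ≫ Sigma.ι D.obj i := by
    intro k
    have hp : ∀ j ∈ supp k, Sigma.ι D.obj j ≫ (∑ i ∈ supp k, FPColim.proj D.obj i ≫ Sigma.ι D.obj i) =
        Sigma.ι D.obj j := fun j hj => by
      rw [Preadditive.comp_sum, Finset.sum_eq_single j (fun i _ hi => by
        rw [← Category.assoc, FPColim.ι_proj_ne D.obj (fun e => hi e.symm), zero_comp])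
        (fun h => (h hj).elim), ← Category.assoc, FPColim.ι_proj, Category.id_comp]
    rw [← Preadditive.comp_sum]
    simp only [r, Preadditive.sub_comp, Category.assoc]
    rw [hp _ (by simp [supp]), hp _ (by simp [supp])]
  obtain ⟨w, ⟨hcoker⟩⟩ := nonempty_isColimit_coker c hc r fun _ => rfl
  obtain ⟨hcol⟩ := FPColim.nonempty_isColimit D.obj (fun k => D.obj k.1) r supp hsupp _ w hcoker
  show Gd h𝔛 (Cocone.mk c.pt (FPColim.cocone D.obj (fun k => D.obj k.1) r supp hsupp _ w)).pt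
  refine Gd.of_filtered h𝔛 _ hcol fun l => ?_
  exact Gd.cokernel h𝔛 _ (Gd.sigma h𝔛 _ fun k => hD _) (Gd.sigma h𝔛 _ fun i => hD _)

end Groth.Agent.IndCoh
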