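import Groth.Agent.IndCoh.Local
import Groth.Agent.FModLib.Abel2

/-!
# Unions of coherent submodules, sums and images of coherent modules on formal schemes
-/

set_option autoImplicit false
set_option backward.isDefEq.respectTransparency false
set_option backward.isDefEq.respectTransparency.types false
set_option linter.style.haveILetI false

universe u

open CategoryTheory CategoryTheory.Limits AlgebraicGeometry TopologicalSpace Opposite

noncomputable section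

namespace Groth.Agent.IndCoh

open Groth.Agent.FModLib

section general

variable {X : TopCat.{u}} {O : TopCat.Sheaf CommRingCat.{u} X} {F G H : ModSite.Mod O}

/-- A family of maps is locally jointly surjective on sections. -/
def LocSurj {α : Type u} {C : α → ModSite.Mod O} (f : ∀ a, C a ⟶ F) : Prop :=
  ∀ (U : Opens X) (s : ModSite.sect F U), ∀ x ∈ U, ∃ (a : α) (V : Opens X) (e : V ≤ U), x ∈ V ∧
    ∃ t : ModSite.sect (C a) V, (f a).val.app (op V) t = mres F e s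

theorem comp_app (f : F ⟶ G) (g : G ⟶ H) (U : Opens X) (s : ModSite.sect F U) :
    (f ≫ g).val.app (op U) s = g.val.app (op U) (f.val.app (op U) s) := rfl

theorem app_congr {f g : F ⟶ G} (h : f = g) (U : Opens X) (s : ModSite.sect F U) :
    f.val.app (op U) s = g.val.app (op U) s :=
  congrArg (fun k : F ⟶ G => k.val.app (op U) s) h

theorem app_zero (U : Opens X) (s : ModSite.sect F U) : (0 : F ⟶ G).val.app (op U) s = 0 := rfl

theorem app_add (f g : F ⟶ G) (U : Opens X) (s : ModSite.sect F U) :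
    (f + g).val.app (op U) s = f.val.app (op U) s + g.val.app (op U) s := rfl

theorem biprod_decomp (U : Opens X) (s : ModSite.sect (F ⊞ G) U) :
    (biprod.inl : F ⟶ F ⊞ G).val.app (op U) ((biprod.fst : F ⊞ G ⟶ F).val.app (op U) s) +
      (biprod.inr : G ⟶ F ⊞ G).val.app (op U) ((biprod.snd : F ⊞ G ⟶ G).val.app (op U) s) = s := by
  refine Eq.trans ?_ (app_congr (biprod.total (X := F) (Y := G)) U s)
  rfl

theorem exists_lift_coimage (f : F ⟶ G) (U : Opens X) (s : ModSite.sect (Abelian.coimage f) U) (x : X)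
    (hx : x ∈ U) : ∃ (V : Opens X) (e : V ≤ U), x ∈ V ∧
      ∃ t : ModSite.sect F V, (Abelian.coimage.π f).val.app (op V) t = mres _ e s := by
  obtain ⟨S, hS, h⟩ := SuppCore.exists_cover_lift (Abelian.coimage.π f) s
  obtain ⟨V, e, he, hxV⟩ := hS x hx
  obtain ⟨t, ht⟩ := h e he
  exact ⟨V, e.le, hxV, t, ht⟩

theorem IsPres.transport {U : Opens X} {n m : ℕ} {t : ULift.{u} (Fin n) → ModSite.sect F U}
    {g : ULift.{u} (Fin m) → ULift.{u} (Fin n) → O.obj.obj (op U)} (hP : IsPres F U t g) (α : F ≅ G) :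
    IsPres G U (fun i => α.hom.val.app (op U) (t i)) g := hP.of_iso α

end general

variable {𝔛 : FSch.Sys.{u}} (h𝔛 : 𝔛.IsLocNoethFormal) {𝔉 𝔊 : FSch.ModF 𝔛 h𝔛.1}

/-- Coherence only depends on the isomorphism class. -/
theorem isCohF_of_iso (α : 𝔉 ≅ 𝔊) (h : FSch.IsCohF 𝔛 h𝔛.1 𝔉) : FSch.IsCohF 𝔛 h𝔛.1 𝔊 := by
  refine isFinitePresentation_of_isPres (O := 𝔛.Osh h𝔛.1) fun x => ?_
  obtain ⟨U, hU, hxU, -⟩ := exists_affine_le (𝔛 := 𝔛) (W := ⊤) (x := x) trivial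
  obtain ⟨n, m, t, g, hP⟩ := affPres h𝔛 h hU
  exact ⟨U, n, m, _, g, hxU, hP.of_iso α⟩

/-- A zero coherent module. -/
theorem isCohF_zero : FSch.IsCohF 𝔛 h𝔛.1 (kernel (𝟙 (FSch.unitF 𝔛 h𝔛.1))) :=
  isCohF_kernel h𝔛 _ (isCohF_unitF h𝔛) (isCohF_unitF h𝔛)

set_option maxHeartbeats 800000 in
/-- The sum of two coherent modules is coherent. -/
theorem isCohF_biprod (h𝔉 : FSch.IsCohF 𝔛 h𝔛.1 𝔉) (h𝔊 : FSch.IsCohF 𝔛 h𝔛.1 𝔊) :
    FSch.IsCohF 𝔛 h𝔛.1 (𝔉 ⊞ 𝔊) := by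
  refine isFinitePresentation_of_isPres (O := 𝔛.Osh h𝔛.1) fun x => ?_
  obtain ⟨U, hU, hxU, -⟩ := exists_affine_le (𝔛 := 𝔛) (W := ⊤) (x := x) trivial
  obtain ⟨n, m, t, g, hP⟩ := affPres h𝔛 h𝔉 hU
  obtain ⟨n', m', t', g', hP'⟩ := affPres h𝔛 h𝔊 hU
  let i₁ := (biprod.inl : 𝔉 ⟶ 𝔉 ⊞ 𝔊)
  let i₂ := (biprod.inr : 𝔊 ⟶ 𝔉 ⊞ 𝔊)
  let p₁ := (biprod.fst : 𝔉 ⊞ 𝔊 ⟶ 𝔉)
  let p₂ := (biprod.snd : 𝔉 ⊞ 𝔊 ⟶ 𝔊)
  have h11 : ∀ (V : (𝔛.X 0).Opens) (s : FSect h𝔛 𝔉 V), p₁.val.app (op V) (i₁.val.app (op V) s) = s :=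
    fun V s => app_congr (biprod.inl_fst (X := 𝔉) (Y := 𝔊)) V s
  have h21 : ∀ (V : (𝔛.X 0).Opens) (s : FSect h𝔛 𝔊 V), p₁.val.app (op V) (i₂.val.app (op V) s) = 0 :=
    fun V s => app_congr (biprod.inr_fst (X := 𝔉) (Y := 𝔊)) V s
  have h12 : ∀ (V : (𝔛.X 0).Opens) (s : FSect h𝔛 𝔉 V), p₂.val.app (op V) (i₁.val.app (op V) s) = 0 :=
    fun V s => app_congr (biprod.inl_snd (X := 𝔉) (Y := 𝔊)) V s
  have h22 : ∀ (V : (𝔛.X 0).Opens) (s : FSect h𝔛 𝔊 V), p₂.val.app (op V) (i₂.val.app (op V) s) = s :=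
    fun V s => app_congr (biprod.inr_snd (X := 𝔉) (Y := 𝔊)) V s
  refine ⟨U, n + n', m + m',
    fun i => Fin.addCases (fun i => i₁.val.app (op U) (t ⟨i⟩)) (fun i => i₂.val.app (op U) (t' ⟨i⟩)) i.down,
    fun j i => Fin.addCases (fun j => Fin.addCases (fun i => g ⟨j⟩ ⟨i⟩) (fun _ => 0) i.down)
      (fun j => Fin.addCases (fun _ => 0) (fun i => g' ⟨j⟩ ⟨i⟩) i.down) j.down, hxU, ?_, ?_, ?_⟩
  · rintro ⟨j⟩
    rw [← Equiv.sum_comp Equiv.ulift.symm, Fin.sum_univ_add]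
    induction j using Fin.addCases with
    | left j =>
      simp only [Equiv.ulift_symm_down, Fin.addCases_left, Fin.addCases_right, zero_smul,
        Finset.sum_const_zero, add_zero]
      have := congrArg (fun z => i₁.val.app (op U) z) (hP.rel0 ⟨j⟩)
      simp only [mapp_sum_smul, map_zero] at this
      rw [← Equiv.sum_comp Equiv.ulift.symm] at this
      exact this
    | right j =>
      simp only [Equiv.ulift_symm_down, Fin.addCases_left, Fin.addCases_right, zero_smul,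
        Finset.sum_const_zero, zero_add]
      have := congrArg (fun z => i₂.val.app (op U) z) (hP'.rel0 ⟨j⟩)
      simp only [mapp_sum_smul, map_zero] at this
      rw [← Equiv.sum_comp Equiv.ulift.symm] at this
      exact this
  · intro W hW s y hy
    obtain ⟨V, e, hyV, c, hc⟩ := hP.gen W hW (p₁.val.app (op W) s) y hy
    obtain ⟨V', e', hyV', c', hc'⟩ := hP'.gen V (e.trans hW) (mres 𝔊 e (p₂.val.app (op W) s)) y hyV
    refine ⟨V', e'.trans e, hyV',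
      fun i => Fin.addCases (fun i => ores (𝔛.Osh h𝔛.1) e' (c ⟨i⟩)) (fun i => c' ⟨i⟩) i.down, ?_⟩
    rw [← Equiv.sum_comp Equiv.ulift.symm, Fin.sum_univ_add]
    simp only [Equiv.ulift_symm_down, Fin.addCases_left, Fin.addCases_right, ← mapp_res]
    have h1 := congrArg (mres 𝔉 e') hc
    rw [mres_sum_smul, mres_mres] at h1
    simp only [mres_mres] at h1
    rw [mres_mres] at hc'
    refine Eq.trans (congrArg₂ (· + ·) ?_ ?_) (biprod_decomp V' (mres (𝔉 ⊞ 𝔊) (e'.trans e) s))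
    · rw [mapp_res, ← h1, mapp_sum_smul, ← Equiv.sum_comp Equiv.ulift.symm]
      rfl
    · rw [mapp_res, ← hc', mapp_sum_smul, ← Equiv.sum_comp Equiv.ulift.symm]
      rfl
  · intro W hW c hc y hy
    let c₁ : ULift.{u} (Fin n) → Rng h𝔛 W := fun i => c ⟨Fin.castAdd n' i.down⟩
    let c₂ : ULift.{u} (Fin n') → Rng h𝔛 W := fun i => c ⟨Fin.natAdd n i.down⟩
    rw [← Equiv.sum_comp Equiv.ulift.symm, Fin.sum_univ_add] at hc
    simp only [Equiv.ulift_symm_down, Fin.addCases_left, Fin.addCases_right, ← mapp_res] at hc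
    have hc1 : ∑ i, c₁ i • mres 𝔉 hW (t i) = 0 := by
      have := congrArg (fun z => p₁.val.app (op W) z) hc
      simp only [map_add, map_sum, map_smul, map_zero, h11, h21, smul_zero, Finset.sum_const_zero,
        add_zero] at this
      rw [← Equiv.sum_comp Equiv.ulift.symm]
      exact this
    have hc2 : ∑ i, c₂ i • mres 𝔊 hW (t' i) = 0 := by
      have := congrArg (fun z => p₂.val.app (op W) z) hc
      simp only [map_add, map_sum, map_smul, map_zero, h12, h22, smul_zero, Finset.sum_const_zero,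
        zero_add] at this
      rw [← Equiv.sum_comp Equiv.ulift.symm]
      exact this
    obtain ⟨V, e, hyV, d, hd⟩ := hP.rel W hW c₁ hc1 y hy
    have hc2' := congrArg (mres 𝔊 e) hc2
    rw [mres_sum_smul, mres_zero] at hc2'
    simp only [mres_mres] at hc2'
    obtain ⟨V', e', hyV', d', hd'⟩ := hP'.rel V (e.trans hW) _ hc2' y hyV
    refine ⟨V', e'.trans e, hyV',
      fun j => Fin.addCases (fun j => ores (𝔛.Osh h𝔛.1) e' (d ⟨j⟩)) (fun j => d' ⟨j⟩) j.down, ?_⟩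
    rintro ⟨i⟩
    rw [← Equiv.sum_comp Equiv.ulift.symm, Fin.sum_univ_add]
    induction i using Fin.addCases with
    | left i =>
      simp only [Equiv.ulift_symm_down, Fin.addCases_left, Fin.addCases_right, map_zero, mul_zero,
        Finset.sum_const_zero, add_zero]
      have h1 := congrArg (ores (𝔛.Osh h𝔛.1) e') (hd ⟨i⟩)
      simp only [map_sum, map_mul, ores_ores] at h1
      rw [← Equiv.sum_comp Equiv.ulift.symm] at h1
      exact h1
    | right i =>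
      simp only [Equiv.ulift_symm_down, Fin.addCases_left, Fin.addCases_right, map_zero, mul_zero,
        Finset.sum_const_zero, zero_add]
      have h1 := hd' ⟨i⟩
      simp only [ores_ores] at h1
      rw [← Equiv.sum_comp Equiv.ulift.symm] at h1
      exact h1

set_option maxHeartbeats 800000 in
/-- A submodule of a coherent module which is a directed union of images of coherent modules is coherent. -/
theorem isCohF_union {𝔐 : FSch.ModF 𝔛 h𝔛.1} (h𝔐 : FSch.IsCohF 𝔛 h𝔛.1 𝔐) (m : 𝔉 ⟶ 𝔐) [Mono m]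
    {α : Type u} [Nonempty α] {K : α → FSch.ModF 𝔛 h𝔛.1} (f : ∀ a, K a ⟶ 𝔉)
    (hK : ∀ a, FSch.IsCohF 𝔛 h𝔛.1 (K a))
    (hdir : ∀ a b, ∃ c, (∃ g : K a ⟶ K c, g ≫ f c = f a) ∧ ∃ g : K b ⟶ K c, g ≫ f c = f b)
    (hsurj : LocSurj (O := 𝔛.Osh h𝔛.1) f) : FSch.IsCohF 𝔛 h𝔛.1 𝔉 := by
  refine isFinitePresentation_of_isPres (O := 𝔛.Osh h𝔛.1) fun x => ?_
  obtain ⟨U, hU, hxU, -⟩ := exists_affine_le (𝔛 := 𝔛) (W := ⊤) (x := x) trivial
  obtain ⟨hN, -, -⟩ := affRing h𝔛 hU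
  obtain ⟨n, q, t, g, hP⟩ := affPres h𝔛 h𝔐 hU
  haveI : Module.Finite (Rng h𝔛 U) (FSect h𝔛 𝔐 U) := by
    refine Module.Finite.of_surjective (Fintype.linearCombination (Rng h𝔛 U) t) fun s => ?_
    obtain ⟨c, hc⟩ := hP.gen_aff h𝔛 h𝔐 hU s
    exact ⟨c, (Fintype.linearCombination_apply _ _ _).trans hc⟩
  haveI : IsNoetherian (Rng h𝔛 U) (FSect h𝔛 𝔐 U) := isNoetherian_of_isNoetherianRing_of_finite _ _
  let S : α → Submodule (Rng h𝔛 U) (FSect h𝔛 𝔐 U) := fun a => LinearMap.range ((f a ≫ m).val.app (op U)).hom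
  have hS : ∀ a b, (∃ g : K a ⟶ K b, g ≫ f b = f a) → S a ≤ S b := by
    rintro a b ⟨g, hg⟩ _ ⟨z, rfl⟩
    exact ⟨g.val.app (op U) z, app_congr ((Category.assoc g (f b) m).symm.trans (congrArg (· ≫ m) hg)) U z⟩
  obtain ⟨_, ⟨k, rfl⟩, hk⟩ := set_has_maximal_iff_noetherian.mpr inferInstance (Set.range S) (Set.range_nonempty _)
  have hmax : ∀ a, S a ≤ S k := fun a => by
    obtain ⟨c, hac, hkc⟩ := hdir a k
    have hle := hS _ _ hkc
    refine (hS _ _ hac).trans (le_of_eq ?_)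
    by_contra hne
    exact hk (S c) ⟨c, rfl⟩ (lt_of_le_of_ne hle (Ne.symm hne))
  obtain ⟨p, q', τ, z, hQ⟩ := affPres h𝔛 (hK k) hU
  refine ⟨U, p, ?_⟩
  obtain ⟨r, z', hR⟩ := IsPres.of_mono h𝔛 m h𝔐 hU (fun i => (f k).val.app (op U) (τ i)) fun W hW s y hy => by
    obtain ⟨a, V, e, hyV, w, hw⟩ := hsurj W s y hy
    obtain ⟨n', m', σ, _, hA⟩ := affPres h𝔛 (hK a) hU
    obtain ⟨V', e', hyV', c, hc⟩ := hA.gen V (e.trans hW) w y hyV
    have h1 : ∀ l, ∃ d : ULift.{u} (Fin p) → Rng h𝔛 U,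
        ∑ i, d i • (f k).val.app (op U) (τ i) = (f a).val.app (op U) (σ l) := fun l => by
      obtain ⟨b, hb⟩ := hmax a ⟨σ l, rfl⟩
      obtain ⟨d, hd⟩ := hQ.gen_aff h𝔛 (hK k) hU b
      refine ⟨d, sect_injective_of_mono (O := 𝔛.Osh h𝔛.1) m U ?_⟩
      refine Eq.trans ?_ hb
      rw [← hd, ← mapp_sum_smul]
      rfl
    choose d hd using h1
    refine ⟨V', (e'.trans e).trans hW, e'.trans e, hyV',
      fun i => ∑ l, c l * ores (𝔛.Osh h𝔛.1) ((e'.trans e).trans hW) (d l i), ?_⟩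
    have h2 := congrArg (fun z => (f a).val.app (op V') z) hc
    simp only [mapp_sum_smul] at h2
    rw [mapp_res, hw, mres_mres] at h2
    refine Eq.trans ?_ h2
    simp only [Finset.sum_smul, mul_smul]
    rw [Finset.sum_comm]
    refine Finset.sum_congr rfl fun l _ => ?_
    rw [← Finset.smul_sum, ← mres_sum_smul, hd, mapp_res]
  exact ⟨r, _, z', hxU, hR⟩

set_option maxHeartbeats 1000000 in
/-- A map from a coherent module with values locally in coherent submodules has coherent kernel. -/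
theorem isCohF_kernel_of_local {ℭ : FSch.ModF 𝔛 h𝔛.1} (hℭ : FSch.IsCohF 𝔛 h𝔛.1 ℭ) (θ : ℭ ⟶ 𝔉)
    (h : ∀ x : 𝔛.X 0, ∃ (U : (𝔛.X 0).Opens) (_ : IsAffineOpen U) (n m : ℕ)
      (t : ULift.{u} (Fin n) → FSect h𝔛 ℭ U) (g : ULift.{u} (Fin m) → ULift.{u} (Fin n) → Rng h𝔛 U),
      x ∈ U ∧ IsPres (O := 𝔛.Osh h𝔛.1) ℭ U t g ∧
      ∃ (ℑ : FSch.ModF 𝔛 h𝔛.1) (i : ℑ ⟶ 𝔉), FSch.IsCohF 𝔛 h𝔛.1 ℑ ∧ Mono i ∧
        ∀ l, ∃ b : FSect h𝔛 ℑ U, i.val.app (op U) b = θ.val.app (op U) (t l)) :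
    FSch.IsCohF 𝔛 h𝔛.1 (kernel θ) := by
  refine isFinitePresentation_of_isPres (O := 𝔛.Osh h𝔛.1) fun x => ?_
  obtain ⟨U, hU, n, m, t, g, hxU, hP, ℑ, i, hℑ, _, hb⟩ := h x
  choose b hb using hb
  obtain ⟨q, z, hz0, hz⟩ := rel_restrict h𝔛 hℑ hU b
  have hk : ∀ j, θ.val.app (op U) (∑ l, z j l • t l) = 0 := fun j => by
    refine (mapp_sum_smul ℭ θ (z j) t).trans ?_
    simp only [← hb]
    refine (mapp_sum_smul ℑ i (z j) b).symm.trans ?_
    rw [hz0 j]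
    exact map_zero _
  choose k hk using fun j => exists_kernel_lift (O := 𝔛.Osh h𝔛.1) θ U _ (hk j)
  obtain ⟨q', z', hP'⟩ := IsPres.of_mono h𝔛 (kernel.ι θ) hℭ hU k fun W hW s y hy => by
    obtain ⟨r, hyr, hr⟩ := exists_basic h𝔛.1 hU (W := W) y (hW hy) hy
    let e := basic_le h𝔛.1 U r
    obtain ⟨c, hc⟩ := (hP.mono e).gen_aff h𝔛 hℭ (isAffineOpen_basic h𝔛.1 hU r)
      (mres ℭ hr ((kernel.ι θ).val.app (op W) s))
    have hs0 : θ.val.app (op W) ((kernel.ι θ).val.app (op W) s) = 0 := app_congr (kernel.condition θ) W s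
    obtain ⟨d, hd⟩ := hz r c (by
      refine sect_injective_of_mono (O := 𝔛.Osh h𝔛.1) i _ ?_
      rw [mapp_sum_smul, map_zero]
      simp only [mapp_res, hb]
      simp only [← mapp_res]
      refine (mapp_sum_smul ℭ θ c _).symm.trans ((congrArg _ hc).trans ?_)
      exact (mapp_res ℭ θ hr _).trans ((congrArg (mres 𝔉 hr) hs0).trans (mres_zero hr)))
    refine ⟨_, e, hr, hyr, d, sect_injective_of_mono (O := 𝔛.Osh h𝔛.1) (kernel.ι θ) _ ?_⟩
    rw [mapp_sum_smul, mapp_res (kernel θ) (kernel.ι θ) hr s]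
    simp only [mapp_res, hk, mres_sum_smul]
    refine Eq.trans ?_ hc
    simp only [Finset.smul_sum, ← hd, Finset.sum_smul, mul_smul]
    exact Finset.sum_comm
  exact ⟨U, _, _, k, z', hxU, hP'⟩

/-- The coimage of a map from a coherent module with coherent kernel is coherent. -/
theorem isCohF_coimage {ℭ : FSch.ModF 𝔛 h𝔛.1} (hℭ : FSch.IsCohF 𝔛 h𝔛.1 ℭ) (θ : ℭ ⟶ 𝔉)
    (hk : FSch.IsCohF 𝔛 h𝔛.1 (kernel θ)) : FSch.IsCohF 𝔛 h𝔛.1 (Abelian.coimage θ) :=
  isCohF_cokernel h𝔛 (kernel.ι θ) hk hℭ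

end Groth.Agent.IndCoh
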