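import Groth.Agent.KFlatLib.Scheme.RpushCoprodQCoh
import Groth.Agent.SiteCmpLib.TotalRight
import Mathlib.CategoryTheory.Limits.Constructions.Filtered

/-!
# Coproducts and derived functors
-/

set_option autoImplicit false
set_option backward.isDefEq.respectTransparency false
set_option linter.style.haveILetI false

universe w v u v' u'

open CategoryTheory CategoryTheory.Limits CoproductsFromFiniteFiltered

attribute [local instance] HasDerivedCategory.standard

noncomputable section

namespace Groth.Agent.IndCoh

attribute [local instance] preservesBinaryBiproducts_of_preservesBinaryCoproducts in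
/-- An additive functor commuting with filtered unions commutes with coproducts. -/
theorem preservesColimit_discrete_of_filtered {A : Type u} [Category.{v} A] [Preadditive A] [HasFiniteBiproducts A]
    {B : Type u'} [Category.{v'} B] [Preadditive B] (G : A ⥤ B) [G.Additive] {α : Type w} (f : α → A)
    [HasColimitsOfShape (Discrete α) A] [HasColimitsOfShape (Finset (Discrete α)) A]
    [PreservesColimitsOfShape (Finset (Discrete α)) G] : PreservesColimit (Discrete.functor f) G := by
  classical
  haveI : HasFiniteCoproducts A := inferInstance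
  haveI : PreservesFiniteCoproducts G := Functor.preservesFiniteCoproductsOfAdditive G
  let L := liftToFinsetObj (Discrete.functor f)
  let hc := isColimitOfPreserves G (isColimitFiniteSubproductsCocone f)
  haveI : ∀ S : Finset (Discrete α), PreservesColimit (Discrete.functor fun x : S => f x.1.as) G := fun S => by
    infer_instance
  let hS := fun S : Finset (Discrete α) => isColimitCofanMkObjOfIsColimit G (fun x : S => f x.1.as)
    (fun x : S => Sigma.ι (fun x : S => f x.1.as) x) (coproductIsCoproduct fun x : S => f x.1.as)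
  refine preservesColimit_of_preserves_colimit_cocone (coproductIsCoproduct f)
    ((isColimitMapCoconeCofanMkEquiv G _ _).symm ?_)
  let desc : ∀ (c : Cofan fun a => G.obj (f a)) (S : Finset (Discrete α)), G.obj (L.obj S) ⟶ c.pt :=
    fun c S => Cofan.IsColimit.desc (hS S) fun x => c.inj x.1.as
  have hdesc : ∀ (c : Cofan fun a => G.obj (f a)) (S : Finset (Discrete α)) (x : S),
      G.map (Sigma.ι (fun x : S => f x.1.as) x) ≫ desc c S = c.inj x.1.as := fun c S x =>
    Cofan.IsColimit.fac (hS S) _ x
  refine Cofan.IsColimit.mk _ (fun c => hc.desc (Cocone.mk c.pt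
    { app := desc c
      naturality := fun S T h => ?_ })) (fun c a => ?_) (fun c m hm => ?_)
  · refine Cofan.IsColimit.hom_ext (hS S) _ _ fun x => ?_
    show G.map (Sigma.ι (fun x : S => f x.1.as) x) ≫ G.map (L.map h) ≫ desc c T =
      G.map (Sigma.ι (fun x : S => f x.1.as) x) ≫ desc c S ≫ 𝟙 _
    rw [Category.comp_id, hdesc, ← Functor.map_comp_assoc]
    erw [Sigma.ι_desc]
    exact hdesc c T _
  · let S : Finset (Discrete α) := {⟨a⟩}
    let x : S := ⟨⟨a⟩, Finset.mem_singleton_self _⟩
    show G.map (Sigma.ι f a) ≫ _ = _
    rw [show Sigma.ι f a = Sigma.ι (fun x : S => f x.1.as) x ≫ (finiteSubcoproductsCocone f).ι.app S from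
      (Sigma.ι_desc (fun s : S => Sigma.ι f s.1.as) x).symm, Functor.map_comp, Category.assoc]
    exact (congrArg _ (hc.fac _ S)).trans (hdesc c S x)
  · refine hc.hom_ext fun S => ?_
    rw [hc.fac]
    refine Cofan.IsColimit.hom_ext (hS S) _ _ fun x => ?_
    show G.map (Sigma.ι (fun x : S => f x.1.as) x) ≫ G.map ((finiteSubcoproductsCocone f).ι.app S) ≫ m =
      G.map (Sigma.ι (fun x : S => f x.1.as) x) ≫ desc c S
    rw [hdesc, ← Functor.map_comp_assoc]
    erw [Sigma.ι_desc]
    exact hm x.1.as

/-- A functor preserving a coproduct kills it if it kills the summands. -/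
theorem isZero_obj_sigma {A : Type u} [Category.{v} A] {B : Type u'} [Category.{v'} B] [HasZeroMorphisms B]
    (G : A ⥤ B) {α : Type w} (f : α → A) [HasCoproduct f] [PreservesColimit (Discrete.functor f) G]
    (h : ∀ a, IsZero (G.obj (f a))) : IsZero (G.obj (∐ f)) := by
  rw [IsZero.iff_id_eq_zero]
  exact (isColimitOfPreserves G (coproductIsCoproduct f)).hom_ext fun a => (h a.as).eq_of_src _ _

section Model

open Groth.Agent.SiteCmpLib.DerivedAdj

variable {A : Type (u + 1)} [Category.{u} A] [Abelian A]
  {B : Type (u + 1)} [Category.{u} B] [Abelian B] [IsGrothendieckAbelian.{u} B]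
  (G : B ⥤ A) [G.Additive]

/-- The unit `Q (G K) ⟶ RG (Q K)` of the model of the derived functor. -/
def modelUnit : G.mapHomologicalComplex (ComplexShape.up ℤ) ⋙ DerivedCategory.Q ⟶
    DerivedCategory.Q ⋙ model G :=
  (Functor.isoWhiskerRight (G.mapHomotopyCategoryFactors
      (ComplexShape.up ℤ)) DerivedCategory.Qh ≪≫ Functor.associator _ _ _ ≪≫
    Functor.isoWhiskerLeft _ (DerivedCategory.quotientCompQhIso A)).inv ≫
  (Functor.associator _ _ _).hom ≫
  Functor.whiskerLeft (HomotopyCategory.quotient B (ComplexShape.up ℤ))
    (Functor.whiskerRight (resAdj B).unit (G.mapHomotopyCategory (ComplexShape.up ℤ) ⋙ DerivedCategory.Qh)) ≫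
  Functor.whiskerRight (DerivedCategory.quotientCompQhIso B).hom (model G)

/-- K-injective complexes compute the derived functor. -/
theorem isIso_modelUnit_of_kInjective (I : CochainComplex B ℤ) [I.IsKInjective] :
    IsIso ((modelUnit G).app I) := by
  haveI : IsIso ((resAdj B).unit.app ((HomotopyCategory.quotient B (ComplexShape.up ℤ)).obj I)) :=
    TriCat.isIso_unit_of_isKInjective (resAdj B) I
  simp only [modelUnit, NatTrans.comp_app, Functor.associator_hom_app,
    Functor.whiskerLeft_app, Functor.whiskerRight_app]
  infer_instance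

variable [PreservesFiniteLimits G]

/-- Bounded below complexes of acyclic objects compute the derived functor. -/
theorem isIso_modelUnit_of_isStrictlyGE (F : CochainComplex B ℤ) (a : ℤ) [F.IsStrictlyGE a]
    [HasInjectiveResolutions B] (hac : ∀ n, TriCat.IsRightAcyclic G (F.X n)) :
    IsIso ((modelUnit G).app F) := by
  haveI := SpObjSS.enoughInjectives_of_hasInjectiveResolutions (C := B)
  obtain ⟨I, s, hI, hinj, hm, hs⟩ := TriCat.exists_quasiIso_resolution (A := B) Injective
    ⟨_, isZero_zero _, IsZero.injective (isZero_zero _)⟩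
    (fun M => ⟨Injective.under M, Injective.ι M, inferInstance, inferInstance⟩) F a
  haveI := hI
  haveI := hinj
  haveI := hs
  haveI : I.IsKInjective := CochainComplex.isKInjective_of_injective _ a
  haveI := TriCat.quasiIso_map_of_adapted (TriCat.isAdapted_isRightAcyclic (F := G)) s hm a hac
    (fun n => TriCat.isRightAcyclic_of_injective _)
  let P := G.mapHomologicalComplex (ComplexShape.up ℤ)
  have h1 : IsIso (DerivedCategory.Q.map (P.map s)) := inferInstance
  have h2 : IsIso (DerivedCategory.Q.map s) := inferInstance
  have h3 := isIso_modelUnit_of_kInjective G I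
  have w := (modelUnit G).naturality s
  simp only [Functor.comp_map] at w
  have h4 : IsIso ((modelUnit G).app F ≫ (model G).map (DerivedCategory.Q.map s)) := by
    rw [← w]
    exact IsIso.comp_isIso' h1 h3
  exact IsIso.of_isIso_comp_right _ ((model G).map (DerivedCategory.Q.map s))

variable {J : Type u}

/-- The derived functor commutes with uniformly bounded below coproducts. -/
theorem isIso_sigmaDesc_model_of_isGE [IsGrothendieckAbelian.{u} A] [HasInjectiveResolutions B]
    [PreservesColimitsOfShape (Discrete J) G]
    (hac : ∀ I : J → B, (∀ j, Injective (I j)) → TriCat.IsRightAcyclic G (∐ I))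
    (C : J → DerivedCategory B) (n : ℤ) (hC : ∀ j, (C j).IsGE n)
    [HasCoproduct C] [HasCoproduct fun j => (model G).obj (C j)] :
    IsIso (Sigma.desc fun j => (model G).map (Sigma.ι C j)) := by
  haveI := SpObjSS.enoughInjectives_of_hasInjectiveResolutions (C := B)
  haveI : PreservesColimitsOfShape (Discrete J) (G.mapHomologicalComplex (ComplexShape.up ℤ)) :=
    ⟨fun {K} => ⟨fun {c} hc => ⟨HomologicalComplex.isColimitOfEval _ _ fun m =>
      isColimitOfPreserves (HomologicalComplex.eval B (ComplexShape.up ℤ) m ⋙ G) hc⟩⟩⟩
  have hres : ∀ i, ∃ (K : CochainComplex B ℤ), K.IsStrictlyGE n ∧ (∀ m, Injective (K.X m)) ∧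
      Nonempty (DerivedCategory.Q.obj K ≅ C i) := fun i => by
    haveI := hC i
    obtain ⟨L, hL, ⟨e⟩⟩ := DerivedCategory.exists_iso_Q_obj_of_isGE (C i) n
    haveI := hL
    obtain ⟨I, s, hI, hinj, -, hs⟩ := TriCat.exists_quasiIso_resolution (A := B) Injective
      ⟨_, isZero_zero B, IsZero.injective (isZero_zero _)⟩
      (fun M => ⟨Injective.under M, Injective.ι M, inferInstance, inferInstance⟩) L n
    haveI := hs
    exact ⟨I, hI, hinj, ⟨(asIso (DerivedCategory.Q.map s)).symm ≪≫ e.symm⟩⟩
  choose K hKge hKinj eK using hres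
  refine KFlatLib.isIso_sigmaDesc' (model G) (G.mapHomologicalComplex (ComplexShape.up ℤ)) (modelUnit G) C K
    (fun i => (eK i).some) (fun i => ?_) ?_
  · haveI := hKge i
    haveI := hKinj i
    haveI : (K i).IsKInjective := CochainComplex.isKInjective_of_injective _ n
    exact isIso_modelUnit_of_kInjective G (K i)
  · let e : ∀ m, ∐ (fun i => (K i).X m) ≅ (∐ K).X m := fun m =>
      (PreservesCoproduct.iso (HomologicalComplex.eval B (ComplexShape.up ℤ) m) K).symm
    haveI : CochainComplex.IsStrictlyGE (∐ K) n := (CochainComplex.isStrictlyGE_iff _ n).2 fun m hm => by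
      refine IsZero.of_iso ?_ (e m).symm
      rw [IsZero.iff_id_eq_zero]
      exact Sigma.hom_ext _ _ fun i => by
        haveI := hKge i
        exact (CochainComplex.isZero_of_isStrictlyGE (K i) n m hm).eq_of_src _ _
    refine isIso_modelUnit_of_isStrictlyGE G (∐ K) n fun m i hi => ?_
    exact (hac (fun i => (K i).X m) (fun i => hKinj i m) i hi).of_iso ((G.rightDerived i).mapIso (e m).symm)

end Model

end Groth.Agent.IndCoh
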