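import Groth.Agent.IndCoh.CoprodGen
import Groth.Agent.IndCoh.Bound
import Groth.Agent.IndCoh.Closed

/-!
# Derived direct images and coproducts on formal schemes
-/

set_option autoImplicit false
set_option backward.isDefEq.respectTransparency false
set_option backward.isDefEq.respectTransparency.types false
set_option linter.style.haveILetI false

universe u

open CategoryTheory CategoryTheory.Limits AlgebraicGeometry TopologicalSpace Opposite

attribute [local instance] HasDerivedCategory.standard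

noncomputable section

namespace Groth.Agent.IndCoh

open Groth.Agent.SiteCmpLib DerivedAdj

section AbSheaf

variable {X Y : TopCat.{u}} (f : X ⟶ Y)

/-- Direct images of abelian sheaves commute with filtered colimits if good opens have good preimages. -/
theorem preservesColimitsOfShape_push_filtered [TopologicalSpace.NoetherianSpace X] {Λ : Type u} [SmallCategory Λ]
    [IsFiltered Λ] : PreservesColimitsOfShape Λ (CohTop.push f) := by
  have hgood : ∀ U : Opens X, QcqsColim.GoodOpen U := fun U =>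
    ⟨TopologicalSpace.NoetherianSpace.isCompact _, fun V W _ _ _ _ _ _ => TopologicalSpace.NoetherianSpace.isCompact _⟩
  have hT : Opens.IsBasis {U : Opens X | QcqsColim.GoodOpen U} :=
    Opens.isBasis_iff_nbhd.2 fun {U x} hx => ⟨U, hgood U, hx, le_rfl⟩
  haveI : PreservesColimitsOfShape Λ (CohTop.Rpush f 0) :=
    ⟨fun {F} => QcqsColim.preservesColimit_Rpush_of_basis f F 0 (Opens.isBasis_iff_nbhd.2 fun {U x} hx => by
      haveI := QcqsColim.preservesColimitsOfShape_cohomologyPresheaf hT (hgood ((Opens.map f).obj U)) Λ 0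
      exact ⟨U, PreservesColimitsOfShape.preservesColimit, hx, le_rfl⟩)⟩
  haveI : PreservesFiniteLimits (CohTop.push f) := by
    haveI : (CohTop.push f).IsRightAdjoint := (TopCat.Sheaf.pullbackPushforwardAdjunction AddCommGrpCat.{u} f).isRightAdjoint
    exact inferInstance
  exact preservesColimitsOfShape_of_natIso (CohTop.push f).rightDerivedZeroIsoSelf

end AbSheaf

variable {𝔛 : FSch.Sys.{u}}

set_option maxHeartbeats 1000000 in
/-- Direct images of modules commute with coproducts. -/
theorem preservesColimitsOfShape_pushF_discrete (h𝔛 : 𝔛.IsFormal) [IsNoetherian (𝔛.X 0)]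
    {𝔜 : FSch.Sys.{u}} (h𝔜 : 𝔜.IsFormal) (g : 𝔛 ⟶ 𝔜) (ι : Type u) :
    PreservesColimitsOfShape (Discrete ι) (FSch.homMor g h𝔛 h𝔜).push := by
  let TX := SheafOfModules.toSheaf.{u} (ModSite.ringSh (𝔛.Osh h𝔛))
  let TY := SheafOfModules.toSheaf.{u} (ModSite.ringSh (𝔜.Osh h𝔜))
  let g₀ := ((g : FSch.Hom 𝔛 𝔜).app 0).base
  haveI := SiteBase.preservesColimitsOfSize_toSheaf (ModSite.ringSh (𝔛.Osh h𝔛))
  haveI := SiteBase.preservesColimitsOfSize_toSheaf (ModSite.ringSh (𝔜.Osh h𝔜))
  haveI : PreservesColimitsOfShape (Finset (Discrete ι)) (CohTop.push g₀) :=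
    preservesColimitsOfShape_push_filtered g₀
  have e : (FSch.homMor g h𝔛 h𝔜).push ⋙ TY ≅ TX ⋙ CohTop.push g₀ :=
    NatIso.ofComponents (fun _ => Iso.refl _) fun _ => by
      rw [Iso.refl_hom, Iso.refl_hom, Category.comp_id, Category.id_comp]
      rfl
  haveI : PreservesColimitsOfShape (Finset (Discrete ι)) ((FSch.homMor g h𝔛 h𝔜).push ⋙ TY) :=
    preservesColimitsOfShape_of_natIso e.symm
  haveI : ReflectsColimitsOfShape (Finset (Discrete ι)) TY := reflectsColimitsOfShape_of_reflectsIsomorphisms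
  haveI : PreservesColimitsOfShape (Finset (Discrete ι)) (FSch.homMor g h𝔛 h𝔜).push :=
    preservesColimitsOfShape_of_reflects_of_preserves _ TY
  haveI : (FSch.homMor g h𝔛 h𝔜).push.Additive := inferInstance
  haveI : HasFiniteBiproducts (FSch.ModF 𝔛 h𝔛) := HasFiniteBiproducts.of_hasFiniteCoproducts
  refine ⟨fun {K} => ?_⟩
  haveI := preservesColimit_discrete_of_filtered (FSch.homMor g h𝔛 h𝔜).push (K.obj ∘ Discrete.mk)
  exact preservesColimit_of_iso_diagram _ (Discrete.natIsoFunctor (F := K)).symm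

set_option maxHeartbeats 1000000 in
/-- Coproducts of injectives are acyclic for direct images. -/
theorem isRightAcyclic_sigma (h𝔛 : 𝔛.IsFormal) [IsNoetherian (𝔛.X 0)] {𝔜 : FSch.Sys.{u}} (h𝔜 : 𝔜.IsFormal)
    (g : 𝔛 ⟶ 𝔜) [HasInjectiveResolutions (FSch.ModF 𝔛 h𝔛)] {ι : Type u} (I : ι → FSch.ModF 𝔛 h𝔛)
    (hI : ∀ j, Injective (I j)) : TriCat.IsRightAcyclic (FSch.homMor g h𝔛 h𝔜).push (∐ I) := by
  intro i hi
  obtain ⟨q, rfl⟩ := Nat.exists_eq_succ_of_ne_zero hi.ne'
  refine isZero_rpushF_of_class h𝔛 h𝔜 g {V | IsAffineOpen V} (𝔜.X 0).isBasis_affineOpens 0 _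
    (fun V _ n _ => ?_) q (Nat.zero_le q)
  let W : (𝔛.X 0).Opens := ((g : FSch.Hom 𝔛 𝔜).app 0) ⁻¹ᵁ V
  let T := SheafOfModules.toSheaf.{u} (ModSite.ringSh (𝔛.Osh h𝔛))
  let H := (Sheaf.cohomologyPresheafFunctor.{u}
    (Opens.grothendieckTopology (𝔛.X 0).toPresheafedSpace.carrier) (n + 1)).flip.obj (op W)
  haveI := SiteBase.preservesColimitsOfSize_toSheaf (ModSite.ringSh (𝔛.Osh h𝔛))
  haveI : PreservesColimitsOfShape (Finset (Discrete ι)) H :=
    QcqsColim.preservesColimitsOfShape_cohomologyPresheaf (isBasis_goodOpen (𝔛.X 0))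
      ⟨TopologicalSpace.NoetherianSpace.isCompact _, fun A B _ _ _ _ _ _ => TopologicalSpace.NoetherianSpace.isCompact _⟩
      (Finset (Discrete ι)) (n + 1)
  haveI : H.Additive := { map_add := fun {F G f f'} => by
                            ext x
                            change (x : CategoryTheory.Abelian.Ext _ F (n + 1)).comp (CategoryTheory.Abelian.Ext.mk₀ (f + f')) (add_zero _) = _
                            rw [CategoryTheory.Abelian.Ext.mk₀_add, CategoryTheory.Abelian.Ext.comp_add]
                            rfl }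
  haveI : (T ⋙ H).Additive := inferInstance
  haveI : HasFiniteBiproducts (FSch.ModF 𝔛 h𝔛) := HasFiniteBiproducts.of_hasFiniteCoproducts
  haveI := preservesColimit_discrete_of_filtered (T ⋙ H) I
  exact AddCommGrpCat.subsingleton_of_isZero (isZero_obj_sigma (T ⋙ H) I fun j =>
    haveI : Subsingleton ((T ⋙ H).obj (I j)) := SiteBase.subsingleton_HU_of_totallyAcyclic
      (@SiteBase.isTotallyAcyclic_toSheaf_injective _ _ _ (ModSite.ringSh (𝔛.Osh h𝔛)) (I j) (hI j)) W n
    AddCommGrpCat.isZero_of_subsingleton _)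

end Groth.Agent.IndCoh
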