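import Groth.Agent.IndCoh.CoprodPush

/-!
# `Rf_*` commutes with coproducts of objects with ind-coherent cohomology
-/

set_option autoImplicit false
set_option backward.isDefEq.respectTransparency false
set_option linter.style.haveILetI false

universe u

open CategoryTheory CategoryTheory.Limits Pretriangulated DerivedCategory

attribute [local instance] HasDerivedCategory.standard

noncomputable section

namespace Groth.Agent.IndCoh

open Groth.Agent.SiteCmpLib DerivedAdj

section Abstract

variable {A : Type (u + 1)} [Category.{u} A] [Abelian A]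
  {B : Type (u + 1)} [Category.{u} B] [Abelian B] [IsGrothendieckAbelian.{u} B]
  (G : B ⥤ A) [G.Additive] (P : ObjectProperty B) [P.ContainsZero] [P.IsClosedUnderIsomorphisms] (N : ℤ)
  (hkey : ∀ (Z : DerivedCategory B) (b : ℤ), WSerre.cohIn P Z → Z.IsLE b → ((model G).obj Z).IsLE (b + N))

include hkey in
/-- Truncations do not change high degrees of the derived functor. -/
theorem isIso_model_truncGEπ (X : DerivedCategory B) (hX : WSerre.cohIn P X) (m j : ℤ) (hj : N + m ≤ j) :
    IsIso ((homologyFunctor A j).map ((model G).map ((TStructure.t.truncGEπ m).app X))) := by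
  obtain ⟨hc, ht⟩ := exists_triangulated_model G
  let R := model G
  let T := (TStructure.t.triangleLTGE m).obj X
  have hT := R.map_distinguished T (TStructure.t.triangleLTGE_distinguished m X)
  have : DerivedCategory.IsLE (R.mapTriangle.obj T).obj₁ (m - 1 + N) := hkey _ (m - 1)
    (WayOut.cohIn_truncLT P hX m) (TStructure.t.isLE_truncLT_obj ..)
  have : Mono ((homologyFunctor A j).map (R.mapTriangle.obj T).mor₂) :=
    (HomologySequence.mono_homologyMap_mor₂_iff _ hT j).2
      ((isZero_of_isLE _ (m - 1 + N) j (by omega)).eq_of_src _ _)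
  have : Epi ((homologyFunctor A j).map (R.mapTriangle.obj T).mor₂) :=
    (HomologySequence.epi_homologyMap_mor₂_iff _ hT j (j + 1) rfl).2
      ((isZero_of_isLE _ (m - 1 + N) (j + 1) (by omega)).eq_of_tgt _ _)
  exact isIso_of_mono_of_epi ((homologyFunctor A j).map (R.mapTriangle.obj T).mor₂)

include hkey in
/-- High degrees of the derived functor only see high degrees. -/
theorem isIso_model_map_of_isIso_high {X Y : DerivedCategory B} (hX : WSerre.cohIn P X) (hY : WSerre.cohIn P Y)
    (g : X ⟶ Y) (m j : ℤ) (hj : N + m ≤ j)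
    (hg : ∀ i : ℤ, m ≤ i → IsIso ((homologyFunctor B i).map g)) :
    IsIso ((homologyFunctor A j).map ((model G).map g)) := by
  let t : Triangulated.TStructure (DerivedCategory B) := TStructure.t
  let g' := (t.truncGE m).map g
  have hnat : g ≫ (t.truncGEπ m).app Y = (t.truncGEπ m).app X ≫ g' := (t.truncGEπ m).naturality g
  haveI : IsIso g' := (DerivedCategory.isIso_iff _ g').2 fun i => by
    by_cases hi : m ≤ i
    · haveI := hg i hi
      haveI := H9Misc.isIso_map_truncGEπ m i hi X
      haveI := H9Misc.isIso_map_truncGEπ m i hi Y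
      have : IsIso ((homologyFunctor B i).map ((t.truncGEπ m).app X) ≫ (homologyFunctor B i).map g') := by
        rw [← Functor.map_comp, ← hnat, Functor.map_comp]
        infer_instance
      exact IsIso.of_isIso_comp_left ((homologyFunctor B i).map ((t.truncGEπ m).app X)) _
    · haveI : ((t.truncGE m).obj X).IsGE m := t.isGE_truncGE_obj X _ _ le_rfl
      haveI : ((t.truncGE m).obj Y).IsGE m := t.isGE_truncGE_obj Y _ _ le_rfl
      exact ⟨0, (isZero_of_isGE ((t.truncGE m).obj X) m i (by omega)).eq_of_src _ _,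
        (isZero_of_isGE ((t.truncGE m).obj Y) m i (by omega)).eq_of_src _ _⟩
  let Φ := model G ⋙ homologyFunctor A j
  haveI : IsIso (Φ.map ((t.truncGEπ m).app X)) := isIso_model_truncGEπ G P N hkey X hX m j hj
  haveI : IsIso (Φ.map ((t.truncGEπ m).app Y)) := isIso_model_truncGEπ G P N hkey Y hY m j hj
  have h : IsIso (Φ.map g ≫ Φ.map ((t.truncGEπ m).app Y)) := by
    rw [← Φ.map_comp, hnat, Φ.map_comp]
    infer_instance
  exact IsIso.of_isIso_comp_right (Φ.map g) (Φ.map ((t.truncGEπ m).app Y))

variable [IsGrothendieckAbelian.{u} A] [PreservesFiniteLimits G] {J : Type u} [PreservesColimitsOfShape (Discrete J) G]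
  [HasInjectiveResolutions B]

include hkey in
/-- The derived functor commutes with coproducts of objects with cohomology in the class. -/
theorem preservesColimit_model (hac : ∀ I : J → B, (∀ j, Injective (I j)) → TriCat.IsRightAcyclic G (∐ I))
    (hP : ∀ f : J → B, (∀ j, P (f j)) → P (∐ f))
    (C : J → DerivedCategory B) (hC : ∀ j, WSerre.cohIn P (C j)) :
    PreservesColimit (Discrete.functor C) (model G) := by
  haveI : HasColimitsOfShape (Discrete J) (DerivedCategory A) := TriCat.hasColimitsOfShape_derivedCategory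
  haveI : HasColimitsOfShape (Discrete J) (DerivedCategory B) := TriCat.hasColimitsOfShape_derivedCategory
  let R := model G
  have hcoh : ∀ D : J → DerivedCategory B, (∀ j, WSerre.cohIn P (D j)) → WSerre.cohIn P (∐ D) := fun D hD i => by
    haveI := KFlatLib.preservesColimit_homology D i
    exact P.prop_of_iso (PreservesCoproduct.iso (homologyFunctor B i) D).symm (hP _ fun j => hD j i)
  haveI : IsIso (sigmaComparison R C) := by
    refine (DerivedCategory.isIso_iff _ _).2 fun k => ?_
    let m : ℤ := k - N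
    let T := fun j => (TStructure.t.truncGE m).obj (C j)
    let π : ∀ j, C j ⟶ T j := fun j => (TStructure.t.truncGEπ m).app (C j)
    haveI : ∀ j, (T j).IsGE m := fun j => TStructure.t.isGE_truncGE_obj (C j) _ _ le_rfl
    haveI : IsIso (sigmaComparison R T) :=
      isIso_sigmaDesc_model_of_isGE G hac T m fun j => inferInstance
    let H := homologyFunctor A k
    have hsq : sigmaComparison R C ≫ R.map (Limits.Sigma.map π) =
        Limits.Sigma.map (fun j => R.map (π j)) ≫ sigmaComparison R T := by
      refine Sigma.hom_ext _ _ fun j => ?_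
      rw [← Category.assoc, ι_comp_sigmaComparison, ← Functor.map_comp, Limits.Sigma.ι_map, ← Category.assoc,
        Limits.Sigma.ι_map, Category.assoc, ι_comp_sigmaComparison, ← Functor.map_comp]
    haveI := KFlatLib.preservesColimit_homology (fun j => R.obj (C j)) k
    haveI := KFlatLib.preservesColimit_homology (fun j => R.obj (T j)) k
    haveI : IsIso (H.map (Limits.Sigma.map fun j => R.map (π j))) :=
      KFlatLib.isIso_map_sigmaMap H _ _ _ fun j => isIso_model_truncGEπ G P N hkey (C j) (hC j) m k (by omega)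
    haveI : IsIso (H.map (R.map (Limits.Sigma.map π))) := by
      refine isIso_model_map_of_isIso_high G P N hkey (hcoh C hC)
        (hcoh T fun j => WayOut.cohIn_truncGE P (hC j) m) _ m k (by omega) fun i hi => ?_
      haveI := KFlatLib.preservesColimit_homology C i
      haveI := KFlatLib.preservesColimit_homology T i
      exact KFlatLib.isIso_map_sigmaMap (homologyFunctor B i) C T π fun j =>
        H9Misc.isIso_map_truncGEπ m i hi (C j)
    have h : IsIso (H.map (sigmaComparison R C) ≫ H.map (R.map (Limits.Sigma.map π))) := by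
      rw [← H.map_comp, hsq, H.map_comp]
      infer_instance
    exact IsIso.of_isIso_comp_right (H.map (sigmaComparison R C)) (H.map (R.map (Limits.Sigma.map π)))
  exact PreservesCoproduct.of_iso_comparison _ _

end Abstract

open AlgebraicGeometry in
/-- `Rf_*` commutes with coproducts of objects with ind-coherent cohomology. -/
theorem preservesColimit_rpushD {𝔛 : FSch.Sys.{u}} (h𝔛 : 𝔛.IsLocNoethFormal) [CompactSpace (𝔛.X 0)]
    {𝔜 : FSch.Sys.{u}} (h𝔜 : 𝔜.IsFormal) [CompactSpace (𝔜.X 0)] (g : 𝔛 ⟶ 𝔜)
    [SiteCmp.HasRpushD (FSch.homMor g h𝔛.1 h𝔜)] (ι : Type u) (E : ι → DerivedCategory (FSch.ModF 𝔛 h𝔛.1))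
    (hE : ∀ (a : ι) (i : ℤ), (ObjectProperty.ind.{u} fun 𝔊 : FSch.ModF 𝔛 h𝔛.1 => FSch.IsCohF 𝔛 h𝔛.1 𝔊) (SiteCmp.HMod (E a) i)) :
    PreservesColimit (Discrete.functor E) (SiteCmp.RpushD (FSch.homMor g h𝔛.1 h𝔜)) := by
  haveI := h𝔛.2.2 0
  haveI : IsNoetherian (𝔛.X 0) := {}
  let f := FSch.homMor g h𝔛.1 h𝔜
  obtain ⟨e, he⟩ := exists_bound_rpushD h𝔛 h𝔜 g
  obtain ⟨M⟩ := exists_iso_model f.push
  haveI : EnoughInjectives (FSch.ModF 𝔛 h𝔛.1) := IsGrothendieckAbelian.enoughInjectives.{u}
  haveI := preservesColimitsOfShape_pushF_discrete h𝔛.1 h𝔜 g ι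
  haveI : PreservesFiniteLimits f.push := by
    haveI := f.adj.isRightAdjoint
    exact inferInstance
  let P : ObjectProperty (FSch.ModF 𝔛 h𝔛.1) := fun M => Gd h𝔛 M
  haveI : P.IsClosedUnderIsomorphisms := ⟨fun e h => Gd.of_iso h𝔛 e h⟩
  haveI : P.ContainsZero := ⟨kernel (𝟙 (FSch.unitF 𝔛 h𝔛.1)), isZero_kernel_of_mono _,
    Gd.of_coh h𝔛 (isCohF_zero h𝔛)⟩
  haveI := preservesColimit_model f.push P (e : ℤ) (fun Z b hZ hb => by
      haveI : ((SiteCmp.RpushD f).obj Z).IsLE (b + e) := (DerivedCategory.isLE_iff _ _).2 fun i hi =>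
        he Z (fun j => Gd.ind h𝔛 (hZ j)) (b + 1) (fun j hj => DerivedCategory.isZero_of_isLE Z b j (by omega)) i
          (by omega)
      exact (TStructure.t (C := FSch.ModF 𝔜 h𝔜)).isLE_of_iso (M.app Z).symm (b + e))
    (fun I hI => isRightAcyclic_sigma h𝔛.1 h𝔜 g I hI)
    (fun s hs => Gd.colimit h𝔛 (colimit.cocone (Discrete.functor s)) (colimit.isColimit _) fun j => hs j.as)
    E (fun a i => Gd.of_ind h𝔛 (hE a i))
  exact preservesColimit_of_natIso _ M

end Groth.Agent.IndCoh
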