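import Groth.Agent.H9Misc.BrownGroth
import Groth.Agent.TriCat.DerivedCoproducts
import Mathlib.Algebra.Homology.DerivedCategory.ExactFunctor

/-!
# Brown representability for the standard derived category
-/

set_option autoImplicit false
set_option backward.isDefEq.respectTransparency false
set_option linter.style.haveILetI false

universe u w w'

open CategoryTheory CategoryTheory.Limits Pretriangulated

noncomputable section

namespace Groth.Agent.IndCoh.DerivedBrown

variable {A : Type (u + 1)} [Category.{u} A] [Abelian A]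

/-- The comparison between two models of the derived category. -/
abbrev cmp (h : HasDerivedCategory.{w} A) (h' : HasDerivedCategory.{w'} A) :
    @DerivedCategory A _ _ h ⥤ @DerivedCategory A _ _ h' :=
  @Functor.mapDerivedCategory A _ _ h A _ _ h' (𝟭 A) _ _ _

/-- The comparison is the identity on complexes. -/
theorem nonempty_cmp_Q (h : HasDerivedCategory.{w} A) (h' : HasDerivedCategory.{w'} A) :
    Nonempty (@DerivedCategory.Q A _ _ h ⋙ cmp h h' ≅ @DerivedCategory.Q A _ _ h') :=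
  ⟨@Functor.mapDerivedCategoryFactors A _ _ h A _ _ h' (𝟭 A) _ _ _ ≪≫
    Functor.isoWhiskerRight (Functor.mapHomologicalComplexIdIso A (ComplexShape.up ℤ)) _ ≪≫
      Functor.leftUnitor _⟩

/-- The comparisons are inverse to each other. -/
theorem nonempty_cmp_cmp (h : HasDerivedCategory.{w} A) (h' : HasDerivedCategory.{w'} A) :
    Nonempty (cmp h h' ⋙ cmp h' h ≅ 𝟭 _) := by
  obtain ⟨e⟩ := nonempty_cmp_Q h h'
  obtain ⟨e'⟩ := nonempty_cmp_Q h' h
  letI := h
  let L : CochainComplex A ℤ ⥤ DerivedCategory A := DerivedCategory.Q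
  let W := HomologicalComplex.quasiIso A (ComplexShape.up ℤ)
  letI : Localization.Lifting L W L (cmp h h' ⋙ cmp h' h) :=
    ⟨(Functor.associator _ _ _).symm ≪≫ Functor.isoWhiskerRight e _ ≪≫ e'⟩
  letI : Localization.Lifting L W L (𝟭 (DerivedCategory A)) := ⟨Functor.rightUnitor _⟩
  exact ⟨Localization.liftNatIso L W L L (cmp h h' ⋙ cmp h' h) (𝟭 _) (Iso.refl _)⟩

/-- The comparison is an equivalence. -/
theorem isEquivalence_cmp (h : HasDerivedCategory.{w} A) (h' : HasDerivedCategory.{w'} A) :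
    (cmp h h').IsEquivalence := by
  obtain ⟨e⟩ := nonempty_cmp_cmp h h'
  obtain ⟨e'⟩ := nonempty_cmp_cmp h' h
  exact (CategoryTheory.Equivalence.mk (cmp h h') (cmp h' h) e.symm e').isEquivalence_functor

section Sandwich

open scoped Pretriangulated.Opposite

universe v v₁ v₂ u₁ u₂ u₃ u₄

variable {D₀ : Type u₁} [Category.{v} D₀] [Preadditive D₀] [HasZeroObject D₀] [HasShift D₀ ℤ]
  [∀ n : ℤ, (shiftFunctor D₀ n).Additive] [Pretriangulated D₀] [HasCoproducts.{v} D₀]
  {D₁ : Type u₂} [Category.{v₁} D₁] [Preadditive D₁] [HasZeroObject D₁] [HasShift D₁ ℤ]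
  [∀ n : ℤ, (shiftFunctor D₁ n).Additive] [Pretriangulated D₁]
  {D₂ : Type u₃} [Category.{v₂} D₂] [Preadditive D₂] [HasZeroObject D₂] [HasShift D₂ ℤ]
  [∀ n : ℤ, (shiftFunctor D₂ n).Additive] [Pretriangulated D₂]
  {D₃ : Type u₄} [Category.{v} D₃] [Preadditive D₃] [HasZeroObject D₃] [HasShift D₃ ℤ]
  [∀ n : ℤ, (shiftFunctor D₃ n).Additive] [Pretriangulated D₃]

/-- Adjoints through equivalences with small models. -/
theorem isLeftAdjoint_sandwich (E₁ : D₀ ⥤ D₁) [E₁.CommShift ℤ] [E₁.IsTriangulated] (h₁ : E₁.IsEquivalence)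
    (F : D₁ ⥤ D₂) [F.CommShift ℤ] [F.IsTriangulated]
    (E₂ : D₂ ⥤ D₃) [E₂.CommShift ℤ] [E₂.IsTriangulated] (h₂ : E₂.IsEquivalence)
    (hF : ∀ ι : Type v, PreservesColimitsOfShape (Discrete ι) F)
    (h : ∀ (H : D₀ᵒᵖ ⥤ AddCommGrpCat.{v}) [H.IsHomological]
      [∀ τ : Type v, PreservesLimitsOfShape (Discrete τ) H],
      (H ⋙ forget AddCommGrpCat.{v}).IsRepresentable) : F.IsLeftAdjoint := by
  haveI := h₁
  haveI := h₂
  haveI : ∀ ι : Type v, PreservesColimitsOfShape (Discrete ι) (E₁ ⋙ F ⋙ E₂) := fun ι => inferInstance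
  haveI : (E₁ ⋙ F ⋙ E₂).IsLeftAdjoint := TriCat.isLeftAdjoint_of_representable (E₁ ⋙ F ⋙ E₂) h
  haveI : (E₁.inv ⋙ (E₁ ⋙ F ⋙ E₂) ⋙ E₂.inv).IsLeftAdjoint := inferInstance
  exact Functor.isLeftAdjoint_of_iso (F := E₁.inv ⋙ (E₁ ⋙ F ⋙ E₂) ⋙ E₂.inv)
    (Functor.isoWhiskerLeft E₁.inv (Functor.associator _ _ _) ≪≫ (Functor.associator _ _ _).symm ≪≫
      Functor.isoWhiskerRight E₁.asEquivalence.counitIso _ ≪≫ Functor.leftUnitor _ ≪≫ Functor.associator _ _ _ ≪≫
      Functor.isoWhiskerLeft F E₂.asEquivalence.unitIso.symm ≪≫ Functor.rightUnitor F)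

end Sandwich

section Transfer

open scoped Pretriangulated.Opposite

variable {A₀ : Type (u + 1)} [Category.{u} A₀] [Abelian A₀] [IsGrothendieckAbelian.{u} A₀] [HasDerivedCategory.{u} A₀]
  {A₁ : Type (u + 1)} [Category.{u} A₁] [Abelian A₁] [HasDerivedCategory.{w} A₁]
  {A₂ : Type (u + 1)} [Category.{u} A₂] [Abelian A₂] [HasDerivedCategory.{w'} A₂]
  {A₃ : Type (u + 1)} [Category.{u} A₃] [Abelian A₃] [HasDerivedCategory.{u} A₃]

/-- Brown representability through exact equivalences. -/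
theorem isLeftAdjoint_transfer (e₁ : A₀ ⥤ A₁) [e₁.Additive] [PreservesFiniteLimits e₁] [PreservesFiniteColimits e₁]
    (h₁ : e₁.mapDerivedCategory.IsEquivalence)
    (F : DerivedCategory A₁ ⥤ DerivedCategory A₂) [F.CommShift ℤ] [F.IsTriangulated]
    (e₂ : A₂ ⥤ A₃) [e₂.Additive] [PreservesFiniteLimits e₂] [PreservesFiniteColimits e₂]
    (h₂ : e₂.mapDerivedCategory.IsEquivalence)
    (hF : ∀ ι : Type u, PreservesColimitsOfShape (Discrete ι) F) : F.IsLeftAdjoint :=
  haveI : HasCoproducts.{u} (DerivedCategory A₀) := fun _ => TriCat.hasColimitsOfShape_derivedCategory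
  isLeftAdjoint_sandwich e₁.mapDerivedCategory h₁ F e₂.mapDerivedCategory h₂ hF
    fun H _ _ => H9Misc.BrownGroth.isRepresentable H

end Transfer

variable [IsGrothendieckAbelian.{u} A] {B : Type (u + 1)} [Category.{u} B] [Abelian B] [IsGrothendieckAbelian.{u} B]

/-- Triangulated coproduct preserving functors of derived categories are left adjoints. -/
theorem isLeftAdjoint_of_preservesCoproducts [hA : HasDerivedCategory.{w} A] [hB : HasDerivedCategory.{w'} B]
    (F : DerivedCategory A ⥤ DerivedCategory B) [F.CommShift ℤ] [F.IsTriangulated]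
    (hF : ∀ ι : Type u, PreservesColimitsOfShape (Discrete ι) F) : F.IsLeftAdjoint :=
  let a : HasDerivedCategory.{u} A := H9Misc.BrownGroth.smallDerived _ fun K => by
    obtain ⟨I, f, hI, hf, -, -⟩ := TriCat.exists_kInjective_resolution'.{u} K
    exact ⟨I, f, hI, hf⟩
  let b : HasDerivedCategory.{u} B := H9Misc.BrownGroth.smallDerived _ fun K => by
    obtain ⟨I, f, hI, hf, -, -⟩ := TriCat.exists_kInjective_resolution'.{u} K
    exact ⟨I, f, hI, hf⟩
  @isLeftAdjoint_transfer A _ _ _ a A _ _ hA B _ _ hB B _ _ b (𝟭 A) _ _ _ (isEquivalence_cmp a hA) F _ _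
    (𝟭 B) _ _ _ (isEquivalence_cmp hB b) hF

end Groth.Agent.IndCoh.DerivedBrown
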