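import Groth.Agent.IndCoh.Stage
import Groth.Agent.IndCoh.HUInd
import Groth.Agent.RSpaceFT.HomGlue

/-!
# Extensions of ind-coherent modules
-/

set_option autoImplicit false
set_option backward.isDefEq.respectTransparency false
set_option backward.isDefEq.respectTransparency.types false
set_option linter.style.haveILetI false

open CategoryTheory CategoryTheory.Limits TopologicalSpace Opposite AlgebraicGeometry

universe u

noncomputable section

namespace Groth.Agent.IndCoh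

open Groth.Agent.FModLib

section general

variable {X : TopCat.{u}} {O : TopCat.Sheaf CommRingCat.{u} X}

theorem sum_addCases {n q : ℕ} {M : Type*} [AddCommMonoid M] (f : ULift.{u} (Fin (n + q)) → M) :
    ∑ i, f i = (∑ i : ULift.{u} (Fin n), f ⟨Fin.castAdd q i.down⟩) + ∑ l : ULift.{u} (Fin q), f ⟨Fin.natAdd n l.down⟩ := by
  rw [← Equiv.sum_comp Equiv.ulift.symm f, Fin.sum_univ_add, ← Equiv.sum_comp Equiv.ulift.symm,
    ← Equiv.sum_comp (Equiv.ulift.symm : Fin q ≃ ULift.{u} (Fin q))]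
  rfl

/-- Sections killed by a map come locally from its kernel. -/
theorem exists_local_preimage (S : ShortComplex (ModSite.Mod O)) (hS : S.ShortExact) {W : Opens X}
    (e : ModSite.sect S.X₂ W) (he : S.g.val.app (op W) e = 0) :
    ∃ a : ModSite.sect S.X₁ W, S.f.val.app (op W) a = e := by
  obtain ⟨k, hk⟩ := exists_kernel_lift S.g W e he
  let θ := hS.fIsKernel.conePointUniqueUpToIso (kernelIsKernel S.g)
  refine ⟨θ.inv.val.app (op W) k, ?_⟩
  exact (app_congr (hS.fIsKernel.conePointUniqueUpToIso_inv_comp (kernelIsKernel S.g) WalkingParallelPair.zero) W k).trans hk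

set_option maxHeartbeats 1000000 in
/-- An extension of presented modules is presented. -/
theorem IsPres.extension (S : ShortComplex (ModSite.Mod O)) (hS : S.ShortExact) {U : Opens X} {n m q r : ℕ}
    {b : ULift.{u} (Fin n) → ModSite.sect S.X₂ U} {g : ULift.{u} (Fin m) → ULift.{u} (Fin n) → O.obj.obj (op U)}
    (hC : IsPres S.X₃ U (fun i => S.g.val.app (op U) (b i)) g)
    {k : ULift.{u} (Fin q) → ModSite.sect S.X₁ U} {h : ULift.{u} (Fin r) → ULift.{u} (Fin q) → O.obj.obj (op U)}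
    (hA : IsPres S.X₁ U k h) (a : ULift.{u} (Fin m) → ULift.{u} (Fin q) → O.obj.obj (op U))
    (ha : ∀ j, ∑ l, a j l • S.f.val.app (op U) (k l) = ∑ i, g j i • b i) :
    ∃ (t : ULift.{u} (Fin (n + q)) → ModSite.sect S.X₂ U)
      (G : ULift.{u} (Fin (m + r)) → ULift.{u} (Fin (n + q)) → O.obj.obj (op U)), IsPres S.X₂ U t G := by
  haveI := hS.mono_f
  haveI := hS.epi_g
  refine ⟨fun i => Fin.addCases (fun i => b ⟨i⟩) (fun l => S.f.val.app (op U) (k ⟨l⟩)) i.down,
    fun j i => Fin.addCases (fun j => Fin.addCases (fun i => g ⟨j⟩ ⟨i⟩) (fun l => - a ⟨j⟩ ⟨l⟩) i.down)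
      (fun j => Fin.addCases (fun _ => 0) (fun l => h ⟨j⟩ ⟨l⟩) i.down) j.down, fun j => ?_, ?_, ?_⟩
  · obtain ⟨j⟩ := j
    rw [sum_addCases]
    induction j using Fin.addCases with
    | left j =>
      simp only [Fin.addCases_left, Fin.addCases_right, neg_smul, Finset.sum_neg_distrib]
      rw [ha, add_neg_cancel]
    | right j =>
      simp only [Fin.addCases_left, Fin.addCases_right, zero_smul, Finset.sum_const_zero, zero_add]
      exact (mapp_sum_smul _ S.f (h ⟨j⟩) k).symm.trans ((congrArg (fun z => S.f.val.app (op U) z) (hA.rel0 ⟨j⟩)).trans (map_zero _))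
  · intro W hW s x hx
    obtain ⟨V, e, hxV, c, hc⟩ := hC.gen W hW (S.g.val.app (op W) s) x hx
    let s' : ModSite.sect S.X₂ V := mres _ e s - ∑ i, c i • mres _ (e.trans hW) (b i)
    have hs' : S.g.val.app (op V) s' = 0 := by
      refine (map_sub (S.g.val.app (op V)).hom _ _).trans (sub_eq_zero.mpr ?_)
      refine (mapp_res _ S.g e s).trans (hc.symm.trans ?_)
      refine Eq.trans ?_ (mapp_sum_smul _ S.g c _).symm
      exact Finset.sum_congr rfl fun i _ => congrArg (c i • ·) (mapp_res _ S.g _ (b i)).symm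
    obtain ⟨α, hα⟩ := exists_local_preimage S hS s' hs'
    obtain ⟨V', e', hxV', d, hd⟩ := hA.gen V (e.trans hW) α x hxV
    refine ⟨V', e'.trans e, hxV', fun i => Fin.addCases (fun i => ores O e' (c ⟨i⟩)) (fun l => d ⟨l⟩) i.down, ?_⟩
    rw [sum_addCases]
    simp only [Fin.addCases_left, Fin.addCases_right]
    have h2 := congrArg (fun z => S.f.val.app (op V') z) hd
    simp only [mapp_sum_smul, mapp_res] at h2
    rw [hα] at h2
    simp only [s', mres_sub, mres_sum_smul, mres_mres] at h2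
    refine (congrArg (fun z => (∑ i, ores O e' (c i) • mres S.X₂ ((e'.trans e).trans hW) (b i)) + z) h2).trans ?_
    exact add_sub_cancel _ _
  · intro W hW c hc x hx
    rw [sum_addCases] at hc
    simp only [Fin.addCases_left, Fin.addCases_right] at hc
    let c₁ : ULift.{u} (Fin n) → O.obj.obj (op W) := fun i => c ⟨Fin.castAdd q i.down⟩
    let c₂ : ULift.{u} (Fin q) → O.obj.obj (op W) := fun l => c ⟨Fin.natAdd n l.down⟩
    have hc' : (∑ i, c₁ i • mres S.X₂ hW (b i)) + ∑ l, c₂ l • mres S.X₂ hW (S.f.val.app (op U) (k l)) = 0 := hc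
    have h1 : ∑ i, c₁ i • mres S.X₃ hW (S.g.val.app (op U) (b i)) = 0 := by
      have h0 := (map_add (S.g.val.app (op W)).hom _ _).symm.trans
        ((congrArg (fun z => S.g.val.app (op W) z) hc').trans (map_zero _))
      have hz : ∀ l, S.g.val.app (op W) (mres S.X₂ hW (S.f.val.app (op U) (k l))) = 0 := fun l =>
        (mapp_res _ S.g hW _).trans ((congrArg (mres _ hW) (app_congr S.zero U (k l))).trans (mres_zero hW))
      have hz' : S.g.val.app (op W) (∑ l, c₂ l • mres S.X₂ hW (S.f.val.app (op U) (k l))) = 0 :=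
        (mapp_sum_smul _ S.g c₂ _).trans (Finset.sum_eq_zero fun l _ => (congrArg (c₂ l • ·) (hz l)).trans (smul_zero _))
      refine Eq.trans ?_ h0
      refine Eq.trans ?_ (congrArg (fun z => _ + z) hz').symm
      refine Eq.trans ?_ (add_zero _).symm
      refine Eq.trans ?_ (mapp_sum_smul _ S.g c₁ _).symm
      exact Finset.sum_congr rfl fun i _ => congrArg (c₁ i • ·) (mapp_res _ S.g hW (b i)).symm
    obtain ⟨V, e, hxV, d, hd⟩ := hC.rel W hW c₁ h1 x hx
    let c₃ : ULift.{u} (Fin q) → O.obj.obj (op V) := fun l =>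
      (∑ j, d j * ores O (e.trans hW) (a j l)) + ores O e (c₂ l)
    have h3 : ∑ l, c₃ l • mres S.X₁ (e.trans hW) (k l) = 0 := by
      refine sect_injective_of_mono S.f V ?_
      refine (mapp_sum_smul _ S.f c₃ _).trans (Eq.trans ?_ (map_zero _).symm)
      have h4 := congrArg (mres S.X₂ e) hc'
      rw [mres_add, mres_sum_smul, mres_sum_smul, mres_zero] at h4
      simp only [mres_mres] at h4
      simp only [c₃, add_smul, Finset.sum_add_distrib, Finset.sum_smul, mul_smul, mapp_res]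
      refine Eq.trans (congrArg (fun z => z + _) ?_) h4
      rw [Finset.sum_comm]
      simp only [← Finset.smul_sum, ← mres_sum_smul, ha]
      simp only [← hd, Finset.sum_smul, mul_smul]
      rw [Finset.sum_comm]
      simp only [← Finset.smul_sum, ← mres_sum_smul]
    obtain ⟨V', e', hxV', w, hw⟩ := hA.rel V (e.trans hW) c₃ h3 x hxV
    refine ⟨V', e'.trans e, hxV', fun j => Fin.addCases (fun j => ores O e' (d ⟨j⟩)) (fun l => w ⟨l⟩) j.down,
      fun i => ?_⟩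
    obtain ⟨i⟩ := i
    rw [sum_addCases]
    induction i using Fin.addCases with
    | left i =>
      simp only [Fin.addCases_left, Fin.addCases_right, map_zero, mul_zero, Finset.sum_const_zero, add_zero]
      have h5 := congrArg (ores O e') (hd ⟨i⟩)
      simp only [map_sum, map_mul, ores_ores, c₁] at h5
      exact h5
    | right l =>
      simp only [Fin.addCases_left, Fin.addCases_right, map_neg, mul_neg, Finset.sum_neg_distrib]
      have h5 := hw ⟨l⟩
      simp only [c₃, map_add, map_sum, map_mul, ores_ores, c₂] at h5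
      rw [h5, neg_add_cancel_left]

end general

variable {𝔛 : FSch.Sys.{u}} (h𝔛 : 𝔛.IsLocNoethFormal)

/-- Sections over affine opens lift along epimorphisms with ind-coherent kernel. -/
theorem surjective_of_ind (S : ShortComplex (FSch.ModF 𝔛 h𝔛.1)) (hS : S.ShortExact)
    (h₁ : (ObjectProperty.ind.{u} fun 𝔊 : FSch.ModF 𝔛 h𝔛.1 => FSch.IsCohF 𝔛 h𝔛.1 𝔊) S.X₁)
    {U : (𝔛.X 0).Opens} (hU : IsAffineOpen U) (s : FSect h𝔛 S.X₃ U) :
    ∃ e : FSect h𝔛 S.X₂ U, S.g.val.app (op U) e = s :=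
  surjective_of_subsingleton_HU (hS.map_of_exact (SheafOfModules.toSheaf _)) U (subsingleton_HU_ind h𝔛 hU h₁ 0) s

/-- Extensions of coherent modules are coherent. -/
theorem isCohF_extension (S : ShortComplex (FSch.ModF 𝔛 h𝔛.1)) (hS : S.ShortExact)
    (h₁ : FSch.IsCohF 𝔛 h𝔛.1 S.X₁) (h₃ : FSch.IsCohF 𝔛 h𝔛.1 S.X₃) : FSch.IsCohF 𝔛 h𝔛.1 S.X₂ := by
  refine isFinitePresentation_of_isPres (O := 𝔛.Osh h𝔛.1) fun x => ?_
  obtain ⟨U, hU, hxU, -⟩ := exists_affine_le (𝔛 := 𝔛) (W := ⊤) (x := x) trivial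
  obtain ⟨n, m, t, g, hC⟩ := affPres h𝔛 h₃ hU
  obtain ⟨q, r, k, h, hA⟩ := affPres h𝔛 h₁ hU
  choose b hb using fun i => surjective_of_ind h𝔛 S hS ((Gd.of_coh h𝔛 h₁).ind h𝔛) hU (t i)
  have hC' : IsPres (O := 𝔛.Osh h𝔛.1) S.X₃ U (fun i => S.g.val.app (op U) (b i)) g := by
    rw [show (fun i => S.g.val.app (op U) (b i)) = t from funext hb]
    exact hC
  have hz : ∀ j, S.g.val.app (op U) (∑ i, g j i • b i) = 0 := fun j =>
    (mapp_sum_smul _ S.g (g j) b).trans (hC'.rel0 j)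
  choose α hα using fun j => exists_local_preimage (O := 𝔛.Osh h𝔛.1) S hS _ (hz j)
  choose a ha using fun j => hA.gen_aff h𝔛 h₁ hU (α j)
  obtain ⟨T, G, hT⟩ := IsPres.extension (O := 𝔛.Osh h𝔛.1) S hS hC' hA a fun j =>
    (mapp_sum_smul _ S.f (a j) k).symm.trans ((congrArg (fun z => S.f.val.app (op U) z) (ha j)).trans (hα j))
  exact ⟨U, _, _, T, G, hxU, hT⟩


/-- A quasi-compact open piece of the finitely many opens covering. -/
theorem exists_killed (hN : NoetherianSpace (𝔛.X 0)) {S : ShortComplex (FSch.ModF 𝔛 h𝔛.1)} (hS : S.ShortExact)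
    {J : Type u} [SmallCategory J] [IsFiltered J] {D : J ⥤ FSch.ModF 𝔛 h𝔛.1} (c : Cocone D)
    (ι : c.pt ⟶ S.X₁) [Epi ι] (hs : LocSurj (O := 𝔛.Osh h𝔛.1) fun j => c.ι.app j) {j : J}
    (π' : cokernel (c.ι.app j ≫ ι ≫ S.f) ⟶ S.X₃) (hπ : cokernel.π (c.ι.app j ≫ ι ≫ S.f) ≫ π' = S.g)
    {W : (𝔛.X 0).Opens} (d : FSect h𝔛 (cokernel (c.ι.app j ≫ ι ≫ S.f)) W) (hd : π'.val.app (op W) d = 0) :
    ∃ (k : J) (_ : j ⟶ k) (q : cokernel (c.ι.app j ≫ ι ≫ S.f) ⟶ cokernel (c.ι.app k ≫ ι ≫ S.f)),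
      cokernel.π _ ≫ q = cokernel.π _ ∧ q.val.app (op W) d = 0 := by
  classical
  let Q : J → FSch.ModF 𝔛 h𝔛.1 := fun i => cokernel (c.ι.app i ≫ ι ≫ S.f)
  have h0 : ∀ {i k : J} (_ : i ⟶ k), (c.ι.app i ≫ ι ≫ S.f) ≫ cokernel.π (c.ι.app k ≫ ι ≫ S.f) = 0 := fun {i k} t => by
    rw [← c.w t]
    simp only [Category.assoc]
    exact (congrArg (D.map t ≫ ·) ((by simp only [Category.assoc] :
      c.ι.app k ≫ ι ≫ S.f ≫ cokernel.π _ = (c.ι.app k ≫ ι ≫ S.f) ≫ cokernel.π _).trans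
        (cokernel.condition _))).trans comp_zero
  let q : ∀ k, (j ⟶ k) → (Q j ⟶ Q k) := fun k t => cokernel.desc _ (cokernel.π _) (h0 t)
  have hq : ∀ k t, cokernel.π _ ≫ q k t = cokernel.π _ := fun k t => cokernel.π_desc _ _ _
  have hq2 : ∀ {k l : J} (t : j ⟶ k) (v : k ⟶ l) (t' : j ⟶ l) {V : (𝔛.X 0).Opens} (z : FSect h𝔛 (Q j) V),
      (q k t).val.app (op V) z = 0 → (q l t').val.app (op V) z = 0 := fun {k l} t v t' {V} z hz => by
    have he : q k t ≫ cokernel.desc _ (cokernel.π _) (h0 v) = q l t' := coequalizer.hom_ext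
      ((reassoc_of% (hq k t)) _ |>.trans ((cokernel.π_desc _ _ _).trans (hq l t').symm))
    exact (app_congr he V z).symm.trans
      ((congrArg (fun y => (cokernel.desc _ (cokernel.π _) (h0 v)).val.app (op V) y) hz).trans (map_zero _))
  have hloc : ∀ x : W, ∃ (k : J) (t : j ⟶ k) (V : (𝔛.X 0).Opens) (e : V ≤ W), x.1 ∈ V ∧
      (q k t).val.app (op V) (mres _ e d) = 0 := by
    rintro ⟨x, hx⟩
    obtain ⟨T, hT, hl⟩ := SuppCore.exists_cover_lift (cokernel.π (c.ι.app j ≫ ι ≫ S.f)) d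
    obtain ⟨V, e, he, hxV⟩ := hT x hx
    obtain ⟨z, hz⟩ := hl e he
    have hz0 : S.g.val.app (op V) z = 0 := by
      refine (app_congr hπ V z).symm.trans ?_
      refine (congrArg (fun y => π'.val.app (op V) y) hz).trans ?_
      exact (mapp_res _ π' e.le d).trans ((congrArg (mres _ e.le) hd).trans (mres_zero _))
    obtain ⟨a, ha⟩ := exists_local_preimage (O := 𝔛.Osh h𝔛.1) S hS z hz0
    obtain ⟨T', hT', hl'⟩ := SuppCore.exists_cover_lift ι a
    obtain ⟨V', e', he', hxV'⟩ := hT' x hxV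
    obtain ⟨m, hm⟩ := hl' e' he'
    obtain ⟨i, V'', e'', hxV'', w, hw⟩ := hs V' m x hxV'
    let k := IsFiltered.max j i
    refine ⟨k, IsFiltered.leftToMax j i, V'', (e''.trans e'.le).trans e.le, hxV'', ?_⟩
    have h1 : mres _ ((e''.trans e'.le).trans e.le) d =
        (cokernel.π (c.ι.app j ≫ ι ≫ S.f)).val.app (op V'') (mres _ (e''.trans e'.le) z) := by
      refine Eq.trans ?_ (mapp_res _ _ _ _).symm
      exact ((congrArg (mres _ (e''.trans e'.le)) hz).trans (mres_mres _ _ _ _)).symm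
    refine (congrArg (fun y => (q k (IsFiltered.leftToMax j i)).val.app (op V'') y) h1).trans ?_
    refine (app_congr (hq k (IsFiltered.leftToMax j i)) V'' _).trans ?_
    have h2 : mres S.X₂ (e''.trans e'.le) z = (c.ι.app i ≫ ι ≫ S.f).val.app (op V'') w := by
      refine Eq.trans ?_ (congrArg (fun y => (ι ≫ S.f).val.app (op V'') y) hw).symm
      refine Eq.trans ?_ (mapp_res _ (ι ≫ S.f) e'' m).symm
      refine (mres_mres _ e'.le e'' z).symm.trans (congrArg (mres _ e'') ?_)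
      refine Eq.trans ?_ (congrArg (fun y => S.f.val.app (op V') y) hm).symm
      exact (congrArg (mres _ e'.le) ha.symm).trans (mapp_res _ S.f e'.le a).symm
    exact (congrArg (fun y => (cokernel.π (c.ι.app k ≫ ι ≫ S.f)).val.app (op V'') y) h2).trans
      (app_congr (h0 (IsFiltered.rightToMax j i)) V'' w)
  choose k t V e hxV hV using hloc
  obtain ⟨F, hF⟩ := (hN.isCompact (W : Set (𝔛.X 0))).elim_finite_subcover (fun x : W => (V x : Set (𝔛.X 0)))
    (fun x => (V x).2) (fun x hx => Set.mem_iUnion.mpr ⟨⟨x, hx⟩, hxV ⟨x, hx⟩⟩)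
  obtain ⟨K, hK⟩ := IsFiltered.sup_objs_exists (insert j (F.image k))
  let T₀ := (hK (Finset.mem_insert_self j _)).some
  refine ⟨K, T₀, q K T₀, hq K T₀, ?_⟩
  refine eq_of_locally (O := 𝔛.Osh h𝔛.1) (Q K) fun y hy => ?_
  obtain ⟨x, hxF, hyx⟩ := Set.mem_iUnion₂.mp (hF hy)
  refine ⟨V x, e x, hyx, ?_⟩
  rw [mres_zero]
  refine (mapp_res _ (q K T₀) (e x) d).symm.trans ?_
  exact hq2 (t x) (hK (Finset.mem_insert_of_mem (Finset.mem_image_of_mem k hxF))).some T₀ _ (hV x)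

set_option maxHeartbeats 2000000 in
/-- A coherent quotient of an extension with ind-coherent kernel is the image of a coherent submodule. -/
theorem exists_coh_lift [CompactSpace (𝔛.X 0)] (S : ShortComplex (FSch.ModF 𝔛 h𝔛.1)) (hS : S.ShortExact)
    (h₁ : Gd h𝔛 S.X₁) (h₃ : FSch.IsCohF 𝔛 h𝔛.1 S.X₃) :
    ∃ (B : FSch.ModF 𝔛 h𝔛.1) (b : B ⟶ S.X₂), FSch.IsCohF 𝔛 h𝔛.1 B ∧
      LocSurj (O := 𝔛.Osh h𝔛.1) fun _ : PUnit.{u+1} => b ≫ S.g := by
  classical
  haveI := hS.mono_f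
  haveI := hS.epi_g
  haveI : IsLocallyNoetherian (𝔛.X 0) := h𝔛.2.2 0
  haveI : IsNoetherian (𝔛.X 0) := {}
  haveI hN : NoetherianSpace (𝔛.X 0) := inferInstance
  obtain ⟨J, _, _, p, hp, hm⟩ := h₁.exists_presentation h𝔛
  have hs := locSurj_of_isColimit h𝔛 p.cocone p.isColimit
  let Q : J → FSch.ModF 𝔛 h𝔛.1 := fun j => cokernel (p.cocone.ι.app j ≫ 𝟙 p.cocone.pt ≫ S.f)
  let pj : ∀ j, S.X₂ ⟶ Q j := fun j => cokernel.π _
  let bar : ∀ j, Q j ⟶ S.X₃ := fun j => cokernel.desc _ S.g (by simp)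
  have hbar : ∀ j, pj j ≫ bar j = S.g := fun j => cokernel.π_desc _ _ _
  have kill : ∀ {j : J} {W : (𝔛.X 0).Opens} (d : FSect h𝔛 (Q j) W), (bar j).val.app (op W) d = 0 →
      ∃ (k : J) (_ : j ⟶ k) (q : Q j ⟶ Q k), pj j ≫ q = pj k ∧ q.val.app (op W) d = 0 := fun {j W} d hd =>
    exists_killed h𝔛 hN hS p.cocone (𝟙 p.cocone.pt) hs (bar j) (hbar j) d hd
  have hstep : ∀ {j k : J} (_ : j ⟶ k), ∃ q : Q j ⟶ Q k, pj j ≫ q = pj k := fun {j k} t =>
    ⟨cokernel.desc _ (pj k) (by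
      have h := cokernel.condition (p.cocone.ι.app k ≫ 𝟙 p.cocone.pt ≫ S.f)
      rw [← p.cocone.w t]
      simp only [Category.assoc] at h ⊢
      exact (congrArg (p.diag.map t ≫ ·) h).trans comp_zero), cokernel.π_desc _ _ _⟩
  -- finitely many facts hold at one stage
  have kills : ∀ {j : J} {ρ : Type u} [Fintype ρ] (W : ρ → (𝔛.X 0).Opens) (d : ∀ r, FSect h𝔛 (Q j) (W r)),
      (∀ r, (bar j).val.app (op (W r)) (d r) = 0) →
      ∃ (k : J) (_ : j ⟶ k) (q : Q j ⟶ Q k), pj j ≫ q = pj k ∧ ∀ r, q.val.app (op (W r)) (d r) = 0 := by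
    intro j ρ _ W d hd
    have key : ∀ F : Finset ρ, ∃ (k : J) (_ : j ⟶ k) (q : Q j ⟶ Q k), pj j ≫ q = pj k ∧
        ∀ r ∈ F, q.val.app (op (W r)) (d r) = 0 := by
      intro F
      induction F using Finset.induction with
      | empty =>
        obtain ⟨q, hq⟩ := hstep (𝟙 j)
        exact ⟨j, 𝟙 j, q, hq, fun r hr => absurd hr (Finset.notMem_empty r)⟩
      | insert i F _ ih =>
        obtain ⟨k, t, q, hq, h⟩ := ih
        obtain ⟨k', t', q', hq', h'⟩ := kill (q.val.app (op (W i)) (d i)) (by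
          have he : q ≫ bar k = bar j := by
            refine coequalizer.hom_ext ?_
            show pj j ≫ q ≫ bar k = pj j ≫ bar j
            rw [← Category.assoc, hq, hbar, hbar]
          exact (app_congr he (W i) (d i)).trans (hd i))
        refine ⟨k', t ≫ t', q ≫ q', by rw [← Category.assoc, hq, hq'], fun r hr => ?_⟩
        rcases Finset.mem_insert.mp hr with rfl | hr
        · exact h'
        · exact (congrArg (fun z => q'.val.app (op (W r)) z) (h r hr)).trans (map_zero _)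
    obtain ⟨k, t, q, hq, h⟩ := key Finset.univ
    exact ⟨k, t, q, hq, fun r => h r (Finset.mem_univ r)⟩
  -- the finite affine cover
  have hx : ∀ x : 𝔛.X 0, ∃ U : (𝔛.X 0).Opens, IsAffineOpen U ∧ x ∈ U := fun x => by
    obtain ⟨U, hU, hxU, -⟩ := exists_affine_le (𝔛 := 𝔛) (W := ⊤) (x := x) trivial
    exact ⟨U, hU, hxU⟩
  choose U₀ hU₀ hxU₀ using hx
  obtain ⟨F, hF⟩ := isCompact_univ.elim_finite_subcover (fun x => (U₀ x : Set (𝔛.X 0)))
    (fun x => (U₀ x).2) (fun x _ => Set.mem_iUnion.mpr ⟨x, hxU₀ x⟩)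
  let U : ↥F → (𝔛.X 0).Opens := fun x => U₀ x.1
  have hcov : iSup U = ⊤ := top_le_iff.mp fun y _ => by
    obtain ⟨x, hxF, hyx⟩ := Set.mem_iUnion₂.mp (hF (Set.mem_univ y))
    exact Opens.mem_iSup.mpr ⟨⟨x, hxF⟩, hyx⟩
  choose n m t g hP using fun x : ↥F => affPres h𝔛 h₃ (hU₀ x.1)
  choose e he using fun (x : ↥F) (i : ULift.{u} (Fin (n x))) =>
    surjective_of_ind h𝔛 S hS (h₁.ind h𝔛) (hU₀ x.1) (t x i)
  -- the relations
  let j₀ : J := IsFiltered.nonempty.some
  have hb0 : ∀ (x : ↥F) i, (bar j₀).val.app (op (U x)) ((pj j₀).val.app (op (U x)) (e x i)) = t x i := fun x i =>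
    (app_congr (hbar j₀) (U x) (e x i)).trans (he x i)
  obtain ⟨j₁, t₁, q₁, hq₁, hrel⟩ := kills (j := j₀) (ρ := Σ x : ↥F, ULift.{u} (Fin (m x))) (fun r => U r.1)
    (fun r => ∑ i, g r.1 r.2 i • (pj j₀).val.app (op (U r.1)) (e r.1 i)) (fun r => by
      refine (mapp_sum_smul _ (bar j₀) (g r.1 r.2) _).trans (Eq.trans ?_ ((hP r.1).rel0 r.2))
      exact Finset.sum_congr rfl fun i _ => congrArg (g r.1 r.2 i • ·) (hb0 r.1 i))
  have hσ := fun x : ↥F => (hP x).exists_restr_hom (G := Q j₁) (fun i => (pj j₁).val.app (op (U x)) (e x i)) fun j => by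
    refine Eq.trans ?_ (hrel ⟨x, j⟩)
    refine Eq.trans ?_ (mapp_sum_smul _ q₁ (g x j) _).symm
    exact Finset.sum_congr rfl fun i _ => congrArg (g x j i • ·) (app_congr hq₁ (U x) (e x i)).symm
  choose a₁ ha₁ using hσ
  -- the overlaps
  have hbara : ∀ (x : ↥F) (W : (𝔛.X 0).Opens) (hW : W ≤ U x) (s : FSect h𝔛 S.X₃ W),
      (bar j₁).val.app (op W) (RSpaceFT.onU (a₁ x) W hW s) = s := by
    intro x W hW s
    refine eq_of_locally (O := 𝔛.Osh h𝔛.1) S.X₃ fun y hy => ?_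
    obtain ⟨V, eV, hyV, c, hc⟩ := (hP x).gen W hW s y hy
    refine ⟨V, eV, hyV, ?_⟩
    refine (mapp_res _ (bar j₁) eV _).symm.trans ?_
    refine (congrArg (fun z => (bar j₁).val.app (op V) z) ((RSpaceFT.onU_res (a₁ x) hW eV s).symm.trans
      ((congrArg (RSpaceFT.onU (a₁ x) V (eV.trans hW)) hc.symm).trans (RSpaceFT.onU_sum_smul (a₁ x) _ c _)))).trans ?_
    refine (mapp_sum_smul _ (bar j₁) c _).trans (Eq.trans ?_ hc)
    refine Finset.sum_congr rfl fun i _ => congrArg (c i • ·) ?_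
    refine (congrArg (fun z => (bar j₁).val.app (op V) z)
      ((RSpaceFT.onU_res (a₁ x) le_rfl (eV.trans hW) (t x i)).trans (congrArg (mres _ (eV.trans hW))
        ((RSpaceFT.onU_self (a₁ x) (t x i)).trans (ha₁ x i))))).trans ?_
    exact (mapp_res _ (bar j₁) _ _).trans (congrArg (mres _ _) ((app_congr (hbar j₁) (U x) (e x i)).trans (he x i)))
  obtain ⟨j₂, t₂, q₂, hq₂, hov⟩ := kills (j := j₁) (ρ := Σ r : ↥F × ↥F, ULift.{u} (Fin (n r.1)))
    (fun r => U r.1.1 ⊓ U r.1.2)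
    (fun r => RSpaceFT.onU (a₁ r.1.1) _ inf_le_left (mres S.X₃ inf_le_left (t r.1.1 r.2)) -
      RSpaceFT.onU (a₁ r.1.2) _ inf_le_right (mres S.X₃ inf_le_left (t r.1.1 r.2))) (fun r => by
      refine (map_sub ((bar j₁).val.app (op (U r.1.1 ⊓ U r.1.2))).hom _ _).trans (sub_eq_zero.mpr ?_)
      exact (hbara r.1.1 _ _ _).trans (hbara r.1.2 _ _ _).symm)
  let a : ∀ x : ↥F, _ ⟶ (ModSite.restr (𝔛.Osh h𝔛.1) (U x)).obj (Q j₂) :=
    fun x => a₁ x ≫ (ModSite.restr (𝔛.Osh h𝔛.1) (U x)).map q₂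
  have hagree : ∀ (x y : ↥F) (W : (𝔛.X 0).Opens) (hx : W ≤ U x) (hy : W ≤ U y) (s : FSect h𝔛 S.X₃ W),
      RSpaceFT.onU (a x) W hx s = RSpaceFT.onU (a y) W hy s := by
    intro x y W hx hy s
    refine eq_of_locally (O := 𝔛.Osh h𝔛.1) (Q j₂) fun z hz => ?_
    obtain ⟨V, eV, hzV, c, hc⟩ := (hP x).gen W hx s z hz
    refine ⟨V, eV, hzV, ?_⟩
    refine (RSpaceFT.onU_res (a x) hx eV s).symm.trans (Eq.trans ?_ (RSpaceFT.onU_res (a y) hy eV s))
    refine (congrArg (RSpaceFT.onU (a x) V (eV.trans hx)) hc.symm).trans (Eq.trans ?_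
      (congrArg (RSpaceFT.onU (a y) V (eV.trans hy)) hc))
    refine (RSpaceFT.onU_sum_smul (a x) _ c _).trans (Eq.trans ?_ (RSpaceFT.onU_sum_smul (a y) _ c _).symm)
    refine Finset.sum_congr rfl fun i _ => congrArg (c i • ·) ?_
    have eI : V ≤ U x ⊓ U y := le_inf (eV.trans hx) (eV.trans hy)
    have h0 := sub_eq_zero.mp ((map_sub (q₂.val.app (op (U x ⊓ U y))).hom _ _).symm.trans (hov ⟨(x, y), i⟩))
    have h1 := congrArg (mres (Q j₂) eI) h0
    have hl := RSpaceFT.onU_res (a x) (inf_le_left : U x ⊓ U y ≤ U x) eI (mres S.X₃ inf_le_left (t x i))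
    have hr := RSpaceFT.onU_res (a y) (inf_le_right : U x ⊓ U y ≤ U y) eI (mres S.X₃ inf_le_left (t x i))
    refine Eq.trans ?_ ((hl.trans (h1.trans hr.symm)).trans ?_)
    · exact congrArg (RSpaceFT.onU (a x) V _) (mres_mres _ _ _ _).symm
    · exact congrArg (RSpaceFT.onU (a y) V _) (mres_mres _ _ _ _)
  obtain ⟨σ, hσ⟩ := RSpaceFT.exists_hom_glue U hcov a hagree
  -- the coherent submodule
  let u : S.X₂ ⟶ Q j₂ := pj j₂ - S.g ≫ σ
  have hfu : S.f ≫ u = S.f ≫ pj j₂ := by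
    show S.f ≫ (pj j₂ - S.g ≫ σ) = _
    rw [Preadditive.comp_sub, ← Category.assoc, S.zero, zero_comp, sub_zero]
  have hsurj : LocSurj (O := 𝔛.Osh h𝔛.1) fun _ : PUnit.{u+1} => kernel.ι u ≫ S.g := by
    intro W s y hy
    obtain ⟨x, hyx⟩ := Opens.mem_iSup.mp (hcov.ge (Opens.mem_top y))
    obtain ⟨V, eV, hyV, c, hc⟩ := (hP x).gen (W ⊓ U x) inf_le_right (mres S.X₃ inf_le_left s) y ⟨hy, hyx⟩
    let z : FSect h𝔛 S.X₂ V := ∑ i, c i • mres S.X₂ (eV.trans inf_le_right) (e x i)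
    have hz : S.g.val.app (op V) z = mres S.X₃ (eV.trans inf_le_left) s := by
      refine (mapp_sum_smul _ S.g c _).trans (Eq.trans ?_ (hc.trans (mres_mres _ _ _ _)))
      exact Finset.sum_congr rfl fun i _ => congrArg (c i • ·) ((mapp_res _ S.g _ _).trans (congrArg (mres _ _) (he x i)))
    have hu : u.val.app (op V) z = 0 := by
      refine (map_sum (u.val.app (op V)).hom _ _).trans (Finset.sum_eq_zero fun i _ => ?_)
      refine (map_smul (u.val.app (op V)).hom (c i) _).trans ((congrArg (c i • ·) ?_).trans (smul_zero _))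
      refine (mapp_res _ u _ (e x i)).trans ((congrArg (mres _ _) ?_).trans (mres_zero _))
      refine sub_eq_zero.mpr ?_
      refine Eq.trans ?_ (congrArg (fun y => σ.val.app (op (U x)) y) (he x i)).symm
      refine Eq.trans ?_ (hσ x (U x) le_rfl (t x i)).symm
      exact (app_congr hq₂ (U x) (e x i)).symm.trans
        (congrArg (fun y => q₂.val.app (op (U x)) y) (ha₁ x i).symm)
    obtain ⟨k, hk⟩ := exists_kernel_lift (O := 𝔛.Osh h𝔛.1) u V z hu
    exact ⟨⟨⟩, V, eV.trans inf_le_left, hyV, k, (congrArg (fun y => S.g.val.app (op V) y) hk).trans hz⟩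
  refine ⟨Limits.kernel u, kernel.ι u, ?_, hsurj⟩
  let Dj := p.diag.obj j₂
  let iA : Dj ⟶ Limits.kernel u := kernel.lift u (p.ι.app j₂ ≫ S.f) (by
    rw [Category.assoc, hfu]
    have h := cokernel.condition (p.cocone.ι.app j₂ ≫ 𝟙 p.cocone.pt ≫ S.f)
    simp only [Category.assoc, Category.id_comp] at h
    exact h)
  haveI := hm j₂
  haveI : Mono iA := by
    haveI : Mono (iA ≫ kernel.ι u) := by rw [kernel.lift_ι]; exact mono_comp _ _
    exact mono_of_mono _ (kernel.ι u)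
  haveI : Epi (kernel.ι u ≫ S.g) := Preadditive.epi_of_cancel_zero _ fun {Z} k hk => hom_ext_app fun W s => by
    refine eq_of_locally (O := 𝔛.Osh h𝔛.1) Z fun y hy => ?_
    obtain ⟨_, V, eV, hyV, w, hw⟩ := hsurj W s y hy
    refine ⟨V, eV, hyV, ?_⟩
    refine (mapp_res _ k eV s).symm.trans ((congrArg (fun y => k.val.app (op V) y) hw.symm).trans ?_)
    exact (app_congr hk V w).trans (mres_zero eV).symm
  let T : ShortComplex (FSch.ModF 𝔛 h𝔛.1) := ShortComplex.mk iA (kernel.ι u ≫ S.g) (by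
    rw [← Category.assoc, kernel.lift_ι, Category.assoc, S.zero, comp_zero])
  let ψ : Dj ⟶ S.X₂ := p.cocone.ι.app j₂ ≫ 𝟙 p.cocone.pt ≫ S.f
  have hψ : ψ = p.ι.app j₂ ≫ S.f := congrArg (p.ι.app j₂ ≫ ·) (Category.id_comp _)
  haveI : Mono ψ := by rw [hψ]; exact mono_comp _ _
  have hT : T.ShortExact :=
    { exact := T.exact_of_f_is_kernel (KernelFork.IsLimit.ofι' iA T.zero fun {Z} r hr => by
        have h0 : (r ≫ kernel.ι u) ≫ cokernel.π ψ = 0 := by
          obtain ⟨l, hl⟩ := KernelFork.IsLimit.lift' hS.fIsKernel (r ≫ kernel.ι u)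
            ((Category.assoc _ _ _).trans hr)
          have hl' : l ≫ S.f = r ≫ kernel.ι u := hl
          rw [← hl', Category.assoc]
          show l ≫ S.f ≫ pj j₂ = 0
          rw [← hfu, ← Category.assoc, hl', Category.assoc, kernel.condition, comp_zero]
        refine ⟨Abelian.monoLift ψ (r ≫ kernel.ι u) h0, (cancel_mono (kernel.ι u)).mp ?_⟩
        rw [Category.assoc, kernel.lift_ι, ← hψ, Abelian.monoLift_comp]) }
  exact isCohF_extension h𝔛 T hT (hp j₂) h₃


/-- Kernels through a short exact sequence. -/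
theorem exists_kernelIso {A : Type*} [Category A] [Abelian A] (S : ShortComplex A) (hS : S.ShortExact) {B : A}
    (θ : B ⟶ S.X₂) : ∃ η : kernel (θ ≫ S.g) ⟶ S.X₁, Nonempty (kernel η ≅ kernel θ) := by
  haveI := hS.mono_f
  obtain ⟨η, hη⟩ := KernelFork.IsLimit.lift' hS.fIsKernel (kernel.ι (θ ≫ S.g) ≫ θ)
    ((Category.assoc _ _ _).trans (kernel.condition _))
  have hη' : η ≫ S.f = kernel.ι (θ ≫ S.g) ≫ θ := hη
  refine ⟨η, ⟨
    { hom := kernel.lift θ (kernel.ι η ≫ kernel.ι (θ ≫ S.g)) (by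
        rw [Category.assoc, ← hη', kernel.condition_assoc, zero_comp])
      inv := kernel.lift η (kernel.lift (θ ≫ S.g) (kernel.ι θ) (by rw [kernel.condition_assoc, zero_comp])) (by
        rw [← cancel_mono S.f, Category.assoc, hη', kernel.lift_ι_assoc, kernel.condition, zero_comp])
      hom_inv_id := by
        rw [← cancel_mono (kernel.ι η), Category.assoc, kernel.lift_ι, ← cancel_mono (kernel.ι (θ ≫ S.g))]
        simp only [Category.assoc, kernel.lift_ι, Category.id_comp]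
      inv_hom_id := by
        rw [← cancel_mono (kernel.ι θ)]
        simp only [Category.assoc, kernel.lift_ι, Category.id_comp, kernel.lift_ι_assoc] }⟩⟩

/-- Maps from coherent modules into an extension of good modules have coherent kernels. -/
theorem isCohF_kernel_of_ses (S : ShortComplex (FSch.ModF 𝔛 h𝔛.1)) (hS : S.ShortExact)
    (h₁ : Gd h𝔛 S.X₁) (h₃ : Gd h𝔛 S.X₃) {B : FSch.ModF 𝔛 h𝔛.1} (hB : FSch.IsCohF 𝔛 h𝔛.1 B) (θ : B ⟶ S.X₂) :
    FSch.IsCohF 𝔛 h𝔛.1 (kernel θ) := by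
  obtain ⟨η, ⟨e⟩⟩ := exists_kernelIso S hS θ
  exact isCohF_of_iso h𝔛 e (h₁.kernel h𝔛 (h₃.kernel h𝔛 hB (θ ≫ S.g)) η)

set_option maxHeartbeats 1000000 in
/-- Extensions of ind-coherent modules on a Noetherian formal scheme are ind-coherent. -/
theorem Gd.extension [CompactSpace (𝔛.X 0)] (S : ShortComplex (FSch.ModF 𝔛 h𝔛.1)) (hS : S.ShortExact)
    (h₁ : Gd h𝔛 S.X₁) (h₃ : Gd h𝔛 S.X₃) : Gd h𝔛 S.X₂ := by
  haveI := hS.mono_f
  haveI := hS.epi_g
  obtain ⟨I, _, _, p, hp, hm⟩ := h₃.exists_presentation h𝔛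
  obtain ⟨J, _, _, r, hr, hm'⟩ := h₁.exists_presentation h𝔛
  have hsp := locSurj_of_isColimit h𝔛 p.cocone p.isColimit
  have hsr := locSurj_of_isColimit h𝔛 r.cocone r.isColimit
  have hB : ∀ i, ∃ (B : FSch.ModF 𝔛 h𝔛.1) (b : B ⟶ S.X₂) (c : B ⟶ p.diag.obj i), FSch.IsCohF 𝔛 h𝔛.1 B ∧
      b ≫ S.g = c ≫ p.ι.app i ∧ LocSurj (O := 𝔛.Osh h𝔛.1) fun _ : PUnit.{u+1} => c := by
    intro i
    haveI := hm i
    let T : ShortComplex (FSch.ModF 𝔛 h𝔛.1) := ShortComplex.mk
      (pullback.lift S.f 0 (by rw [S.zero, zero_comp]) : S.X₁ ⟶ pullback S.g (p.ι.app i))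
      (pullback.snd S.g (p.ι.app i)) (pullback.lift_snd _ _ _)
    have hT : T.ShortExact :=
      { mono_f := mono_of_mono_fac (pullback.lift_fst (f := S.g) (g := p.ι.app i) S.f 0 (by rw [S.zero, zero_comp]))
        epi_g := inferInstanceAs (Epi (pullback.snd S.g (p.ι.app i)))
        exact := by
          haveI : Mono T.f := mono_of_mono_fac (pullback.lift_fst (f := S.g) (g := p.ι.app i) S.f 0 (by rw [S.zero, zero_comp]))
          refine T.exact_of_f_is_kernel (KernelFork.IsLimit.ofι' T.f T.zero fun {Z} z hz => ?_)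
          have h0 : (z ≫ pullback.fst S.g (p.ι.app i)) ≫ S.g = 0 := by
            rw [Category.assoc, pullback.condition, ← Category.assoc]
            exact (congrArg (· ≫ p.ι.app i) hz).trans zero_comp
          obtain ⟨l, hl⟩ := KernelFork.IsLimit.lift' hS.fIsKernel (z ≫ pullback.fst S.g (p.ι.app i)) h0
          refine ⟨l, pullback.hom_ext ?_ ?_⟩
          · rw [Category.assoc, pullback.lift_fst]; exact hl
          · rw [Category.assoc, pullback.lift_snd, comp_zero]; exact hz.symm }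
    obtain ⟨B, b, hB, hb⟩ := exists_coh_lift h𝔛 T hT h₁ (hp i)
    exact ⟨B, b ≫ pullback.fst S.g (p.ι.app i), b ≫ pullback.snd S.g (p.ι.app i), hB,
      by rw [Category.assoc, Category.assoc, pullback.condition], hb⟩
  choose B b cB hBc hbc hbs using hB
  let C : I ⊕ J → FSch.ModF 𝔛 h𝔛.1 := Sum.elim B r.diag.obj
  let f : ∀ a, C a ⟶ S.X₂ := fun a => match a with
    | .inl i => b i
    | .inr j => r.ι.app j ≫ S.f
  have hC : ∀ a, FSch.IsCohF 𝔛 h𝔛.1 (C a) := fun a => match a with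
    | .inl i => hBc i
    | .inr j => hr j
  refine Gd.of_lists h𝔛 f hC (fun U s x hx => ?_) (fun L => ?_)
  · obtain ⟨i, V, e, hxV, c, hc⟩ := hsp U (S.g.val.app (op U) s) x hx
    obtain ⟨_, V₁, e₁, hxV₁, w, hw⟩ := hbs i V c x hxV
    let d : FSect h𝔛 S.X₂ V₁ := mres _ (e₁.trans e) s - (b i).val.app (op V₁) w
    have hd : S.g.val.app (op V₁) d = 0 := by
      refine (map_sub (S.g.val.app (op V₁)).hom _ _).trans (sub_eq_zero.mpr ?_)
      refine (mapp_res _ S.g _ s).trans (Eq.trans ?_ (app_congr (hbc i) V₁ w).symm)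
      refine Eq.trans ?_ (congrArg (fun y => (p.ι.app i).val.app (op V₁) y) hw).symm
      refine Eq.trans ?_ (mapp_res _ (p.ι.app i) e₁ c).symm
      exact ((congrArg (mres _ e₁) hc).trans (mres_mres _ _ _ _)).symm
    obtain ⟨a, ha⟩ := exists_local_preimage (O := 𝔛.Osh h𝔛.1) S hS d hd
    obtain ⟨j, V₂, e₂, hxV₂, v, hv⟩ := hsr V₁ a x hxV₁
    obtain ⟨g₁, hg₁⟩ := exists_mem_factor h𝔛 f (L := [Sum.inl i, Sum.inr j]) List.mem_cons_self
    obtain ⟨g₂, hg₂⟩ := exists_mem_factor h𝔛 f (L := [Sum.inl i, Sum.inr j])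
      (List.mem_cons_of_mem _ List.mem_cons_self)
    refine ⟨[Sum.inl i, Sum.inr j], V₂, e₂.trans (e₁.trans e), hxV₂,
      g₁.val.app (op V₂) (mres _ e₂ w) + g₂.val.app (op V₂) v, ?_⟩
    refine (map_add ((lmap h𝔛 f _).val.app (op V₂)).hom _ _).trans ?_
    refine (congrArg₂ (· + ·) ((app_congr hg₁ V₂ _).trans (mapp_res _ (b i) e₂ w))
      ((app_congr hg₂ V₂ v).trans ((congrArg (fun y => S.f.val.app (op V₂) y) hv).trans
        ((mapp_res _ S.f e₂ a).trans (congrArg (mres _ e₂) ha))))).trans ?_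
    rw [← mres_add, ← mres_mres _ (e₁.trans e) e₂ s]
    exact congrArg (mres _ e₂) (add_sub_cancel _ _)
  · exact isCohF_kernel_of_ses h𝔛 S hS h₁ h₃ (isCohF_lobj h𝔛 hC L) (lmap h𝔛 f L)

/-- Exactness passes through an epimorphism before and a monomorphism after. -/
theorem exact_sandwich {A : Type*} [Category A] [Abelian A] {P Q R P' R' : A} {v : P ⟶ Q} {w : Q ⟶ R} {hvw : v ≫ w = 0}
    (h : (ShortComplex.mk v w hvw).Exact) (p : P ⟶ P') [Epi p] (v' : P' ⟶ Q) (hv : p ≫ v' = v) (w' : Q ⟶ R')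
    (i : R' ⟶ R) [Mono i] (hw : w' ≫ i = w) (h0 : v' ≫ w' = 0) : (ShortComplex.mk v' w' h0).Exact := by
  have h₁ : (ShortComplex.mk v' w (by rw [← hw, ← Category.assoc, h0, zero_comp])).Exact :=
    (ShortComplex.exact_iff_of_epi_of_isIso_of_mono
      ({ τ₁ := p, τ₂ := 𝟙 _, τ₃ := 𝟙 _, comm₁₂ := by simp [hv] } : ShortComplex.mk v w hvw ⟶ ShortComplex.mk v' w _)).mp h
  exact (ShortComplex.exact_iff_of_epi_of_isIso_of_mono
    ({ τ₁ := 𝟙 _, τ₂ := 𝟙 _, τ₃ := i, comm₂₃ := by simp [hw] } : ShortComplex.mk v' w' h0 ⟶ ShortComplex.mk v' w _)).mpr h₁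

end Groth.Agent.IndCoh
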