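import Groth.Agent.IndCoh.QCoh
import Groth.Agent.IndCoh.Closed

/-!
# Ind-coherent modules are quasi-coherent
-/

set_option autoImplicit false
set_option backward.isDefEq.respectTransparency false
set_option backward.isDefEq.respectTransparency.types false
set_option linter.style.haveILetI false

universe u

open CategoryTheory CategoryTheory.Limits AlgebraicGeometry TopologicalSpace Opposite

noncomputable section

namespace Groth.Agent.IndCoh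

open Groth.Agent.FModLib

variable {𝔛 : FSch.Sys.{u}} (h𝔛 : 𝔛.IsLocNoethFormal)

set_option maxHeartbeats 1000000 in
/-- Relations of finitely many sections coming from a coherent submodule. -/
theorem exists_rels {𝔉 ℑ : FSch.ModF 𝔛 h𝔛.1} (i : ℑ ⟶ 𝔉) [Mono i] (hℑ : FSch.IsCohF 𝔛 h𝔛.1 ℑ)
    {U : (𝔛.X 0).Opens} (hU : IsAffineOpen U) {I : Type u} (f : Finset I) (p : I → FSect h𝔛 𝔉 U)
    (b : f → FSect h𝔛 ℑ U) (hb : ∀ k : f, i.val.app (op U) (b k) = p k)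
    (W : (𝔛.X 0).Opens) (hW : W ≤ U) (c : I → Rng h𝔛 W) (hc : ∑ k ∈ f, c k • mres 𝔉 hW (p k) = 0)
    (y : 𝔛.X 0) (hy : y ∈ W) :
    ∃ (V : (𝔛.X 0).Opens) (e : V ≤ W), y ∈ V ∧ ∃ (m : ℕ) (Z : Fin m → I → Rng h𝔛 U) (d : Fin m → Rng h𝔛 V),
      (∀ j, ∑ k ∈ f, Z j k • p k = 0) ∧
      ∀ k ∈ f, ∑ j, d j * ores (𝔛.Osh h𝔛.1) (e.trans hW) (Z j k) = ores (𝔛.Osh h𝔛.1) e (c k) := by
  classical
  let ν : ULift.{u} (Fin (Fintype.card f)) ≃ f := Equiv.ulift.trans (Fintype.equivFin f).symm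
  obtain ⟨q, z, hz0, hz⟩ := rel_restrict h𝔛 hℑ hU (fun l => b (ν l))
  obtain ⟨r, hyr, hr⟩ := exists_basic h𝔛.1 hU (W := W) y (hW hy) hy
  obtain ⟨d, hd⟩ := hz r (fun l => ores (𝔛.Osh h𝔛.1) hr (c (ν l))) (by
    refine sect_injective_of_mono (O := 𝔛.Osh h𝔛.1) i _ ?_
    rw [mapp_sum_smul, map_zero]
    simp only [mapp_res, hb]
    have h1 := congrArg (mres 𝔉 hr) hc
    rw [mres_finset_sum_smul, mres_zero] at h1
    simp only [mres_mres] at h1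
    rw [← Finset.sum_coe_sort f] at h1
    exact (Equiv.sum_comp ν (fun k : f => ores (𝔛.Osh h𝔛.1) hr (c k) • mres 𝔉 (hr.trans hW) (p k))).trans h1)
  refine ⟨_, hr, hyr, q, fun j k => if hk : k ∈ f then z ⟨j⟩ (ν.symm ⟨k, hk⟩) else 0, fun j => d ⟨j⟩,
    fun j => ?_, fun k hk => ?_⟩
  · rw [← Finset.sum_coe_sort f]
    simp only [Finset.coe_mem, dite_true, Subtype.coe_eta]
    rw [← Equiv.sum_comp ν]
    simp only [Equiv.symm_apply_apply, ← hb]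
    refine (mapp_sum_smul ℑ i (z ⟨j⟩) (fun l => b (ν l))).symm.trans ?_
    rw [hz0 ⟨j⟩]
    exact map_zero _
  · simp only [hk, dite_true]
    have h1 := hd (ν.symm ⟨k, hk⟩)
    rw [← Equiv.sum_comp Equiv.ulift.symm] at h1
    simp only [Equiv.apply_symm_apply] at h1
    exact h1

set_option maxHeartbeats 1000000 in
/-- Generators with locally generated relations over an affine open. -/
theorem Gd.exists_gens_rels {𝔉 : FSch.ModF 𝔛 h𝔛.1} (h𝔉 : Gd h𝔛 𝔉) {U : (𝔛.X 0).Opens} (hU : IsAffineOpen U) :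
    ∃ (I : Type u) (p : I → FSect h𝔛 𝔉 U),
      (∀ (W : (𝔛.X 0).Opens) (hW : W ≤ U) (s : FSect h𝔛 𝔉 W), ∀ y ∈ W, ∃ (V : (𝔛.X 0).Opens) (e : V ≤ W), y ∈ V ∧
        ∃ (f : Finset I) (c : I → Rng h𝔛 V), ∑ i ∈ f, c i • mres 𝔉 (e.trans hW) (p i) = mres 𝔉 e s) ∧
      ∀ (W : (𝔛.X 0).Opens) (hW : W ≤ U) (f : Finset I) (c : I → Rng h𝔛 W),
        ∑ i ∈ f, c i • mres 𝔉 hW (p i) = 0 → ∀ y ∈ W, ∃ (V : (𝔛.X 0).Opens) (e : V ≤ W), y ∈ V ∧
          ∃ (m : ℕ) (Z : Fin m → I → Rng h𝔛 U) (d : Fin m → Rng h𝔛 V),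
            (∀ j, ∑ i ∈ f, Z j i • p i = 0) ∧
            ∀ i ∈ f, ∑ j, d j * ores (𝔛.Osh h𝔛.1) (e.trans hW) (Z j i) = ores (𝔛.Osh h𝔛.1) e (c i) := by
  classical
  obtain ⟨α, _, C, f, hC, hk, hd, hs⟩ := h𝔉
  choose n m t g hP using fun a => affPres h𝔛 (hC a) hU
  let p : (Σ a : α, ULift.{u} (Fin (n a))) → FSect h𝔛 𝔉 U := fun ai => (f ai.1).val.app (op U) (t ai.1 ai.2)
  refine ⟨_, p, fun W hW s y hy => ?_, fun W hW F c hc y hy => ?_⟩
  · obtain ⟨a, V, e, hyV, w, hw⟩ := hs W s y hy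
    obtain ⟨V', e', hyV', cc, hcc⟩ := (hP a).gen V (e.trans hW) w y hyV
    refine ⟨V', e'.trans e, hyV', Finset.univ.map ⟨fun i => (⟨a, i⟩ : Σ a : α, ULift.{u} (Fin (n a))),
      fun i j h => by simpa using h⟩, fun ai => if h : ai.1 = a then cc (h ▸ ai.2) else 0, ?_⟩
    rw [Finset.sum_map]
    simp only [Function.Embedding.coeFn_mk, dite_true, p, ← mapp_res]
    rw [← mapp_sum_smul, hcc, mapp_res, hw, mres_mres]
  · have hbd : ∀ F : Finset (Σ a : α, ULift.{u} (Fin (n a))), ∃ a, ∀ ai ∈ F, ∃ g : C ai.1 ⟶ C a, g ≫ f a = f ai.1 := by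
      intro F
      induction F using Finset.induction with
      | empty => exact ⟨Classical.arbitrary α, fun ai h => absurd h (Finset.notMem_empty ai)⟩
      | insert ai F _ ih =>
        obtain ⟨a, ha⟩ := ih
        obtain ⟨a', ⟨g₁, hg₁⟩, ⟨g₂, hg₂⟩⟩ := hd ai.1 a
        refine ⟨a', fun bj hb => ?_⟩
        rcases Finset.mem_insert.mp hb with rfl | hb
        · exact ⟨g₁, hg₁⟩
        · obtain ⟨g, hg⟩ := ha bj hb
          exact ⟨g ≫ g₂, by rw [Category.assoc, hg₂, hg]⟩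
    obtain ⟨a, ha⟩ := hbd F
    choose g hg using ha
    refine exists_rels h𝔛 (Abelian.factorThruCoimage (f a)) (isCohF_coimage h𝔛 (hC a) (f a) (hk a)) hU F p
      (fun k => (g k.1 k.2 ≫ Abelian.coimage.π (f a)).val.app (op U) (t k.1.1 k.1.2)) (fun k => ?_) W hW c hc y hy
    rw [← comp_app, Category.assoc, Abelian.coimage.fac, hg]

/-- Ind-coherent modules are quasi-coherent. -/
theorem Gd.isQuasicoherent {𝔉 : FSch.ModF 𝔛 h𝔛.1} (h𝔉 : Gd h𝔛 𝔉) :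
    SheafOfModules.IsQuasicoherent.{u} 𝔉 :=
  isQuasicoherent_of_rels (O := 𝔛.Osh h𝔛.1) fun x => by
    obtain ⟨U, hU, hxU, -⟩ := exists_affine_le (𝔛 := 𝔛) (W := ⊤) (x := x) trivial
    obtain ⟨I, p, h⟩ := h𝔉.exists_gens_rels h𝔛 hU
    exact ⟨U, I, p, hxU, h⟩

/-- Cokernels of maps of free modules are ind-coherent. -/
theorem Gd.free (α : Type u) : Gd h𝔛 (SheafOfModules.free α : FSch.ModF 𝔛 h𝔛.1) :=
  Gd.colimit h𝔛 (colimit.cocone (Discrete.functor fun _ : α => FSch.unitF 𝔛 h𝔛.1)) (colimit.isColimit _)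
    fun _ => Gd.of_coh h𝔛 (isCohF_unitF h𝔛)

set_option maxHeartbeats 1000000 in
/-- On an affine formal scheme an ind-coherent module is a cokernel of free modules. -/
theorem Gd.exists_coker_free {𝔉 : FSch.ModF 𝔛 h𝔛.1} (h𝔉 : Gd h𝔛 𝔉) (htop : IsAffineOpen (⊤ : (𝔛.X 0).Opens)) :
    ∃ (α β : Type u) (φ : (SheafOfModules.free α : FSch.ModF 𝔛 h𝔛.1) ⟶ SheafOfModules.free β),
      Nonempty (Limits.cokernel φ ≅ 𝔉) := by
  classical
  obtain ⟨I, p, hgen, hrel⟩ := h𝔉.exists_gens_rels h𝔛 htop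
  obtain ⟨P⟩ := nonempty_presentation (C := (𝔛.X 0).Opens) (O := 𝔛.Osh h𝔛.1) isTerminalTop 𝔉 p
    (fun W s => by
      refine ⟨Sieve.mk (fun V e => ∃ (f : Finset I) (c : I → Rng h𝔛 V),
          ∑ i ∈ f, c i • mres 𝔉 (le_top : V ≤ ⊤) (p i) = mres 𝔉 e.le s)
        (fun {V V' e} ⟨f, c, hc⟩ a => ⟨f, fun i => ores (𝔛.Osh h𝔛.1) a.le (c i), by
          have h := congrArg (mres 𝔉 a.le) hc
          rw [mres_finset_sum_smul, mres_mres] at h
          simp only [mres_mres] at h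
          exact h⟩), fun y hy => ?_, fun V e he => he⟩
      obtain ⟨V, e, hyV, h⟩ := hgen W le_top s y hy
      exact ⟨V, homOfLE e, h, hyV⟩)
    (fun W f c hc => by
      refine ⟨Sieve.mk (fun V e => ∃ (m : ℕ) (Z : Fin m → I → Rng h𝔛 ⊤) (d : Fin m → Rng h𝔛 V),
            (∀ j, ∑ i ∈ f, Z j i • p i = 0) ∧
            ∀ i ∈ f, ∑ j, d j * ores (𝔛.Osh h𝔛.1) (le_top : V ≤ ⊤) (Z j i) = ores (𝔛.Osh h𝔛.1) e.le (c i))
        (fun {V V' e} ⟨m, Z, d, hZ, hd⟩ a => ⟨m, Z, fun j => ores (𝔛.Osh h𝔛.1) a.le (d j), hZ, fun i hi => by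
          have h := congrArg (ores (𝔛.Osh h𝔛.1) a.le) (hd i hi)
          simp only [map_sum, map_mul, ores_ores] at h
          exact h⟩), fun y hy => ?_, fun V e he => he⟩
      obtain ⟨V, e, hyV, h⟩ := hrel W le_top f c hc y hy
      exact ⟨V, homOfLE e, h, hyV⟩)
  exact ⟨_, _, P.relations.π ≫ kernel.ι P.generators.π,
    ⟨(colimit.isColimit _).coconePointUniqueUpToIso P.isColimit⟩⟩

end Groth.Agent.IndCoh
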