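import Groth.Agent.IndCoh.Bound

/-!
# Bound for the hypercohomology of objects with ind-coherent cohomology
-/

set_option autoImplicit false
set_option backward.isDefEq.respectTransparency false
set_option backward.isDefEq.respectTransparency.types false
set_option linter.style.haveILetI false

universe u

open CategoryTheory CategoryTheory.Limits AlgebraicGeometry TopologicalSpace Opposite CategoryTheory.Abelian

attribute [local instance] HasDerivedCategory.standard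

noncomputable section

namespace Groth.Agent.IndCoh

open Groth.Agent.SiteCmpLib

set_option maxHeartbeats 1000000 in
/-- Hypercohomology is bounded above on objects with ind-coherent cohomology. -/
theorem exists_bound_hom_unitF (𝔛 : FSch.Sys.{u}) (h𝔛 : 𝔛.IsLocNoethFormal) [CompactSpace (𝔛.X 0)] :
    ∃ e : ℕ, ∀ (G : DerivedCategory (FSch.ModF 𝔛 h𝔛.1)),
      (∀ i : ℤ, (ObjectProperty.ind.{u} fun 𝔊 : FSch.ModF 𝔛 h𝔛.1 => FSch.IsCohF 𝔛 h𝔛.1 𝔊) (SiteCmp.HMod G i)) →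
      ∀ i₀ : ℤ, (∀ i : ℤ, i₀ ≤ i → IsZero (SiteCmp.HMod G i)) →
        ∀ i : ℤ, i₀ + e ≤ i →
          Subsingleton (SiteCmp.inD (𝔛.Osh h𝔛.1) (FSch.unitF 𝔛 h𝔛.1) ⟶ (shiftFunctor (DerivedCategory (FSch.ModF 𝔛 h𝔛.1)) i).obj G) := by
  haveI := h𝔛.2.2 0
  haveI : IsNoetherian (𝔛.X 0) := {}
  obtain ⟨d, hd⟩ := exists_bound (⊤ : (𝔛.X 0).Opens) (TopologicalSpace.NoetherianSpace.isCompact _)
    (fun U V _ hU _ _ hV _ => TopologicalSpace.NoetherianSpace.isCompact _)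
  let A : ObjectProperty (FSch.ModF 𝔛 h𝔛.1) := fun M => Gd h𝔛 M
  haveI : A.IsClosedUnderIsomorphisms := ⟨fun e h => Gd.of_iso h𝔛 e h⟩
  haveI : A.ContainsZero := ⟨kernel (𝟙 (FSch.unitF 𝔛 h𝔛.1)), isZero_kernel_of_mono _,
    Gd.of_coh h𝔛 (isCohF_zero h𝔛)⟩
  haveI : EnoughInjectives (FSch.ModF 𝔛 h𝔛.1) := IsGrothendieckAbelian.enoughInjectives.{u}
  haveI : HasExt.{u} (FSch.ModF 𝔛 h𝔛.1) := hasExt_of_enoughInjectives _
  let S := (DerivedCategory.singleFunctor (FSch.ModF 𝔛 h𝔛.1) 0).obj (FSch.unitF 𝔛 h𝔛.1)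
  have hM : ∀ M, A M → ∀ k : ℕ, d + 1 < k →
      ∀ φ : S ⟶ ((DerivedCategory.singleFunctor (FSch.ModF 𝔛 h𝔛.1) 0).obj M)⟦(k : ℤ)⟧, φ = 0 := by
    intro M hM k hk φ
    have h1 := hd 1 _ (fun V hV n => subsingleton_HU_ind h𝔛 hV (Gd.ind h𝔛 hM) n) k (by omega)
    rw [(𝔛.X 0).basicOpen_of_isUnit isUnit_one] at h1
    obtain ⟨E⟩ := SiteBase.nonempty_ext_unit_addEquiv (R := ModSite.ringSh (𝔛.Osh h𝔛.1)) M k
    have h2 : Subsingleton (Ext (FSch.unitF 𝔛 h𝔛.1) M k) :=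
      @Equiv.subsingleton _ _ E.toEquiv (QCoh.Ab.subsingleton_H_of_HU_top _ k h1)
    exact (Ext.homEquiv (X := FSch.unitF 𝔛 h𝔛.1) (Y := M)).symm.injective (@Subsingleton.elim _ h2 _ _)
  refine ⟨d + 3, fun G hG i₀ hi₀ i hi => ⟨fun a b => ?_⟩⟩
  have hG' : WSerre.cohIn A G := fun j => Gd.of_ind h𝔛 (hG j)
  have hb : G.IsLE (i₀ - 1) := (DerivedCategory.isLE_iff G (i₀ - 1)).2 fun j hj => hi₀ j (by omega)
  have hL : CohCx.IsRlimVia (CohCx.truncTower G) (CohCx.truncTowerMap G) G (CohCx.toTruncTower G) :=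
    WayOut.isRlimVia_trunc A (ModTest.isTest (𝔛.Osh h𝔛.1)) (covers_affine (𝔛.X 0))
      (fun V hV => ModBounded.cdBound_id (A := A) (B := {U | IsAffineOpen U}) (fun V hV => ⟨0, fun T hT => by
        obtain ⟨ι, Y, y, hy, hcov, hY⟩ := exists_affine_refinement (𝔛.X 0) V T hT
        refine ⟨ι, Y, y, hy, hcov, fun j F hF k hk => ?_⟩
        obtain ⟨q, rfl⟩ := Nat.exists_eq_succ_of_ne_zero hk.ne'
        exact subsingleton_HU_ind h𝔛 (hY j) (Gd.ind h𝔛 hF) q⟩) V hV) G hG'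
  have key : ∀ φ : S ⟶ G⟦i⟧, φ = 0 := by
    intro φ
    let N : ℕ := (d + 1 - i).toNat
    refine Tower.eq_zero_of_conesKilled hL (N := N) (fun n hn => ?_) φ ?_
    · obtain ⟨C, f, h, a, hT, hC, hge, hle⟩ := WayOut.smallCones_trunc A G hG' n (Nat.zero_le n)
      exact ⟨C, f, h, hT, WayOut.hom_eq_zero A (d + 1) hM a _ hge hle hC i (by omega)⟩
    · exact WayOut.hom_eq_zero A (d + 1) hM (-(N : ℤ)) (i₀ - 1)
        (inferInstanceAs ((DerivedCategory.TStructure.t (C := FSch.ModF 𝔛 h𝔛.1)).IsGE _ (-(N : ℤ))))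
        (Bounded.isLE_truncGE G _ _ hb) (WayOut.cohIn_truncGE A hG' _) i (by omega) _
  exact (key a).trans (key b).symm

end Groth.Agent.IndCoh
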