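import Groth.Agent.IndCoh.AffVanish
import Groth.Agent.QcqsColim.Rpush

/-!
# Cohomology over affine opens of ind-coherent modules on formal schemes
-/

set_option autoImplicit false
set_option backward.isDefEq.respectTransparency false
set_option backward.isDefEq.respectTransparency.types false
set_option linter.style.haveILetI false

universe u

open CategoryTheory CategoryTheory.Limits AlgebraicGeometry TopologicalSpace Opposite Topology Abelian

noncomputable section

namespace Groth.Agent.IndCoh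

open Groth.Agent.FModLib

section top

variable {X : TopCat.{u}}

/-- Maps out of the free sheaf on an open are sections. -/
def secEquiv (U : Opens X) (F : CohTop.Ab X) :
    (CohCx.freeSheaf (Opens.grothendieckTopology X) U ⟶ F) ≃ F.obj.obj (op U) :=
  ((sheafificationAdjunction _ AddCommGrpCat.{u}).homEquiv _ F).trans
    (((AddCommGrpCat.adj.whiskerRight (Opens X)ᵒᵖ).homEquiv (yoneda.obj U) F.obj).trans yonedaEquiv)

theorem secEquiv_comp (U : Opens X) {F G : CohTop.Ab X} (h : CohCx.freeSheaf (Opens.grothendieckTopology X) U ⟶ F)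
    (φ : F ⟶ G) : secEquiv U G (h ≫ φ) = φ.hom.app (op U) (secEquiv U F h) := by
  simp only [secEquiv, Equiv.trans_apply]
  rw [(sheafificationAdjunction _ AddCommGrpCat.{u}).homEquiv_naturality_right]
  erw [(AddCommGrpCat.adj.whiskerRight (Opens X)ᵒᵖ).homEquiv_naturality_right, yonedaEquiv_comp]

theorem secEquiv_add (U : Opens X) {F : CohTop.Ab X} (a b : CohCx.freeSheaf (Opens.grothendieckTopology X) U ⟶ F) :
    secEquiv U F (a + b) = secEquiv U F a + secEquiv U F b := by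
  have h1 := secEquiv_comp U (biprod.lift a b) (biprod.desc (𝟙 F) (𝟙 F))
  have h2 := secEquiv_comp U (biprod.lift a b) (biprod.fst + biprod.snd : F ⊞ F ⟶ F)
  have e : biprod.desc (𝟙 F) (𝟙 F) = (biprod.fst + biprod.snd : F ⊞ F ⟶ F) := by
    refine biprod.hom_ext' _ _ ?_ ?_ <;> simp
  rw [biprod.lift_desc, Category.comp_id, Category.comp_id, e] at h1
  have ha := secEquiv_comp U (biprod.lift a b) (biprod.fst : F ⊞ F ⟶ F)
  have hb := secEquiv_comp U (biprod.lift a b) (biprod.snd : F ⊞ F ⟶ F)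
  rw [biprod.lift_fst] at ha
  rw [biprod.lift_snd] at hb
  rw [h1, ha, hb]
  rfl

/-- Surjectivity on sections from vanishing of the first cohomology. -/
theorem surjective_of_subsingleton_HU {S : ShortComplex (CohTop.Ab X)} (hS : S.ShortExact) (U : Opens X)
    (h : Subsingleton (CohTop.HU S.X₁ 1 U)) : Function.Surjective (S.g.hom.app (op U)) := by
  intro s
  obtain ⟨x, hx⟩ := Ext.covariant_sequence_exact₃ _ hS (Ext.mk₀ ((secEquiv U S.X₃).symm s)) (n₁ := 1) (zero_add 1)
    (@Subsingleton.elim _ h _ _)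
  obtain ⟨h', rfl⟩ := (Ext.mk₀_bijective _ _).surjective x
  rw [Ext.mk₀_comp_mk₀] at hx
  refine ⟨secEquiv U S.X₂ h', ?_⟩
  rw [← secEquiv_comp, (Ext.mk₀_bijective _ _).injective hx, Equiv.apply_symm_apply]

/-- Vanishing passes to cokernels of maps into acyclic sheaves. -/
theorem subsingleton_HU_X₃ {S : ShortComplex (CohTop.Ab X)} (hS : S.ShortExact) (U : Opens X) (p : ℕ)
    (h1 : Subsingleton (CohTop.HU S.X₁ (p + 1 + 1) U)) (h2 : Subsingleton (CohTop.HU S.X₂ (p + 1) U)) :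
    Subsingleton (CohTop.HU S.X₃ (p + 1) U) := by
  refine ⟨fun a b => ?_⟩
  have key : ∀ a : CohTop.HU S.X₃ (p + 1) U, a = 0 := fun a => by
    obtain ⟨x, hx⟩ := Ext.covariant_sequence_exact₃ _ hS a (n₁ := p + 1 + 1) rfl (@Subsingleton.elim _ h1 _ _)
    rw [← hx, @Subsingleton.elim _ h2 x 0]
    exact Ext.zero_comp _ _ _ _ _
  rw [key a, key b]

variable [HasDerivedCategory.{u} (CohTop.Ab X)]

theorem hom_map_HU {F G : CohTop.Ab X} (f : F ⟶ G) (n : ℕ) (S : CohTop.Ab X) (x : Ext S F n) :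
    Ext.homAddEquiv (x.comp (Ext.mk₀ f) (add_zero n)) =
      (Ext.homAddEquiv x ≫ ((DerivedCategory.singleFunctor (CohTop.Ab X) 0).map f)⟦(n : ℤ)⟧' :
        (DerivedCategory.singleFunctor (CohTop.Ab X) 0).obj S ⟶
          ((DerivedCategory.singleFunctor (CohTop.Ab X) 0).obj G)⟦(n : ℤ)⟧) := by
  rw [Ext.homAddEquiv_apply, Ext.comp_hom, Ext.mk₀_hom]
  exact ShiftedHom.comp_mk₀ _ _ _ _

/-- The cohomology over an open of a limit vanishes if it does on the terms without `lim¹` below. -/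
theorem subsingleton_HU_lim (F : ℕ → CohTop.Ab X) (t : ∀ n, F (n + 1) ⟶ F n) (B : Set (Opens X)) (hB : Opens.IsBasis B)
    (h1 : ∀ U ∈ B, ∀ (p n : ℕ), Subsingleton (CohTop.HU (F n) (p + 1) U))
    (h2 : ∀ U ∈ B, CohCx.LimOneIsZero (fun n => (F n).obj.obj (op U))
      (fun n => ((t n).hom.app (op U)).hom))
    {U : Opens X} (hU : U ∈ B) (p : ℕ) : Subsingleton (CohTop.HU (limit (CohCx.opSequence F t)) (p + 1) U) := by
  let Φ := DerivedCategory.singleFunctor (CohTop.Ab X) 0
  let S : CohTop.Ab X := CohCx.freeSheaf (Opens.grothendieckTopology X) U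
  haveI : HasProduct fun n => Φ.obj (F n) := DLim.hasProduct_nat _
  obtain ⟨⟨a₀, c, hT⟩, -⟩ := DLim.isRlim_single F t (DLim.isCoveredBy_of_isBasis hB) h1 h2
  let a : ∀ n, Φ.obj (limit (CohCx.opSequence F t)) ⟶ Φ.obj (F n) := fun n => a₀ ≫ Pi.π _ n
  have hL : CohCx.IsRlimVia (fun n => Φ.obj (F n)) (fun n => Φ.map (t n)) (Φ.obj (limit (CohCx.opSequence F t))) a := by
    refine ⟨c, ?_⟩
    rw [show Pi.lift a = a₀ from Pi.hom_ext _ _ fun n => Pi.lift_π _ _]
    exact hT
  have hML : ∀ b : ∀ k, Ext S (F k) p, ∃ w : ∀ k, Ext S (F k) p,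
      ∀ k, w k - (w (k + 1)).comp (Ext.mk₀ (t k)) (add_zero p) = b k := by
    intro b
    rcases p with _ | q
    · obtain ⟨w, hw⟩ := h2 U hU fun k => secEquiv U (F k) ((Ext.mk₀_bijective _ _).surjective (b k)).choose
      refine ⟨fun k => Ext.mk₀ ((secEquiv U (F k)).symm (w k)), fun k => ?_⟩
      rw [Ext.mk₀_comp_mk₀, ← ((Ext.mk₀_bijective _ _).surjective (b k)).choose_spec, sub_eq_iff_eq_add,
        ← Ext.mk₀_add]
      refine congrArg Ext.mk₀ ((secEquiv U (F k)).injective ?_)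
      rw [Equiv.apply_symm_apply]
      refine Eq.trans ?_ (secEquiv_add U _ _).symm
      rw [secEquiv_comp, Equiv.apply_symm_apply]
      exact sub_eq_iff_eq_add.mp (congrFun hw k)
    · exact ⟨fun _ => 0, fun k => @Subsingleton.elim _ (h1 U hU q k) _ _⟩
  obtain ⟨φ, hφ, -⟩ := exists_lim_hom hL ((p + 1 : ℕ) : ℤ) (Φ.obj S) (fun k => Ext S (F k) (p + 1))
    (fun k => AddMonoidHom.mk' (fun z => z.comp (Ext.mk₀ (t k)) (add_zero (p + 1))) fun _ _ => Ext.add_comp _ _ _ _)
    (fun k => Ext.homAddEquiv) (fun k z => hom_map_HU (t k) (p + 1) S z) (fun b => by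
      have hb : ∀ m : ℤ, m = p → ∀ b : ∀ k, Φ.obj S ⟶ (Φ.obj (F k))⟦m⟧,
          ∃ w : ∀ k, Φ.obj S ⟶ (Φ.obj (F k))⟦m⟧, ∀ k, w k - w (k + 1) ≫ (Φ.map (t k))⟦m⟧' = b k := by
        rintro m rfl b
        obtain ⟨w, hw⟩ := hML fun k => Ext.homAddEquiv.symm (b k)
        refine ⟨fun k => Ext.homAddEquiv (w k), fun k => ?_⟩
        have h := congrArg Ext.homAddEquiv (hw k)
        rw [map_sub, hom_map_HU, AddEquiv.apply_symm_apply] at h
        exact h
      exact hb _ (by simp) b) Ext.homAddEquiv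
  exact ⟨fun x y => hφ (funext fun k => @Subsingleton.elim _ (h1 U hU p k) _ _)⟩

end top

end Groth.Agent.IndCoh
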