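import Mathlib

/-!
# Exactness of a pointwise left Kan extension through finally presented short exact sequences
-/

set_option autoImplicit false
set_option backward.isDefEq.respectTransparency false
set_option backward.isDefEq.respectTransparency.types false

open CategoryTheory CategoryTheory.Limits

universe w v₁ u₁ v₂ u₂ v₃ u₃

noncomputable section

namespace Groth.Agent.IndCoh.Kan

variable {C : Type u₁} [Category.{v₁} C] [Preadditive C] {D : Type u₂} [Category.{v₂} D] [Preadditive D]
  {A : Type u₃} [Category.{v₃} A] [Abelian A] (L : C ⥤ D) (G : C ⥤ A) [L.HasPointwiseLeftKanExtension G]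

omit [Preadditive C] [Preadditive D] in
theorem ι_map {X Y : D} (f : X ⟶ Y) (g : CostructuredArrow L X) :
    colimit.ι (CostructuredArrow.proj L X ⋙ G) g ≫ (L.pointwiseLeftKanExtension G).map f =
      colimit.ι (CostructuredArrow.proj L Y ⋙ G) ((CostructuredArrow.map f).obj g) :=
  colimit.ι_desc _ g

omit [Preadditive C] [Preadditive D] in
/-- Two names of the same generalized element. -/
theorem ι_eq_of_fac {Y : D} (g k : CostructuredArrow L Y) (l : g.left ⟶ k.left) (hl : L.map l ≫ k.hom = g.hom) :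
    colimit.ι (CostructuredArrow.proj L Y ⋙ G) g = G.map l ≫ colimit.ι (CostructuredArrow.proj L Y ⋙ G) k :=
  (colimit.w (CostructuredArrow.proj L Y ⋙ G) (CostructuredArrow.homMk l hl : g ⟶ k)).symm

/-- Additivity: it suffices that finitely many elements share a stage. -/
theorem additive [L.Additive] [G.Additive]
    (h : ∀ {Y : D} (B : C) (a b : L.obj B ⟶ Y), ∃ (k : CostructuredArrow L Y) (la lb : B ⟶ k.left),
      L.map la ≫ k.hom = a ∧ L.map lb ≫ k.hom = b) :
    (L.pointwiseLeftKanExtension G).Additive := by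
  refine ⟨fun {X Y f₁ f₂} => colimit.hom_ext fun g => ?_⟩
  obtain ⟨k, la, lb, ha, hb⟩ := h g.left (g.hom ≫ f₁) (g.hom ≫ f₂)
  rw [Preadditive.comp_add, ι_map, ι_map, ι_map, ι_eq_of_fac L G ((CostructuredArrow.map f₁).obj g) k la ha,
    ι_eq_of_fac L G ((CostructuredArrow.map f₂).obj g) k lb hb,
    ι_eq_of_fac L G ((CostructuredArrow.map (f₁ + f₂)).obj g) k (la + lb) (by
      rw [L.map_add, Preadditive.add_comp, ha, hb]
      exact (Preadditive.comp_add _ _ _ _ _ _).symm), G.map_add, Preadditive.add_comp]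

variable {J : Type w} [SmallCategory J] [IsFiltered J] [HasColimitsOfShape J A] [HasExactColimitsOfShape J A]

set_option maxHeartbeats 1000000 in
/-- Short exactness of the extension along final short exact presentations. -/
theorem shortExact_map [(L.pointwiseLeftKanExtension G).Additive] (S : ShortComplex D)
    (F₁ : J ⥤ CostructuredArrow L S.X₁) (F₂ : J ⥤ CostructuredArrow L S.X₂) (F₃ : J ⥤ CostructuredArrow L S.X₃)
    [F₁.Final] [F₂.Final] [F₃.Final]
    (α : F₁ ⋙ CostructuredArrow.proj L S.X₁ ⟶ F₂ ⋙ CostructuredArrow.proj L S.X₂)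
    (β : F₂ ⋙ CostructuredArrow.proj L S.X₂ ⟶ F₃ ⋙ CostructuredArrow.proj L S.X₃)
    (hα : ∀ j, L.map (α.app j) ≫ (F₂.obj j).hom = (F₁.obj j).hom ≫ S.f)
    (hβ : ∀ j, L.map (β.app j) ≫ (F₃.obj j).hom = (F₂.obj j).hom ≫ S.g)
    (hG : ∀ j, ∃ w : G.map (α.app j) ≫ G.map (β.app j) = 0,
      (ShortComplex.mk (G.map (α.app j)) (G.map (β.app j)) w).ShortExact) :
    (S.map (L.pointwiseLeftKanExtension G)).ShortExact := by
  choose w hw using hG
  let T : ShortComplex (J ⥤ A) :=
    ShortComplex.mk (Functor.whiskerRight α G) (Functor.whiskerRight β G) (NatTrans.ext (funext w))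
  have hT : T.ShortExact := by
    haveI : ∀ j, Mono (T.f.app j) := fun j => (hw j).mono_f
    haveI : ∀ j, Epi (T.g.app j) := fun j => (hw j).epi_g
    haveI : Mono T.f := NatTrans.mono_of_mono_app _
    haveI : Epi T.g := NatTrans.epi_of_epi_app _
    refine { exact := T.exact_of_f_is_kernel (evaluationJointlyReflectsLimits _ fun j => ?_) }
    exact (isLimitMapConeForkEquiv' ((evaluation J A).obj j) _).symm (hw j).fIsKernel
  haveI : PreservesFiniteLimits (colim (J := J) (C := A)) := HasExactColimitsOfShape.preservesFiniteLimits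
  have hc := hT.map_of_exact (colim (J := J) (C := A))
  let e : ∀ {X : D} (F : J ⥤ CostructuredArrow L X) [F.Final],
      colimit ((F ⋙ CostructuredArrow.proj L X) ⋙ G) ≅ colimit (CostructuredArrow.proj L X ⋙ G) :=
    fun {X} F _ => Functor.Final.colimitIso F (CostructuredArrow.proj L X ⋙ G)
  have key : ∀ {X Y : D} (F : J ⥤ CostructuredArrow L X) (F' : J ⥤ CostructuredArrow L Y) [F.Final] [F'.Final]
      (f : X ⟶ Y) (a : F ⋙ CostructuredArrow.proj L X ⟶ F' ⋙ CostructuredArrow.proj L Y),
      (∀ j, L.map (a.app j) ≫ (F'.obj j).hom = (F.obj j).hom ≫ f) → ∀ j,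
      colimit.ι ((F ⋙ CostructuredArrow.proj L X) ⋙ G) j ≫ (e F).hom ≫ (L.pointwiseLeftKanExtension G).map f =
        colimit.ι ((F ⋙ CostructuredArrow.proj L X) ⋙ G) j ≫ colimMap (Functor.whiskerRight a G) ≫ (e F').hom := by
    intro X Y F F' _ _ f a ha j
    have h₁ : colimit.ι ((F ⋙ CostructuredArrow.proj L X) ⋙ G) j ≫ (e F).hom =
        colimit.ι (CostructuredArrow.proj L X ⋙ G) (F.obj j) :=
      Functor.Final.ι_colimitIso_hom F (CostructuredArrow.proj L X ⋙ G) j
    have h₂ : colimit.ι ((F' ⋙ CostructuredArrow.proj L Y) ⋙ G) j ≫ (e F').hom =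
        colimit.ι (CostructuredArrow.proj L Y ⋙ G) (F'.obj j) :=
      Functor.Final.ι_colimitIso_hom F' (CostructuredArrow.proj L Y ⋙ G) j
    refine ((Category.assoc _ _ _).symm.trans (congrArg (· ≫ (L.pointwiseLeftKanExtension G).map f) h₁)).trans ((ι_map L G f (F.obj j)).trans ?_)
    refine (ι_eq_of_fac L G _ (F'.obj j) (a.app j) (ha j)).trans ?_
    exact ((congrArg (G.map (a.app j) ≫ ·) h₂).symm.trans (Category.assoc _ _ _).symm).trans
      ((congrArg (· ≫ (e F').hom) (ι_colimMap (Functor.whiskerRight a G) j)).symm.trans (Category.assoc _ _ _))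
  refine ShortComplex.shortExact_of_iso (ShortComplex.isoMk (e F₁) (e F₂) (e F₃) ?_ ?_) hc
  · refine colimit.hom_ext fun j => ?_
    exact key F₁ F₂ S.f α hα j
  · refine colimit.hom_ext fun j => ?_
    exact key F₂ F₃ S.g β hβ j

end Groth.Agent.IndCoh.Kan
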