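import Groth.Agent.FModLib.Abel2
import Groth.Agent.SiteBase.ModColim
import Mathlib.Topology.Sheaves.Stalks
import Mathlib.Topology.Sheaves.Abelian
import Mathlib.CategoryTheory.Limits.ConcreteCategory.Filtered

/-!
# Sections of filtered colimits of modules on a space, locally
-/

set_option autoImplicit false
set_option backward.isDefEq.respectTransparency false
set_option backward.isDefEq.respectTransparency.types false
set_option linter.style.haveILetI false

universe u

open CategoryTheory CategoryTheory.Limits TopologicalSpace Opposite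

noncomputable section

namespace Groth.Agent.IndCoh

open Groth.Agent.FModLib

variable {X : TopCat.{u}} {O : TopCat.Sheaf CommRingCat.{u} X}

/-- The stalk of the underlying abelian sheaf. -/
def stk (x : X) : ModSite.Mod O ⥤ AddCommGrpCat.{u} :=
  SheafOfModules.toSheaf (ModSite.ringSh O) ⋙
    (TopCat.Sheaf.forget AddCommGrpCat.{u} X ⋙ TopCat.Presheaf.stalkFunctor AddCommGrpCat.{u} x)

instance preservesColimitsOfShape_stk (x : X) (K : Type u) [SmallCategory K] :
    PreservesColimitsOfShape K (stk (O := O) x) := by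
  haveI := SiteBase.preservesColimitsOfSize_toSheaf (ModSite.ringSh O)
  haveI : PreservesColimitsOfSize.{u, u} (TopCat.Sheaf.forget AddCommGrpCat.{u} X ⋙
      TopCat.Presheaf.stalkFunctor AddCommGrpCat.{u} x) := inferInstance
  unfold stk
  infer_instance

/-- The germ of a section. -/
def germ (F : ModSite.Mod O) {U : Opens X} (x : X) (hx : x ∈ U) (s : ModSite.sect F U) : (stk x).obj F :=
  TopCat.Presheaf.germ ((SheafOfModules.toSheaf (ModSite.ringSh O)).obj F).obj U x hx s

theorem stk_map_germ {F G : ModSite.Mod O} (φ : F ⟶ G) {U : Opens X} (x : X) (hx : x ∈ U)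
    (s : ModSite.sect F U) : (stk x).map φ (germ F x hx s) = germ G x hx (φ.val.app (op U) s) :=
  TopCat.Presheaf.stalkFunctor_map_germ_apply (F := ((SheafOfModules.toSheaf (ModSite.ringSh O)).obj F).obj)
    (G := ((SheafOfModules.toSheaf (ModSite.ringSh O)).obj G).obj) U x hx
    ((SheafOfModules.toSheaf (ModSite.ringSh O)).map φ).hom s

theorem exists_eq_of_germ {F : ModSite.Mod O} {U V : Opens X} (x : X) (hU : x ∈ U) (hV : x ∈ V)
    (s : ModSite.sect F U) (t : ModSite.sect F V) (h : germ F x hU s = germ F x hV t) :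
    ∃ (W : Opens X) (e : W ≤ U) (e' : W ≤ V), x ∈ W ∧ mres F e s = mres F e' t := by
  obtain ⟨W, hxW, i, i', he⟩ :=
    TopCat.Presheaf.germ_eq ((SheafOfModules.toSheaf (ModSite.ringSh O)).obj F).obj x hU hV s t h
  exact ⟨W, i.le, i'.le, hxW, he⟩

variable {J : Type u} [SmallCategory J] [IsFiltered J] {D : J ⥤ ModSite.Mod O} {c : Cocone D} (hc : IsColimit c)

include hc

/-- Sections of a filtered colimit come locally from a stage. -/
theorem exists_stage {U : Opens X} (s : ModSite.sect c.pt U) (x : X) (hx : x ∈ U) :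
    ∃ (j : J) (V : Opens X) (e : V ≤ U), x ∈ V ∧ ∃ t : ModSite.sect (D.obj j) V,
      (c.ι.app j).val.app (op V) t = mres c.pt e s := by
  obtain ⟨j, z, hz⟩ := Concrete.isColimit_exists_rep _ (isColimitOfPreserves (stk x) hc) (germ c.pt x hx s)
  obtain ⟨V, hxV, t, ht⟩ :=
    TopCat.Presheaf.exists_germ_eq ((SheafOfModules.toSheaf (ModSite.ringSh O)).obj (D.obj j)).obj z
  have h1 : germ c.pt x hxV ((c.ι.app j).val.app (op V) t) = germ c.pt x hx s := by
    refine (stk_map_germ (c.ι.app j) x hxV t).symm.trans (Eq.trans ?_ hz)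
    exact congrArg ((stk x).map (c.ι.app j)) ht
  obtain ⟨W, e, e', hxW, he⟩ := exists_eq_of_germ x hxV hx _ _ h1
  exact ⟨j, W, e', hxW, mres (D.obj j) e t, (mapp_res _ (c.ι.app j) e t).trans he⟩

/-- Sections killed in a filtered colimit die locally at a stage. -/
theorem exists_kill {j : J} {U : Opens X} (t : ModSite.sect (D.obj j) U)
    (ht : (c.ι.app j).val.app (op U) t = 0) (x : X) (hx : x ∈ U) :
    ∃ (k : J) (f : j ⟶ k) (V : Opens X) (e : V ≤ U), x ∈ V ∧
      (D.map f).val.app (op V) (mres (D.obj j) e t) = 0 := by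
  have h0 : ∀ (F : ModSite.Mod O), germ F x hx (0 : ModSite.sect F U) = 0 := fun F =>
    map_zero (TopCat.Presheaf.germ ((SheafOfModules.toSheaf (ModSite.ringSh O)).obj F).obj U x hx).hom
  obtain ⟨k, f, g, h⟩ := (Concrete.isColimit_rep_eq_iff_exists _ (isColimitOfPreserves (stk x) hc)
    (i := j) (j := j) (germ _ x hx t) (0 : (stk x).obj (D.obj j))).1 (by
      show (stk x).map (c.ι.app j) (germ _ x hx t) = (stk x).map (c.ι.app j) 0
      refine (stk_map_germ (c.ι.app j) x hx t).trans ?_
      rw [ht, h0, map_zero])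
  have h' : germ (D.obj k) x hx ((D.map f).val.app (op U) t) = germ (D.obj k) x hx (0 : ModSite.sect _ U) := by
    refine (stk_map_germ (D.map f) x hx t).symm.trans (h.trans ?_)
    rw [h0]
    exact map_zero _
  obtain ⟨W, e, e', hxW, he⟩ := exists_eq_of_germ x hx hx _ _ h'
  refine ⟨k, f, W, e, hxW, ?_⟩
  rw [mapp_res, he, mres_zero]

end Groth.Agent.IndCoh
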