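import Groth.Agent.FModLib.Free
import Groth.Agent.FModLib.QFT
import Groth.Agent.IndCoh.Colim

/-!
# Quasi-coherence from families of generators whose finite relations are locally generated
-/

set_option autoImplicit false
set_option backward.isDefEq.respectTransparency false
set_option backward.isDefEq.respectTransparency.types false
set_option linter.style.haveILetI false

universe u

open CategoryTheory CategoryTheory.Limits TopologicalSpace Opposite

noncomputable section

namespace Groth.Agent.IndCoh

open Groth.Agent.FModLib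

section site

variable {C : Type u} [SmallCategory C] {J : GrothendieckTopology C} {O : Sheaf J CommRingCat.{u}} {T : C}
  (hT : IsTerminal T)

/-- The map out of a free module of any rank given by sections over a terminal object. -/
def homI (G : ModSite.Mod O) {I : Type u} (p : I → ModSite.sect G T) : freeI O I ⟶ G :=
  G.freeHomEquiv.symm fun i => SiteBase.termSection hT G (p i)

theorem homI_bsec (G : ModSite.Mod O) {I : Type u} (p : I → ModSite.sect G T) (W : C) (i : I) :
    (homI hT G p).val.app (op W) (bsec O I W i) = G.val.map (hT.from W).op (p i) :=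
  congrArg (fun s : G.sections => s.val (op W))
    (SheafOfModules.sectionsMap_freeHomEquiv_symm_freeSection (fun i => SiteBase.termSection hT G (p i)) i)

theorem homI_sum (G : ModSite.Mod O) {I : Type u} (p : I → ModSite.sect G T) (W : C) (f : Finset I)
    (c : I → O.obj.obj (op W)) :
    (homI hT G p).val.app (op W) (∑ i ∈ f, c i • bsec O I W i) = ∑ i ∈ f, c i • G.val.map (hT.from W).op (p i) := by
  refine (map_sum ((homI hT G p).val.app (op W)).hom _ _).trans (Finset.sum_congr rfl fun i _ => ?_)
  exact (map_smul ((homI hT G p).val.app (op W)).hom (c i) _).trans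
    (congrArg (fun z : ModSite.sect G W => c i • z) (homI_bsec hT G p W i))

/-- Locally generating sections. -/
def genSections (G : ModSite.Mod O) {I : Type u} (p : I → ModSite.sect G T)
    (hgen : ∀ (W : C) (s : ModSite.sect G W), ∃ S ∈ J W, ∀ ⦃W' : C⦄ (a : W' ⟶ W), S a →
      ∃ (f : Finset I) (c : I → O.obj.obj (op W')),
        ∑ i ∈ f, c i • G.val.map (hT.from W').op (p i) = G.val.map a.op s) : G.GeneratingSections where
  I := I
  s i := SiteBase.termSection hT G (p i)
  epi := by
    refine epi_of_locally (homI hT G p) fun W s => ?_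
    obtain ⟨S, hS, h⟩ := hgen W s
    refine ⟨S, hS, fun W' a ha => ?_⟩
    obtain ⟨f, c, hc⟩ := h a ha
    exact ⟨∑ i ∈ f, c i • bsec O I W' i, (homI_sum hT G p W' f c).trans hc⟩

/-- A presentation of arbitrary rank from generators with locally generated relations. -/
theorem nonempty_presentation (G : ModSite.Mod O) {I : Type u} (p : I → ModSite.sect G T)
    (hgen : ∀ (W : C) (s : ModSite.sect G W), ∃ S ∈ J W, ∀ ⦃W' : C⦄ (a : W' ⟶ W), S a →
      ∃ (f : Finset I) (c : I → O.obj.obj (op W')),
        ∑ i ∈ f, c i • G.val.map (hT.from W').op (p i) = G.val.map a.op s)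
    (hrel : ∀ (W : C) (f : Finset I) (c : I → O.obj.obj (op W)),
      ∑ i ∈ f, c i • G.val.map (hT.from W).op (p i) = 0 → ∃ S ∈ J W, ∀ ⦃W' : C⦄ (a : W' ⟶ W), S a →
        ∃ (m : ℕ) (Z : Fin m → I → O.obj.obj (op T)) (d : Fin m → O.obj.obj (op W')),
          (∀ j, ∑ i ∈ f, Z j i • p i = 0) ∧
          ∀ i ∈ f, ∑ j, d j * O.obj.map (hT.from W').op (Z j i) = O.obj.map a.op (c i)) :
    Nonempty G.Presentation := by
  classical
  let σ := genSections hT G p hgen
  let π := homI hT G p
  have hid : ∀ (x : ModSite.sect G T), G.val.map (hT.from T).op x = x := fun x => by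
    rw [hT.hom_ext (hT.from T) (𝟙 T), op_id]
    exact congr($(G.val.presheaf.map_id (op T)) x)
  refine ⟨⟨σ, genSections hT (kernel σ.π) (fun z : ModSite.sect (kernel σ.π) T => z) fun W s => ?_⟩⟩
  let y := (kernel.ι π).val.app (op W) s
  obtain ⟨S, hS, h⟩ := exists_locally_combination W y
  choose f c hc using h
  have hzero : ∀ ⦃W' : C⦄ (a : W' ⟶ W) (ha : S a),
      ∑ i ∈ f a ha, c a ha i • G.val.map (hT.from W').op (p i) = 0 := fun W' a ha => by
    refine (homI_sum hT G p W' _ _).symm.trans ?_
    rw [hc a ha]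
    refine (PresheafOfModules.naturality_apply π.val a.op y).trans ?_
    refine (congrArg (G.val.map a.op) (congrArg (fun φ : kernel π ⟶ G => φ.val.app (op W) s) (kernel.condition π))).trans ?_
    exact map_zero (G.val.map a.op).hom
  choose S' hS' hh using fun (W' : C) (a : W' ⟶ W) (ha : S a) => hrel W' (f a ha) (c a ha) (hzero a ha)
  refine ⟨_, J.bind_covering hS fun W' a ha => hS' W' a ha, fun W' a ha => ?_⟩
  obtain ⟨Y, g, a', ha', hg, rfl⟩ := ha
  obtain ⟨m, Z, d, hZ, hd⟩ := hh Y a' ha' g hg
  let F := f a' ha'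
  have hz : ∀ j, ∃ z : ModSite.sect (kernel π) T,
      (kernel.ι π).val.app (op T) z = ∑ i ∈ F, Z j i • bsec O I T i := fun j =>
    exists_kernel_lift π T _ ((homI_sum hT G p T F (Z j)).trans (by simpa only [hid] using hZ j))
  choose z hz using hz
  refine ⟨Finset.univ.image z, fun k => ∑ j ∈ Finset.univ.filter (fun j => z j = k), d j, ?_⟩
  have hinj : Function.Injective ((kernel.ι π).val.app (op W')) := by
    haveI : Mono ((SheafOfModules.evaluation (ModSite.ringSh O) (op W')).map (kernel.ι π)) := inferInstance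
    exact (ModuleCat.mono_iff_injective _).mp this
  refine Eq.trans (Eq.trans (Finset.sum_congr rfl fun k _ => Finset.sum_smul) ?_) (b :=
    ∑ j, d j • (kernel π).val.map (hT.from W').op (z j)) ?_
  · refine Eq.trans (Finset.sum_congr rfl fun k _ => Finset.sum_congr rfl fun j hj => ?_)
      (Finset.sum_fiberwise_of_maps_to (fun j _ => Finset.mem_image_of_mem z (Finset.mem_univ j))
        (fun j => d j • (kernel π).val.map (hT.from W').op (z j)))
    exact congrArg (fun w : ModSite.sect (kernel π) T => d j • (kernel π).val.map (hT.from W').op w)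
      (Finset.mem_filter.mp hj).2.symm
  apply hinj
  refine (map_sum ((kernel.ι π).val.app (op W')).hom _ _).trans ?_
  refine (Finset.sum_congr rfl fun j _ => (map_smul ((kernel.ι π).val.app (op W')).hom (d j) _).trans
    (congrArg (fun w : ModSite.sect (freeI O I) W' => d j • w)
      ((PresheafOfModules.naturality_apply (kernel.ι π).val (hT.from W').op (z j)).trans
        ((congrArg _ (hz j)).trans (map_sum_bsec (hT.from W') F (Z j)))))).trans ?_
  refine Eq.trans ?_ (PresheafOfModules.naturality_apply (kernel.ι π).val (g ≫ a').op s).symm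
  refine Eq.trans ?_ (ConcreteCategory.congr_hom ((freeI O I).val.presheaf.map_comp a'.op g.op) y).symm
  refine Eq.trans ?_ (congrArg ((freeI O I).val.map g.op) (hc a' ha'))
  refine Eq.trans ?_ (map_sum_bsec g F (c a' ha')).symm
  refine Eq.trans (Finset.sum_congr rfl fun j _ => Finset.smul_sum) ?_
  rw [Finset.sum_comm]
  refine Finset.sum_congr rfl fun i hi => ?_
  rw [← hd i hi, Finset.sum_smul]
  exact Finset.sum_congr rfl fun j _ => smul_smul _ _ _

end site

variable {X : TopCat.{u}} {O : TopCat.Sheaf CommRingCat.{u} X} {F : ModSite.Mod O}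

/-- Quasi-coherence from generators with locally generated finite relations near every point. -/
theorem isQuasicoherent_of_rels
    (h : ∀ x : X, ∃ (U : Opens X) (I : Type u) (p : I → ModSite.sect F U), x ∈ U ∧
      (∀ (W : Opens X) (hW : W ≤ U) (s : ModSite.sect F W), ∀ y ∈ W, ∃ (V : Opens X) (e : V ≤ W), y ∈ V ∧
        ∃ (f : Finset I) (c : I → O.obj.obj (op V)), ∑ i ∈ f, c i • mres F (e.trans hW) (p i) = mres F e s) ∧
      ∀ (W : Opens X) (hW : W ≤ U) (f : Finset I) (c : I → O.obj.obj (op W)),
        ∑ i ∈ f, c i • mres F hW (p i) = 0 → ∀ y ∈ W, ∃ (V : Opens X) (e : V ≤ W), y ∈ V ∧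
          ∃ (m : ℕ) (Z : Fin m → I → O.obj.obj (op U)) (d : Fin m → O.obj.obj (op V)),
            (∀ j, ∑ i ∈ f, Z j i • p i = 0) ∧
            ∀ i ∈ f, ∑ j, d j * ores O (e.trans hW) (Z j i) = ores O e (c i)) :
    SheafOfModules.IsQuasicoherent.{u} (R := ModSite.ringSh O) F := by
  classical
  choose U I p hxU hgen hrel using h
  have hP : ∀ x, Nonempty ((F.over (U x)).Presentation) := fun x => by
    refine nonempty_presentation (C := Over (U x)) (O := O.over (U x)) (T := Over.mk (𝟙 (U x)))
      Over.mkIdTerminal ((ModSite.restr O (U x)).obj F) (p x) (fun W s => ?_) (fun W f c hc => ?_)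
    · obtain ⟨S, hS, h⟩ := sieve_of_local (W := W) (fun V => ∃ (e : V ≤ W.left) (f : Finset (I x))
        (c : I x → O.obj.obj (op V)), ∑ i ∈ f, c i • mres F (e.trans W.hom.le) (p x i) = mres F e s)
        (fun y hy => by
          obtain ⟨V, e, hyV, hc⟩ := hgen x W.left W.hom.le s y hy
          exact ⟨V, e, hyV, e, hc⟩)
      refine ⟨S, hS, fun W' a ha => ?_⟩
      obtain ⟨V, ⟨e, f, c, hc⟩, h1, -⟩ := h a ha
      refine ⟨f, fun i => ores O h1 (c i), ?_⟩
      have := congrArg (mres F h1) hc
      rw [mres_finset_sum_smul] at this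
      simp only [mres_mres] at this
      exact this
    · obtain ⟨S, hS, h⟩ := sieve_of_local (W := W) (fun V => ∃ (e : V ≤ W.left) (m : ℕ)
          (Z : Fin m → I x → O.obj.obj (op (U x))) (d : Fin m → O.obj.obj (op V)),
          (∀ j, ∑ i ∈ f, Z j i • p x i = 0) ∧
            ∀ i ∈ f, ∑ j, d j * ores O (e.trans W.hom.le) (Z j i) = ores O e (c i))
        (fun y hy => by
          obtain ⟨V, e, hyV, hc⟩ := hrel x W.left W.hom.le f c hc y hy
          exact ⟨V, e, hyV, e, hc⟩)
      refine ⟨S, hS, fun W' a ha => ?_⟩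
      obtain ⟨V, ⟨e, m, Z, d, hZ, hd⟩, h1, -⟩ := h a ha
      refine ⟨m, Z, fun j => ores O h1 (d j), hZ, fun i hi => ?_⟩
      have := congrArg (ores O h1) (hd i hi)
      simp only [map_sum, map_mul, ores_ores] at this
      exact this
  have hcov : (Opens.grothendieckTopology X).CoversTop U :=
    (_root_.Opens.coversTop_iff _ U).mpr (eq_top_iff.mpr fun x _ => Opens.mem_iSup.mpr ⟨x, hxU x⟩)
  exact (SheafOfModules.QuasicoherentData.mk (M := F) (↥X) U hcov fun x => (hP x).some).isQuasicoherent

end Groth.Agent.IndCoh
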