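import Groth.Agent.IndCoh.Closed
import Groth.Agent.ModTensor.FreeOn
import Mathlib.CategoryTheory.Adjunction.AdjointFunctorTheorems
import Mathlib.CategoryTheory.Abelian.Subobject

/-!
# Ind-coherent modules are coreflective
-/

set_option autoImplicit false
set_option backward.isDefEq.respectTransparency false
set_option backward.isDefEq.respectTransparency.types false
set_option linter.style.haveILetI false

universe u v v' w' w

open CategoryTheory CategoryTheory.Limits AlgebraicGeometry TopologicalSpace Opposite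

noncomputable section

namespace Groth.Agent.IndCoh

open Groth.Agent.FModLib

section abstract

variable {A : Type w} [Category.{v} A] {B : Type w'} [Category.{v'} B]

/-- A fully faithful functor preserving monomorphisms reflects well-poweredness. -/
theorem wellPowered_of_fullyFaithful (F : A ⥤ B) [F.Full] [F.Faithful] [F.PreservesMonomorphisms]
    [LocallySmall.{u} A] [LocallySmall.{u} B] [WellPowered.{u} B] : WellPowered.{u} A where
  subobject_small X := by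
    let m : Subobject X → Subobject (F.obj X) := Subobject.lift (fun _ f _ => Subobject.mk (F.map f))
      (fun Y Z f g _ _ i hi => Subobject.mk_eq_mk_of_comm _ _ (F.mapIso i) (by
        rw [Functor.mapIso_hom, ← F.map_comp, hi]))
    refine small_of_injective (f := m) ?_
    intro S T h
    induction S using Subobject.ind with
    | h f =>
      induction T using Subobject.ind with
      | h g =>
        simp only [m, Subobject.lift_mk] at h
        refine Subobject.mk_eq_mk_of_comm _ _ (F.preimageIso (Subobject.isoOfMkEqMk _ _ h)) ?_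
        refine F.map_injective ?_
        rw [F.map_comp, Functor.preimageIso_hom, Functor.map_preimage, Subobject.isoOfMkEqMk_hom,
          Subobject.ofMkLEMk_comp]

end abstract

section general

variable {X : TopCat.{u}} (O : TopCat.Sheaf CommRingCat.{u} X)

theorem wellPowered_mod : WellPowered.{u} (ModSite.Mod O) := by
  have h := ModTensor.isSeparating_freeOn (O := O) (Set.univ : Set (Opens X))
    (fun U => ⟨PUnit, fun _ => U, fun _ => 𝟙 U, GrothendieckTopology.covering_of_eq_top _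
      (Sieve.id_mem_iff_eq_top.mp (Sieve.ofArrows_mk (fun _ : PUnit => U) (fun _ => 𝟙 U) PUnit.unit)),
      fun _ => Set.mem_univ _⟩)
  exact wellPowered_of_isDetecting h.isDetecting

end general

variable {𝔛 : FSch.Sys.{u}} (h𝔛 : 𝔛.IsLocNoethFormal)

/-- Free modules on opens with multiplicity. -/
def bigFree (m : (𝔛.X 0).Opens → ℕ) : FSch.ModF 𝔛 h𝔛.1 :=
  ∐ fun σ : (Σ U : (𝔛.X 0).Opens, ULift.{u} (Fin (m U))) => ModSite.freeOn (𝔛.Osh h𝔛.1) σ.1

set_option maxHeartbeats 1000000 in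
/-- Coherent modules are quotients of free modules on opens. -/
theorem exists_epi_bigFree {ℭ : FSch.ModF 𝔛 h𝔛.1} (hℭ : FSch.IsCohF 𝔛 h𝔛.1 ℭ) :
    ∃ (m : (𝔛.X 0).Opens → ℕ) (π : bigFree h𝔛 m ⟶ ℭ), Epi π := by
  classical
  have key : ∀ U : (𝔛.X 0).Opens, ∃ (n : ℕ) (t : ULift.{u} (Fin n) → FSect h𝔛 ℭ U), IsAffineOpen U →
      ∀ (W : (𝔛.X 0).Opens) (hW : W ≤ U) (s : FSect h𝔛 ℭ W), ∀ y ∈ W,
        ∃ (V : (𝔛.X 0).Opens) (e : V ≤ W), y ∈ V ∧ ∃ c : ULift.{u} (Fin n) → Rng h𝔛 V,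
          ∑ i, c i • mres ℭ (e.trans hW) (t i) = mres ℭ e s := fun U => by
    by_cases hU : IsAffineOpen U
    · obtain ⟨n, m, t, g, hP⟩ := affPres h𝔛 hℭ hU
      exact ⟨n, t, fun _ => hP.gen⟩
    · exact ⟨0, fun i => Fin.elim0 i.down, fun h => absurd h hU⟩
  choose n t ht using key
  let gmap : ∀ σ : (Σ U : (𝔛.X 0).Opens, ULift.{u} (Fin (n U))), ModSite.freeOn (𝔛.Osh h𝔛.1) σ.1 ⟶ ℭ :=
    fun σ => (ModTensor.freeOnCorepr (𝔛.Osh h𝔛.1) σ.1).homEquiv.symm (t σ.1 σ.2)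
  refine ⟨n, Sigma.desc gmap, Preadditive.epi_of_cancel_zero _ fun {Z} k hk => hom_ext_app fun W s => ?_⟩
  refine eq_of_locally (O := 𝔛.Osh h𝔛.1) Z fun x hx => ?_
  obtain ⟨U, hU, hxU, eU⟩ := exists_affine_le (𝔛 := 𝔛) hx
  obtain ⟨V, e, hxV, c, hc⟩ := ht U hU U le_rfl (mres ℭ eU s) x hxU
  refine ⟨V, e.trans eU, hxV, ?_⟩
  have hz : ∀ i, k.val.app (op U) (t U i) = 0 := fun i => by
    have h1 : gmap ⟨U, i⟩ ≫ k = 0 := by
      have := congrArg (Sigma.ι (fun σ : (Σ U : (𝔛.X 0).Opens, ULift.{u} (Fin (n U))) =>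
        ModSite.freeOn (𝔛.Osh h𝔛.1) σ.1) ⟨U, i⟩ ≫ ·) hk
      simpa only [Sigma.ι_desc_assoc, comp_zero] using this
    have h2 := congrArg (fun z => k.val.app (op U) z)
      ((ModTensor.freeOnCorepr (𝔛.Osh h𝔛.1) U).homEquiv.apply_symm_apply (t U i))
    have h3 := congrArg (ModTensor.freeOnCorepr (𝔛.Osh h𝔛.1) U).homEquiv h1
    rw [Functor.CorepresentableBy.homEquiv_comp] at h3
    refine h2.symm.trans (h3.trans ?_)
    refine Eq.trans ?_ (app_zero (G := Z) U (t U i))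
    refine (congrArg (ModTensor.freeOnCorepr (𝔛.Osh h𝔛.1) U).homEquiv
      (comp_zero (f := gmap ⟨U, i⟩) (Z := Z)).symm).trans ?_
    rw [Functor.CorepresentableBy.homEquiv_comp]
    rfl
  rw [app_zero, mres_zero, ← mres_mres _ eU e, ← mapp_res, ← mapp_res]
  rw [← hc, mapp_sum_smul]
  simp only [mapp_res, hz, mres_zero, smul_zero, Finset.sum_const_zero]

/-- The index of representatives of coherent modules. -/
abbrev CohRep : Type u :=
  haveI := wellPowered_mod (𝔛.Osh h𝔛.1)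
  Σ m : ((𝔛.X 0).Opens → ℕ), Shrink.{u} (Subobject (bigFree h𝔛 m))

/-- The representative module. -/
def cohRep (q : CohRep h𝔛) : FSch.ModF 𝔛 h𝔛.1 :=
  haveI := wellPowered_mod (𝔛.Osh h𝔛.1)
  cokernel (((equivShrink.{u} (Subobject (bigFree h𝔛 q.1))).symm q.2).arrow)

theorem exists_cohRep {ℭ : FSch.ModF 𝔛 h𝔛.1} (hℭ : FSch.IsCohF 𝔛 h𝔛.1 ℭ) :
    ∃ q, Nonempty (cohRep h𝔛 q ≅ ℭ) := by
  haveI := wellPowered_mod (𝔛.Osh h𝔛.1)
  obtain ⟨m, π, hπ⟩ := exists_epi_bigFree h𝔛 hℭ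
  refine ⟨⟨m, equivShrink _ (Subobject.mk (kernel.ι π))⟩, ⟨?_⟩⟩
  haveI := hπ
  let σ := (equivShrink.{u} (Subobject (bigFree h𝔛 m))).symm (equivShrink _ (Subobject.mk (kernel.ι π)))
  have e : σ = Subobject.mk (kernel.ι π) := Equiv.symm_apply_apply _ _
  let e₁ : (σ : FSch.ModF 𝔛 h𝔛.1) ≅ Limits.kernel π :=
    eqToIso (congrArg (fun s : Subobject (bigFree h𝔛 m) => (s : FSch.ModF 𝔛 h𝔛.1)) e) ≪≫ Subobject.underlyingIso _
  have he : e₁.hom ≫ kernel.ι π = σ.arrow := by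
    simp only [e₁, Iso.trans_hom, eqToIso.hom, Category.assoc, Subobject.underlyingIso_hom_comp_eq_mk]
    exact Subobject.arrow_congr σ _ e
  exact cokernel.mapIso σ.arrow (kernel.ι π) e₁ (Iso.refl _) (by simp [he]) ≪≫
    IsColimit.coconePointUniqueUpToIso (colimit.isColimit _) (Abelian.epiIsCokernelOfKernel _ (kernelIsKernel π))

/-- A small separating family of ind-coherent modules. -/
theorem exists_isSeparating :
    ∃ (Q : Type u) (rep : Q → (ObjectProperty.ind.{u} fun 𝔊 : FSch.ModF 𝔛 h𝔛.1 => FSch.IsCohF 𝔛 h𝔛.1 𝔊).FullSubcategory),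
      (ObjectProperty.ofObj rep).IsSeparating := by
  let P := ObjectProperty.ind.{u} fun 𝔊 : FSch.ModF 𝔛 h𝔛.1 => FSch.IsCohF 𝔛 h𝔛.1 𝔊
  let Q := {q : CohRep h𝔛 // FSch.IsCohF 𝔛 h𝔛.1 (cohRep h𝔛 q)}
  let rep : Q → P.FullSubcategory := fun q => ⟨cohRep h𝔛 q.1, (Gd.of_coh h𝔛 q.2).ind h𝔛⟩
  have hsep : (ObjectProperty.ofObj rep).IsSeparating := fun G H φ ψ h => by
    apply P.ι.map_injective
    obtain ⟨α, _, C, f, hC, -, -, hs⟩ := Gd.of_ind h𝔛 G.property
    refine hom_ext_app fun U s => eq_of_locally (O := 𝔛.Osh h𝔛.1) H.obj fun x hx => ?_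
    obtain ⟨a, V, e, hxV, t, ht⟩ := hs U s x hx
    refine ⟨V, e, hxV, ?_⟩
    obtain ⟨q, ⟨i⟩⟩ := exists_cohRep h𝔛 (hC a)
    have hq : FSch.IsCohF 𝔛 h𝔛.1 (cohRep h𝔛 q) := isCohF_of_iso h𝔛 i.symm (hC a)
    let g : rep ⟨q, hq⟩ ⟶ G := P.homMk (i.hom ≫ f a)
    have h1 := congrArg P.ι.map (h _ (ObjectProperty.ofObj_apply rep ⟨q, hq⟩) g)
    rw [P.ι.map_comp, P.ι.map_comp] at h1
    have h2 : f a ≫ P.ι.map φ = f a ≫ P.ι.map ψ := by
      rw [← cancel_epi i.hom, ← Category.assoc, ← Category.assoc]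
      exact h1
    refine (mapp_res _ (P.ι.map φ) e s).symm.trans (Eq.trans ?_ (mapp_res _ (P.ι.map ψ) e s))
    refine (congrArg (fun z => (P.ι.map φ).val.app (op V) z) ht).symm.trans ?_
    exact (app_congr h2 V t).trans (congrArg (fun z => (P.ι.map ψ).val.app (op V) z) ht)
  exact ⟨Q, rep, hsep⟩

/-- The inclusion of ind-coherent modules is a left adjoint. -/
theorem isLeftAdjoint_ι :
    (ObjectProperty.ind.{u} fun 𝔊 : FSch.ModF 𝔛 h𝔛.1 => FSch.IsCohF 𝔛 h𝔛.1 𝔊).ι.IsLeftAdjoint := by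
  let P := ObjectProperty.ind.{u} fun 𝔊 : FSch.ModF 𝔛 h𝔛.1 => FSch.IsCohF 𝔛 h𝔛.1 𝔊
  haveI hcl : ∀ (J : Type u) [SmallCategory J], P.IsClosedUnderColimitsOfShape J := fun J _ => by
    constructor
    rintro X ⟨p⟩
    exact (Gd.colimit h𝔛 _ p.isColimit fun j => Gd.of_ind h𝔛 (p.prop_diag_obj j)).ind h𝔛
  haveI : HasColimitsOfSize.{u, u} P.FullSubcategory := ⟨fun J _ => inferInstance⟩
  haveI : PreservesColimitsOfSize.{u, u} P.ι :=
    ⟨fun {J} _ => preservesColimitOfShape_of_createsColimitsOfShape_and_hasColimitsOfShape P.ι⟩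
  haveI : PreservesColimitsOfSize.{0, 0} P.ι := preservesColimitsOfSize_shrink.{0, u, 0, u} P.ι
  haveI : P.ι.PreservesEpimorphisms := inferInstance
  haveI : P.ι.op.PreservesMonomorphisms := ⟨fun {X Y} g hg => by
    haveI : Epi g.unop := inferInstance
    exact inferInstanceAs (Mono (P.ι.map g.unop).op)⟩
  haveI := wellPowered_mod (𝔛.Osh h𝔛.1)
  haveI : WellPowered.{u} P.FullSubcategoryᵒᵖ := wellPowered_of_fullyFaithful P.ι.op
  obtain ⟨Q, rep, hsep⟩ := exists_isSeparating h𝔛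
  exact isLeftAdjoint_of_preservesColimits_of_isSeparating hsep _

end Groth.Agent.IndCoh
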