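import Groth.Agent.IndCoh.DerivedBrown
import Groth.Agent.IndCoh.CoprodRpush
import Groth.Agent.IndCoh.RightAdjoint
import Groth.Agent.SiteCmpLib.DerivedAdj

/-!
# `Rf_*` on the derived category of ind-coherent modules is a left adjoint
-/

set_option autoImplicit false
set_option backward.isDefEq.respectTransparency false
set_option linter.style.haveILetI false

universe u

open CategoryTheory CategoryTheory.Limits AlgebraicGeometry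

attribute [local instance] HasDerivedCategory.standard

noncomputable section

namespace Groth.Agent.IndCoh

open Groth.Agent.SiteCmpLib

variable {𝔛 : FSch.Sys.{u}} (h𝔛 : 𝔛.IsLocNoethFormal)

variable [ObjectProperty.ContainsZero (ObjectProperty.ind.{u} fun 𝔊 : FSch.ModF 𝔛 h𝔛.1 => FSch.IsCohF 𝔛 h𝔛.1 𝔊)] [ObjectProperty.IsClosedUnderKernels (ObjectProperty.ind.{u} fun 𝔊 : FSch.ModF 𝔛 h𝔛.1 => FSch.IsCohF 𝔛 h𝔛.1 𝔊)]
  [ObjectProperty.IsClosedUnderCokernels (ObjectProperty.ind.{u} fun 𝔊 : FSch.ModF 𝔛 h𝔛.1 => FSch.IsCohF 𝔛 h𝔛.1 𝔊)] [ObjectProperty.IsClosedUnderFiniteProducts (ObjectProperty.ind.{u} fun 𝔊 : FSch.ModF 𝔛 h𝔛.1 => FSch.IsCohF 𝔛 h𝔛.1 𝔊)]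
  [PreservesFiniteLimits (ObjectProperty.ι (ObjectProperty.ind.{u} fun 𝔊 : FSch.ModF 𝔛 h𝔛.1 => FSch.IsCohF 𝔛 h𝔛.1 𝔊))] [PreservesFiniteColimits (ObjectProperty.ι (ObjectProperty.ind.{u} fun 𝔊 : FSch.ModF 𝔛 h𝔛.1 => FSch.IsCohF 𝔛 h𝔛.1 𝔊))]

/-- Ind-coherent modules form a Grothendieck abelian category. -/
theorem isGrothendieckAbelian_ind : IsGrothendieckAbelian.{u} (ObjectProperty.FullSubcategory (ObjectProperty.ind.{u} fun 𝔊 : FSch.ModF 𝔛 h𝔛.1 => FSch.IsCohF 𝔛 h𝔛.1 𝔊)) := by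
  haveI hcl : ∀ (J : Type u) [SmallCategory J], ObjectProperty.IsClosedUnderColimitsOfShape (ObjectProperty.ind.{u} fun 𝔊 : FSch.ModF 𝔛 h𝔛.1 => FSch.IsCohF 𝔛 h𝔛.1 𝔊) J := fun J _ => by
    constructor
    rintro X ⟨p⟩
    exact (Gd.colimit h𝔛 _ p.isColimit fun j => Gd.of_ind h𝔛 (p.prop_diag_obj j)).ind h𝔛
  haveI : HasColimitsOfSize.{u, u} (ObjectProperty.FullSubcategory (ObjectProperty.ind.{u} fun 𝔊 : FSch.ModF 𝔛 h𝔛.1 => FSch.IsCohF 𝔛 h𝔛.1 𝔊)) := ⟨fun J _ => inferInstance⟩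
  haveI : PreservesColimitsOfSize.{u, u} (ObjectProperty.ι (ObjectProperty.ind.{u} fun 𝔊 : FSch.ModF 𝔛 h𝔛.1 => FSch.IsCohF 𝔛 h𝔛.1 𝔊)) :=
    ⟨fun {J} _ => preservesColimitOfShape_of_createsColimitsOfShape_and_hasColimitsOfShape (ObjectProperty.ι (ObjectProperty.ind.{u} fun 𝔊 : FSch.ModF 𝔛 h𝔛.1 => FSch.IsCohF 𝔛 h𝔛.1 𝔊))⟩
  haveI : HasFiniteLimits (ObjectProperty.FullSubcategory (ObjectProperty.ind.{u} fun 𝔊 : FSch.ModF 𝔛 h𝔛.1 => FSch.IsCohF 𝔛 h𝔛.1 𝔊)) := inferInstance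
  haveI : ReflectsFiniteLimits (ObjectProperty.ι (ObjectProperty.ind.{u} fun 𝔊 : FSch.ModF 𝔛 h𝔛.1 => FSch.IsCohF 𝔛 h𝔛.1 𝔊)) := ⟨fun _ _ _ => inferInstance⟩
  exact
    { hasFilteredColimitsOfSize := ⟨fun J _ _ => inferInstance⟩
      ab5OfSize := ⟨fun J _ _ => HasExactColimitsOfShape.domain_of_functor J (ObjectProperty.ι (ObjectProperty.ind.{u} fun 𝔊 : FSch.ModF 𝔛 h𝔛.1 => FSch.IsCohF 𝔛 h𝔛.1 𝔊))⟩
      hasSeparator := by
        obtain ⟨Q, rep, hsep⟩ := exists_isSeparating h𝔛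
        exact ⟨⟨∐ rep, hsep.isSeparator_coproduct⟩⟩ }

/-- The derived direct image on ind-coherent modules is a left adjoint. -/
theorem isLeftAdjoint_mapDerived_rpushD [CompactSpace (𝔛.X 0)] {𝔜 : FSch.Sys.{u}} (h𝔜 : 𝔜.IsFormal)
    [CompactSpace (𝔜.X 0)] (f : 𝔛 ⟶ 𝔜) [SiteCmp.HasRpushD (FSch.homMor f h𝔛.1 h𝔜)] :
    ((ObjectProperty.ι (ObjectProperty.ind.{u} fun 𝔊 : FSch.ModF 𝔛 h𝔛.1 => FSch.IsCohF 𝔛 h𝔛.1 𝔊)).mapDerivedCategory ⋙ SiteCmp.RpushD (FSch.homMor f h𝔛.1 h𝔜)).IsLeftAdjoint := by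
  haveI := isGrothendieckAbelian_ind h𝔛
  let u := FSch.homMor f h𝔛.1 h𝔜
  obtain ⟨e⟩ := DerivedAdj.exists_iso_model u.push
  obtain ⟨hc, ht⟩ := DerivedAdj.exists_triangulated_model u.push
  let L := (ObjectProperty.ι (ObjectProperty.ind.{u} fun 𝔊 : FSch.ModF 𝔛 h𝔛.1 => FSch.IsCohF 𝔛 h𝔛.1 𝔊)).mapDerivedCategory
  haveI := isLeftAdjoint_ι h𝔛
  let adj := Adjunction.ofIsLeftAdjoint (ObjectProperty.ι (ObjectProperty.ind.{u} fun 𝔊 : FSch.ModF 𝔛 h𝔛.1 => FSch.IsCohF 𝔛 h𝔛.1 𝔊))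
  haveI : (ObjectProperty.ι (ObjectProperty.ind.{u} fun 𝔊 : FSch.ModF 𝔛 h𝔛.1 => FSch.IsCohF 𝔛 h𝔛.1 𝔊)).rightAdjoint.Additive := adj.right_adjoint_additive
  have hL : L.IsLeftAdjoint :=
    (DerivedAdj.modelAdj (G := (ObjectProperty.ι (ObjectProperty.ind.{u} fun 𝔊 : FSch.ModF 𝔛 h𝔛.1 => FSch.IsCohF 𝔛 h𝔛.1 𝔊)).rightAdjoint) adj).isLeftAdjoint
  have hF : ∀ τ : Type u, PreservesColimitsOfShape (Discrete τ) (L ⋙ DerivedAdj.model u.push) := fun τ => ⟨fun {K} => by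
    haveI := hL
    haveI : PreservesColimit (Discrete.functor fun a => L.obj (K.obj ⟨a⟩)) (SiteCmp.RpushD u) :=
      preservesColimit_rpushD h𝔛 h𝔜 f τ _ fun a i => ObjectProperty.prop_of_iso (ObjectProperty.ind.{u} fun 𝔊 : FSch.ModF 𝔛 h𝔛.1 => FSch.IsCohF 𝔛 h𝔛.1 𝔊)
        ((KFlatLib.mapDCHomologyIso (ObjectProperty.ι (ObjectProperty.ind.{u} fun 𝔊 : FSch.ModF 𝔛 h𝔛.1 => FSch.IsCohF 𝔛 h𝔛.1 𝔊)) i).app (K.obj ⟨a⟩)).symm
        ((DerivedCategory.homologyFunctor _ i).obj (K.obj ⟨a⟩)).property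
    haveI : PreservesColimit (Discrete.functor ((K ⋙ L).obj ∘ Discrete.mk)) (DerivedAdj.model u.push) :=
      (preservesColimit_of_natIso (Discrete.functor fun a => L.obj (K.obj ⟨a⟩)) e.symm :)
    haveI : PreservesColimit (K ⋙ L) (DerivedAdj.model u.push) :=
      preservesColimit_of_iso_diagram _ (Discrete.natIsoFunctor (F := K ⋙ L)).symm
    infer_instance⟩
  haveI := DerivedBrown.isLeftAdjoint_of_preservesCoproducts (L ⋙ DerivedAdj.model u.push) hF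
  exact Functor.isLeftAdjoint_of_iso (Functor.isoWhiskerLeft L e)

end Groth.Agent.IndCoh
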