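import Groth.Agent.SiteCmpLib.ModBounded

/-!
# Cohomological dimension of direct images for classes closed under isomorphisms only
-/

universe u

open CategoryTheory Category Limits Pretriangulated DerivedCategory

attribute [local instance] HasDerivedCategory.standard

namespace Groth.Agent.IndCoh.WayOut

open Groth.Agent.SiteCmpLib DerivedAdj TotalRight LocClass
open Groth.Agent.SiteCmpLib.Bounded (singleIso isLE_truncGE CdBound SmallCones)

section Basic

variable {B : Type (u + 1)} [Category.{u} B] [Abelian B]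

variable (P : ObjectProperty B) [P.ContainsZero] [P.IsClosedUnderIsomorphisms]

lemma cohIn_truncLT {X : DerivedCategory B} (h : WSerre.cohIn P X) (m : ℤ) :
    WSerre.cohIn P ((TStructure.t.truncLT m).obj X) := fun i =>
  H9Misc.WayOut.P_truncLT P (hP := fun _ hZ => P.prop_of_isZero hZ) h m i

lemma cohIn_truncGE {X : DerivedCategory B} (h : WSerre.cohIn P X) (m : ℤ) :
    WSerre.cohIn P ((TStructure.t.truncGE m).obj X) := fun i =>
  H9Misc.WayOut.P_truncGE P (hP := fun _ hZ => P.prop_of_isZero hZ) h m i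

/-- Dévissage of bounded objects, keeping track of the upper bound. -/
theorem bounded_induction_le
    (Q : DerivedCategory B → Prop) (iso : ∀ {X Y}, (X ≅ Y) → Q X → Q Y)
    (ext : ∀ (T : Triangle (DerivedCategory B)), T ∈ distinguishedTriangles →
      Q T.obj₁ → Q T.obj₃ → Q T.obj₂)
    (X : DerivedCategory B) (a b : ℤ) (ha : X.IsGE a) (hb : X.IsLE b)
    (single : ∀ (n : ℤ) (M : B), n ≤ b → P M → Q ((singleFunctor B n).obj M))
    (hX : WSerre.cohIn P X) : Q X := by
  obtain ⟨k, hk⟩ : ∃ k : ℕ, b ≤ a + k := ⟨(b - a).toNat, by omega⟩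
  induction k generalizing X a b with
  | zero =>
    rcases lt_or_ge b a with h | h
    · have hz : IsZero X := by
        refine (DerivedCategory.isGE_iff X a).1 ha |> fun hge => ?_
        rw [IsZero.iff_id_eq_zero]
        exact (TStructure.t (C := B)).zero _ b a h
      obtain ⟨Z, hZ, hPZ⟩ := P.exists_prop_of_containsZero
      exact iso (((singleFunctor B b).map_isZero hZ).iso hz) (single b Z le_rfl hPZ)
    · have : X.IsLE a := (TStructure.t (C := B)).isLE_of_le X b a (by omega)
      obtain ⟨M, ⟨e⟩⟩ := exists_iso_singleFunctor_obj_of_isGE_of_isLE X a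
      exact iso e.symm (single a M h (P.prop_of_iso
        ((homologyFunctor B a).mapIso e ≪≫ (singleFunctorCompHomologyFunctorIso B a).app M) (hX a)))
  | succ k ih =>
    rcases le_or_gt b (a + k) with h | h
    · exact ih X a b ha hb single hX h
    refine ext _ ((TStructure.t (C := B)).triangleLTGE_distinguished (a + 1) X) ?_ ?_
    · refine ih _ a a (KFlatLib.isGE_truncLT X a (a + 1)) ?_ (fun n M hn hM => single n M (by omega) hM)
        (cohIn_truncLT P hX _) (by omega)
      exact inferInstanceAs ((TStructure.t (C := B)).IsLE ((TStructure.t.truncLT (a + 1)).obj X) a)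
    · exact ih _ (a + 1) b
        (inferInstanceAs ((TStructure.t (C := B)).IsGE ((TStructure.t.truncGE (a + 1)).obj X) (a + 1)))
        (isLE_truncGE X (a + 1) b hb) single (cohIn_truncGE P hX _) (by omega)

/-- An object `S` with no classes of degree `> d` on `P` has none on bounded objects. -/
lemma hom_eq_zero {S : DerivedCategory B} (d : ℕ)
    (h : ∀ M : B, P M → ∀ k : ℕ, d < k → ∀ φ : S ⟶ ((singleFunctor B 0).obj M)⟦(k : ℤ)⟧, φ = 0)
    {Z : DerivedCategory B} (a b : ℤ) (ha : Z.IsGE a) (hb : Z.IsLE b) (hZ : WSerre.cohIn P Z)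
    (m : ℤ) (hm : b + d < m) (φ : S ⟶ Z⟦m⟧) : φ = 0 := by
  revert φ
  refine bounded_induction_le P (fun W => ∀ φ : S ⟶ W⟦m⟧, φ = 0)
    (fun e hW φ => ?_) (fun T hT h₁ h₃ φ => ?_) Z a b ha hb (fun p M hp hM φ => ?_) hZ
  · rw [← cancel_mono (e.inv⟦m⟧'), zero_comp]
    exact hW _
  · obtain ⟨ψ, rfl⟩ := DLim.exact₂_shift T hT m φ (h₃ _)
    rw [h₁ ψ, zero_comp]
  · obtain ⟨e⟩ := singleIso B p M
    let i : ((singleFunctor B p).obj M)⟦m⟧ ≅ ((singleFunctor B 0).obj M)⟦(((m - p).toNat : ℕ) : ℤ)⟧ :=
      (shiftFunctor _ m).mapIso e.symm ≪≫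
        ((shiftFunctorAdd' (DerivedCategory B) (-p) m _ (by omega)).app _).symm
    rw [← cancel_mono i.hom, zero_comp]
    exact h M hM _ (by omega) _


/-- The truncations have small cones. -/
lemma smallCones_trunc (E : DerivedCategory B) (hE : WSerre.cohIn P E) :
    SmallCones P (CohCx.truncTowerMap E) 0 (-1) := fun n _ => by
  obtain ⟨C, f, h, hT⟩ := distinguished_cocone_triangle₁ (CohCx.truncTowerMap E n)
  have hge : ∀ k : ℕ, DerivedCategory.IsGE (CohCx.truncTower E k) (-(k : ℤ)) := fun k =>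
    inferInstanceAs (TStructure.t.IsGE ((TStructure.t.truncGE (-(k : ℤ))).obj E) (-(k : ℤ)))
  have := hge n; have := hge (n + 1)
  have hz : ∀ i : ℤ, i ≠ -(n + 1 : ℤ) → IsZero ((homologyFunctor B i).obj C) := fun i hi => by
    refine (HomologySequence.exact₁ _ hT (i - 1) i (by omega)).isZero_of_both_zeros ?_ ?_
    · rcases lt_or_ge (i - 1) (-(n : ℤ)) with h0 | h0
      · exact (isZero_of_isGE (CohCx.truncTower E n) (-(n : ℤ)) (i - 1) h0).eq_of_src _ _
      · have := Tower.isIso_homology_truncTowerMap E n (i - 1) h0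
        have : Epi ((homologyFunctor B (i - 1)).map (Triangle.mk f (CohCx.truncTowerMap E n) h).mor₂) :=
          inferInstanceAs (Epi ((homologyFunctor B (i - 1)).map (CohCx.truncTowerMap E n)))
        exact (HomologySequence.epi_homologyMap_mor₂_iff _ hT (i - 1) i (by omega)).1 this
    · rcases lt_or_ge i (-(n : ℤ)) with h0 | h0
      · exact (isZero_of_isGE (CohCx.truncTower E (n + 1)) (-((n + 1 : ℕ) : ℤ)) i (by omega)).eq_of_tgt _ _
      · have := Tower.isIso_homology_truncTowerMap E n i h0
        have : Mono ((homologyFunctor B i).map (Triangle.mk f (CohCx.truncTowerMap E n) h).mor₂) :=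
          inferInstanceAs (Mono ((homologyFunctor B i).map (CohCx.truncTowerMap E n)))
        exact (HomologySequence.mono_homologyMap_mor₂_iff _ hT i).1 this
  refine ⟨C, f, h, -(n + 1 : ℤ), hT, fun i => ?_, (isGE_iff _ _).2 fun i hi => hz i (by omega),
    (isLE_iff _ _).2 fun i hi => hz i (by omega)⟩
  by_cases hi : i = -(n + 1 : ℤ)
  · subst hi
    have hm : Mono ((homologyFunctor B (-(n + 1 : ℤ))).map (Triangle.mk f (CohCx.truncTowerMap E n) h).mor₁) :=
      (HomologySequence.mono_homologyMap_mor₁_iff _ hT (-(n + 1 : ℤ) - 1) _ (by omega)).2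
        ((isZero_of_isGE (CohCx.truncTower E n) (-(n : ℤ)) _ (by omega)).eq_of_src _ _)
    have he : Epi ((homologyFunctor B (-(n + 1 : ℤ))).map (Triangle.mk f (CohCx.truncTowerMap E n) h).mor₁) :=
      (HomologySequence.epi_homologyMap_mor₁_iff _ hT _).2
        ((isZero_of_isGE (CohCx.truncTower E n) (-(n : ℤ)) _ (by omega)).eq_of_tgt _ _)
    exact P.prop_of_iso (@asIso _ _ _ _ _ (@isIso_of_mono_of_epi _ _ _ _ _ _ hm he)).symm
      (cohIn_truncGE P hE _ _)
  · exact P.prop_of_isZero (hz i hi)

end Basic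

variable {A : Type (u + 1)} [Category.{u} A] [Abelian A]
  {B : Type (u + 1)} [Category.{u} B] [Abelian B] [IsGrothendieckAbelian.{u} B]
  {D : Type u} [SmallCategory D] {Jt : GrothendieckTopology D} {P : D ⥤ A}
  {F : A ⥤ B} {G : B ⥤ A} [G.Additive] (adj : F ⊣ G)
  (PB : ObjectProperty B) [PB.ContainsZero] [PB.IsClosedUnderIsomorphisms]


include adj in
/-- The main local injectivity statement for derived limits. -/
theorem eq_zero_of_rlim (hP : IsTest Jt P) {K : ℕ → DerivedCategory B} {t : ∀ n, K (n + 1) ⟶ K n}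
    {L : DerivedCategory B} {a : ∀ n, L ⟶ K n} (hL : CohCx.IsRlimVia K t L a) (N : ℕ) (c : ℤ)
    (hK : SmallCones PB t N c) {V : D} (hV : CdBound Jt F P PB V) (j : ℤ)
    (s : P.obj V ⟶ (homologyFunctor A j).obj ((model G).obj L))
    (hs : ∀ n, N ≤ n → s ≫ (homologyFunctor A j).map ((model G).map (a n)) = 0) : s = 0 := by
  obtain ⟨d, hd⟩ := hV
  obtain ⟨M, hNM, hM⟩ : ∃ M : ℕ, N ≤ M ∧ c - M + d < j := ⟨N + (c + d - j + 1).toNat, by omega, by omega⟩
  obtain ⟨hcs, -⟩ := exists_triangulated_model G
  let η : shiftFunctor (DerivedCategory B) j ⋙ model G ⋙ homologyFunctor A 0 ≅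
      model G ⋙ homologyFunctor A j :=
    (Functor.associator _ _ _).symm ≪≫
      Functor.isoWhiskerRight ((model G).commShiftIso j) _ ≪≫ Functor.associator _ _ _ ≪≫
      Functor.isoWhiskerLeft (model G) ((homologyFunctor A 0).shiftIso j 0 j (add_zero j))
  have := eq_zero_homology_model (F := F) adj hP ((a M)⟦j⟧') (V := V) (fun T hT => by
      obtain ⟨ι, Y, f, hf, hcov, hY⟩ := hd T hT
      refine ⟨ι, Y, f, hf, hcov, fun i φ hφ => Tower.eq_zero_of_conesKilled hL (N := M) (fun n hn => ?_) φ hφ⟩
      obtain ⟨C, g, h, b, hT, hC, hb, hc⟩ := hK n (hNM.trans hn)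
      exact ⟨C, g, h, hT, hom_eq_zero PB d (fun X hX k hk => hY i X hX k hk) b (c - n) hb hc hC j (by omega)⟩)
    (s ≫ η.inv.app L) (by
      have h := η.inv.naturality (a M)
      refine (assoc _ _ _).trans ((congrArg (s ≫ ·) h.symm).trans ?_)
      exact (assoc _ _ _).symm.trans ((congrArg (· ≫ _) (hs M hNM)).trans zero_comp))
  rw [← cancel_mono (η.inv.app L), zero_comp]
  exact this

include adj in
theorem isZero_homology_of_rlim (hP : IsTest Jt P) {B' : Set D} (hB : Covers Jt B')
    (hV : ∀ V ∈ B', CdBound Jt F P PB V) {K : ℕ → DerivedCategory B} {t : ∀ n, K (n + 1) ⟶ K n}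
    {L : DerivedCategory B} {a : ∀ n, L ⟶ K n} (hL : CohCx.IsRlimVia K t L a) (N : ℕ) (c : ℤ)
    (hK : SmallCones PB t N c) (j : ℤ)
    (hz : ∀ n, N ≤ n → IsZero ((homologyFunctor A j).obj ((model G).obj (K n)))) :
    IsZero ((homologyFunctor A j).obj ((model G).obj L)) :=
  hP.eq_zero_of_covers hB fun V hVB s => eq_zero_of_rlim adj PB hP hL N c hK (hV V hVB) j s
    fun n hn => (hz n hn).eq_of_tgt _ _


variable {E : Type u} [SmallCategory E] {Js : GrothendieckTopology E} {PS : E ⥤ B}

/-- An object is the derived limit of its truncations under a bound on cohomological dimensions. -/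
theorem isRlimVia_trunc (hP : IsTest Js PS) {B' : Set E} (hB : Covers Js B')
    (hV : ∀ V ∈ B', CdBound Js (𝟭 B) PS PB V) (X : DerivedCategory B) (hX : WSerre.cohIn PB X) :
    CohCx.IsRlimVia (CohCx.truncTower X) (CohCx.truncTowerMap X) X (CohCx.toTruncTower X) := by
  obtain ⟨L, a, e, hL, hea, hfin⟩ := Tower.exists_trunc_comparison X
  refine hfin fun m => ?_
  let H := homologyFunctor B m
  let i : ∀ Z, H.obj ((model (𝟭 B)).obj Z) ≅ H.obj Z := fun Z => H.mapIso ((modelId B).app Z)
  -- a class killed by every projection is zero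
  have kill : ∀ (V : E), V ∈ B' → ∀ (s : PS.obj V ⟶ H.obj L) (N : ℕ),
      (∀ n, N ≤ n → s ≫ H.map (a n) = 0) → s = 0 := fun V hVB s N hs => by
    have := eq_zero_of_rlim Adjunction.id PB hP hL N (-1)
      (fun n hn => smallCones_trunc PB X hX n (Nat.zero_le n)) (hV V hVB) m (s ≫ (i L).inv)
      (fun n hn => by
        have h : H.map ((modelId B).inv.app L) ≫ H.map ((model (𝟭 B)).map (a n)) =
            H.map (a n) ≫ H.map ((modelId B).inv.app _) := by
          exact (H.map_comp _ _).symm.trans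
            ((congrArg H.map ((modelId B).inv.naturality (a n)).symm).trans (H.map_comp _ _))
        refine (assoc _ _ _).trans ((congrArg (s ≫ ·) h).trans ?_)
        exact (assoc _ _ _).symm.trans ((congrArg (· ≫ _) (hs n hn)).trans zero_comp))
    rw [← cancel_mono (i L).inv, zero_comp]
    exact this
  -- the projections are injective in high enough degrees
  let M : ℕ := (-m).toNat
  have hmono : Mono (H.map (a M)) := hP.mono_of_covers hB _ fun V hVB s hs => kill V hVB s M fun n hn => by
    induction n, hn using Nat.le_induction with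
    | base => exact hs
    | succ n hn ih =>
      have := Tower.isIso_homology_truncTowerMap X n m (by omega)
      rw [← cancel_mono (H.map (CohCx.truncTowerMap X n)), zero_comp, assoc, ← H.map_comp,
        DLim.rlim_comp_t hL n]
      exact ih
  have hπ : IsIso (H.map e ≫ H.map (a M)) := by
    rw [← H.map_comp, hea]
    exact H9Misc.isIso_map_truncGEπ (-(M : ℤ)) m (by omega) X
  have : IsIso (H.map (a M)) :=
    have : Epi (H.map (a M)) := epi_of_epi (H.map e) _
    isIso_of_mono_of_epi _
  exact IsIso.of_isIso_comp_right (H.map e) (H.map (a M))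


end Groth.Agent.IndCoh.WayOut

namespace Groth.Agent.IndCoh.WayOut

open Groth.Agent.SiteCmpLib DerivedAdj TotalRight LocClass ModBounded

variable {C : Type u} [SmallCategory C] {J : GrothendieckTopology C} {O_C : Sheaf J CommRingCat.{u}}
  {D : Type u} [SmallCategory D] {K : GrothendieckTopology D} {O_D : Sheaf K CommRingCat.{u}}
  (f : ModSite.RMor O_C O_D) (A : ObjectProperty (ModSite.Mod O_C)) [A.ContainsZero] [A.IsClosedUnderIsomorphisms]

/-- Cohomological dimension bounded upstairs: the derived direct image is right way-out. -/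
theorem isLE_rpushD [SiteCmp.HasRpushD f] {B : Set C} (hB : Covers J B) (hA : LocCd (A := A) J B id) (N : ℤ)
    (hN : ∀ M, A M → ((model f.push).obj ((singleFunctor _ 0).obj M)).IsLE N)
    {B' : Set D} (hB' : Covers K B') (hA' : LocCd (A := A) K B' f.fn.obj)
    (Z : DerivedCategory (ModSite.Mod O_C)) (b : ℤ) (hZ : WSerre.cohIn A Z) (hb : Z.IsLE b) :
    ((SiteCmp.RpushD f).obj Z).IsLE (b + N) := by
  obtain ⟨hc, ht⟩ := exists_triangulated_model f.push
  let R := model f.push
  have bounded : ∀ (W : DerivedCategory (ModSite.Mod O_C)) (a : ℤ), W.IsGE a → W.IsLE b → WSerre.cohIn A W →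
      (R.obj W).IsLE (b + N) := fun W a ha hb' hW => by
    refine bounded_induction_le A (fun V => (R.obj V).IsLE (b + N))
      (fun e hV => (TStructure.t (C := ModSite.Mod O_D)).isLE_of_iso (R.mapIso e) (b + N))
      (fun T hT h₁ h₃ => (TStructure.t (C := ModSite.Mod O_D)).isLE₂ _ (R.map_distinguished T hT) (b + N) h₁ h₃)
      W a b ha hb' (fun p M hp hM => ?_) hW
    obtain ⟨e⟩ := WayOutLeft.single_shift_iso R p M
    have := hN M hM
    have : (TStructure.t (C := ModSite.Mod O_D)).IsLE ((R.obj ((singleFunctor _ 0).obj M))⟦-p⟧) (N + p) :=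
      (TStructure.t (C := ModSite.Mod O_D)).isLE_shift _ N (-p) (N + p) (by omega)
    have : (TStructure.t (C := ModSite.Mod O_D)).IsLE (R.obj ((singleFunctor _ p).obj M)) (N + p) :=
      (TStructure.t (C := ModSite.Mod O_D)).isLE_of_iso e (N + p)
    exact (TStructure.t (C := ModSite.Mod O_D)).isLE_of_le _ (N + p) (b + N) (by omega)
  have main : (R.obj Z).IsLE (b + N) := by
    refine (isLE_iff _ _).2 fun j hj => ?_
    refine isZero_homology_of_rlim f.adj A (ModTest.isTest O_D) hB'
      (fun V hV => cdBound_pull f hA' V hV)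
      (isRlimVia_trunc A (ModTest.isTest O_C) hB (fun V hV => cdBound_id hA V hV) Z hZ) 0 (-1)
      (smallCones_trunc A Z hZ) j fun n _ => ?_
    have := bounded (CohCx.truncTower Z n) (-(n : ℤ))
      (inferInstanceAs ((TStructure.t (C := ModSite.Mod O_C)).IsGE _ (-(n : ℤ))))
      (Bounded.isLE_truncGE Z _ b hb) (cohIn_truncGE A hZ _)
    exact isZero_of_isLE _ (b + N) j hj
  obtain ⟨e⟩ := exists_iso_model f.push
  exact (TStructure.t (C := ModSite.Mod O_D)).isLE_of_iso (e.app Z) (b + N)

end Groth.Agent.IndCoh.WayOut
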